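import Cfsg.Agent.H41.UTen.Basic

/-!
Additive sets of skew Hermitian matrices invariant under congruence by `SU`: either a matrix is scalar,
or the set contains a rank-one matrix with isotropic vector.
-/

set_option autoImplicit false
set_option linter.unusedSectionVars false
set_option linter.unusedSimpArgs false

namespace H41.UTen

open Matrix Cfsg H50
open H51 (adj adj_mul adj_add adj_smul adj_one adj_zero adj_adj adj_sub adj_neg adj_apply)

variable {F : Type*} [Field F] {n q : ℕ}

/-- `a a*`. -/
def outer (q : ℕ) (a : Fin n → F) : Matrix (Fin n) (Fin n) F := Matrix.vecMulVec a (fun l => a l ^ q)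

theorem outer_mulVec (a x : Fin n → F) : outer q a *ᵥ x = hermForm n F q x a • a := by
  funext i
  simp only [outer, Matrix.mulVec, dotProduct, Matrix.vecMulVec_apply, hermForm, Pi.smul_apply, smul_eq_mul,
    Finset.sum_mul]
  exact Finset.sum_congr rfl fun l _ => by ring

variable [Fintype F]

/-- A set of matrices closed under sums, real multiples and congruence by `SU`. -/
structure KInv (hF : Fintype.card F = q ^ 2) (K : Matrix (Fin n) (Fin n) F → Prop) : Prop where
  add : ∀ {S T}, K S → K T → K (S + T)
  neg : ∀ {S}, K S → K (-S)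
  smul : ∀ {S} {c : F}, c ^ q = c → c ≠ 0 → K S → K (c • S)
  congr : ∀ {A S}, adj hF A * A = 1 → A.det = 1 → K S → K (A * S * adj hF A)

variable (hF : Fintype.card F = q ^ 2)
include hF

theorem adj_outer (a : Fin n → F) : adj hF (outer q a) = outer q a := by
  ext i j
  simp only [adj_apply, outer, Matrix.vecMulVec_apply, mul_pow, pow_q_pow_q hF]
  ring

theorem h_mulVec_right (S : Matrix (Fin n) (Fin n) F) (x y : Fin n → F) :
    hermForm n F q x (S *ᵥ y) = hermForm n F q (adj hF S *ᵥ x) y := by
  simp only [hermForm, Matrix.mulVec, dotProduct, sum_pow_q hF, mul_pow, adj_apply, Finset.mul_sum, Finset.sum_mul]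
  rw [Finset.sum_comm]
  exact Finset.sum_congr rfl fun j _ => Finset.sum_congr rfl fun i _ => by ring

theorem conj_vecMulVec (A : Matrix (Fin n) (Fin n) F) (x y : Fin n → F) :
    A * Matrix.vecMulVec x (fun l => y l ^ q) * adj hF A =
      Matrix.vecMulVec (A *ᵥ x) (fun l => (A *ᵥ y) l ^ q) := by
  rw [Matrix.mul_vecMulVec, Matrix.vecMulVec_mul]
  congr 1
  funext j
  simp only [Matrix.vecMul, dotProduct, adj_apply, Matrix.mulVec, sum_pow_q hF, mul_pow]
  exact Finset.sum_congr rfl fun i _ => mul_comm _ _

/-- A matrix whose form vanishes on the isotropic vectors is scalar. -/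
theorem scalar_of_iso (hn : 2 ≤ n) (S : Matrix (Fin n) (Fin n) F)
    (h : ∀ a : Fin n → F, a ≠ 0 → hermForm n F q a a = 0 → hermForm n F q (S *ᵥ a) a = 0) :
    ∃ s : F, S = s • 1 := by
  classical
  have key : ∀ i l, i ≠ l → S l i = 0 ∧ S i i = S l l := by
    intro i l hil
    have hcard := H50.card_norm_eq hF (c := (-1 : F)) (by rw [neg_pow_q hF, one_pow]) (neg_ne_zero.2 one_ne_zero)
    rw [Nat.card_eq_fintype_card, Fintype.card_subtype] at hcard
    obtain ⟨ε₁, h₁, ε₂, h₂, ε₃, h₃, h12, h13, h23⟩ := Finset.two_lt_card.1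
      (show 2 < (Finset.univ.filter fun x : F => x ^ (q + 1) = -1).card by rw [hcard]; have := two_le hF; omega)
    simp only [Finset.mem_filter, Finset.mem_univ, true_and] at h₁ h₂ h₃
    have hv : ∀ ε : F, ε ^ (q + 1) = -1 → S i l * ε ^ 2 + (S i i - S l l) * ε - S l i = 0 := by
      intro ε hε
      rw [pow_succ] at hε
      let a : Fin n → F := Pi.single i 1 + ε • Pi.single l 1
      have ha : hermForm n F q a a = 0 := by
        simp only [a, h_add_left, h_add_right hF, h_smul_left, h_smul_right hF, h_single_single hF,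
          if_neg hil, if_neg hil.symm, if_pos]
        linear_combination hε
      have ha0 : a ≠ 0 := fun e => by
        have := congrFun e i
        simp [a, hil] at this
      have := h a ha0 ha
      simp only [a, Matrix.mulVec_add, Matrix.mulVec_smul, Matrix.mulVec_single_one, h_add_left, h_add_right hF,
        h_smul_left, h_smul_right hF, h_single_right hF, Matrix.col_apply, Pi.add_apply, Pi.smul_apply, smul_eq_mul] at this
      linear_combination ε * this - (S l i + ε * S l l) * hε
    have e1 := hv ε₁ h₁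
    have e2 := hv ε₂ h₂
    have e3 := hv ε₃ h₃
    have f12 : (ε₁ + ε₂) * S i l + (S i i - S l l) = 0 := mul_left_cancel₀ (sub_ne_zero.2 h12) (by
      linear_combination e1 - e2)
    have f13 : (ε₁ + ε₃) * S i l + (S i i - S l l) = 0 := mul_left_cancel₀ (sub_ne_zero.2 h13) (by
      linear_combination e1 - e3)
    have hb : S i l = 0 := mul_left_cancel₀ (sub_ne_zero.2 h23) (by linear_combination f12 - f13)
    have hd : S i i - S l l = 0 := by linear_combination f12 - (ε₁ + ε₂) * hb
    exact ⟨by linear_combination -e1 + ε₁ ^ 2 * hb + ε₁ * hd, sub_eq_zero.1 hd⟩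
  let i₀ : Fin n := ⟨0, by omega⟩
  refine ⟨S i₀ i₀, ?_⟩
  ext i l
  rcases eq_or_ne i l with rfl | hil
  · rcases eq_or_ne i i₀ with rfl | hi
    · simp
    · simp [(key i i₀ hi).2]
  · simp [hil, (key l i (Ne.symm hil)).1]

/-- The dichotomy. -/
theorem KInv.scalar_or_rankOne {K : Matrix (Fin n) (Fin n) F → Prop} (hK : KInv hF K) (hn : 2 ≤ n)
    (hex : ¬ (n = 2 ∧ q = 2)) {S : Matrix (Fin n) (Fin n) F} (hS : adj hF S = -S)
    (hd : ∀ A : Matrix (Fin n) (Fin n) F, adj hF A * A = 1 → A.det = 1 → K (A * S * adj hF A - S)) :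
    (∃ s : F, S = s • 1) ∨
      ∃ (a : Fin n → F) (l : F), a ≠ 0 ∧ hermForm n F q a a = 0 ∧ l ≠ 0 ∧ l + l ^ q = 0 ∧ K (l • outer q a) := by
  classical
  by_cases hiso : ∀ a : Fin n → F, a ≠ 0 → hermForm n F q a a = 0 → hermForm n F q (S *ᵥ a) a = 0
  · exact Or.inl (scalar_of_iso hF hn S hiso)
  right
  simp only [not_forall] at hiso
  obtain ⟨a, ha0, ha, hγ⟩ := hiso
  set γ := hermForm n F q (S *ᵥ a) a with hγdef
  have hγq : γ ^ q = -γ := by
    rw [hγdef, ← h_symm hF, h_mulVec_right hF, hS, Matrix.neg_mulVec, h_neg_left]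
  set O := outer q a with hO
  have hOO : O * O = 0 := Matrix.ext_of_mulVec_single fun i => by
    rw [← Matrix.mulVec_mulVec, hO, outer_mulVec, outer_mulVec, h_smul_left, ha, mul_zero, zero_smul,
      Matrix.zero_mulVec]
  have hOSO : O * S * O = γ • O := Matrix.ext_of_mulVec_single fun i => by
    rw [← Matrix.mulVec_mulVec, ← Matrix.mulVec_mulVec, hO]
    simp only [outer_mulVec, Matrix.mulVec_smul, h_smul_left, Matrix.smul_mulVec, smul_smul, ← hγdef]
    rw [mul_comm]
  have hD : ∀ l : F, l + l ^ q = 0 → K (l • (O * S) + l ^ q • (S * O) + (l * l ^ q * γ) • O) := by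
    intro l hl
    have hu : adj hF (1 + l • O) * (1 + l • O) = 1 := by
      rw [adj_add, adj_one, adj_smul, hO, adj_outer hF, ← hO]
      simp only [Matrix.add_mul, Matrix.mul_add, Matrix.one_mul, Matrix.mul_one, Matrix.smul_mul, Matrix.mul_smul,
        hOO, smul_zero, add_zero]
      rw [add_assoc, ← add_smul]
      first
        | rw [hl, zero_smul, add_zero]
        | rw [show l ^ q + l = 0 by linear_combination hl, zero_smul, add_zero]
    have hdet : (1 + l • O).det = 1 := det_one_add_cube hF (by
      simp [Matrix.smul_mul, Matrix.mul_smul, hOO])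
    have h1 := hd _ hu hdet
    have e : (1 + l • O) * S * adj hF (1 + l • O) - S =
        l • (O * S) + l ^ q • (S * O) + (l * l ^ q * γ) • O := by
      rw [adj_add, adj_one, adj_smul, hO, adj_outer hF, ← hO]
      simp only [Matrix.add_mul, Matrix.mul_add, Matrix.one_mul, Matrix.mul_one, Matrix.smul_mul, Matrix.mul_smul,
        hOSO, smul_smul, smul_add]
      rw [show l ^ q * (l * γ) = l * l ^ q * γ by ring]
      abel
    rwa [e] at h1
  by_cases hq : 3 ≤ q
  · obtain ⟨c, hc, hc0, hc1⟩ : ∃ c : F, c ^ q = c ∧ c ≠ 0 ∧ c ≠ 1 := by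
      have hcard := card_fixed hF
      rw [Nat.card_eq_fintype_card, Fintype.card_subtype] at hcard
      obtain ⟨c, hc, hne⟩ := Finset.exists_mem_notMem_of_card_lt_card (s := ({0, 1} : Finset F))
        (t := Finset.univ.filter fun x : F => x ^ q = x) (lt_of_le_of_lt Finset.card_le_two (by omega))
      simp only [Finset.mem_insert, Finset.mem_singleton, not_or] at hne
      exact ⟨c, (Finset.mem_filter.1 hc).2, hne.1, hne.2⟩
    obtain ⟨l, hl0, hl⟩ := exists_trace_zero_ne_zero hF
    have h1 := hD l hl
    have h2 := hD (c * l) (by rw [mul_pow, hc, ← mul_add, hl, mul_zero])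
    have h3 := hK.add h2 (hK.neg (hK.smul hc hc0 h1))
    refine ⟨a, (c * c - c) * (l * l ^ q) * γ, ha0, ha, ?_, ?_, ?_⟩
    · refine mul_ne_zero (mul_ne_zero ?_ (mul_ne_zero hl0 (pow_ne_zero _ hl0))) hγ
      rw [← mul_sub_one]
      exact mul_ne_zero hc0 (sub_ne_zero.2 hc1)
    · simp only [mul_pow, sub_pow_q hF, hc, hγq, pow_q_pow_q hF]
      ring
    · convert h3 using 1
      simp only [mul_pow, hc, smul_add, smul_smul, hO]
      module
  · obtain rfl : q = 2 := by have := two_le hF; omega
    have hn3 : 3 ≤ n := by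
      by_contra hcon
      exact hex ⟨by omega, rfl⟩
    have h2F : (2 : F) = 0 := by
      obtain ⟨p, f, hp, hf, hc', hqp⟩ := exists_prime_pow hF
      obtain rfl : p = 2 := ((Nat.prime_dvd_prime_iff_eq hp Nat.prime_two).1
        (by rw [hqp]; exact dvd_pow_self p hf.ne'))
      exact CharTwo.two_eq_zero
    have hneg : ∀ x : F, -x = x := fun x => by linear_combination -x * h2F
    have hnegM : ∀ M : Matrix (Fin n) (Fin n) F, -M = M := fun M => by
      ext i j; exact hneg _
    have hγ1 : γ = 1 := by
      have : γ * (γ - 1) = 0 := by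
        rw [hneg] at hγq
        linear_combination hγq
      exact sub_eq_zero.1 ((mul_eq_zero.1 this).resolve_left hγ)
    set w := S *ᵥ a with hw
    let E : (Fin n → F) → Matrix (Fin n) (Fin n) F := fun d =>
      Matrix.vecMulVec a (fun i => d i ^ 2) + Matrix.vecMulVec d (fun i => a i ^ 2)
    have hEadd : ∀ x y, E (x + y) = E x + E y := fun x y => by
      ext i j
      simp only [E, Matrix.add_apply, Matrix.vecMulVec_apply, Pi.add_apply, add_pow_q hF]
      ring
    have hOS : O * S = Matrix.vecMulVec a (fun i => w i ^ 2) := Matrix.ext fun i j => by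
      have hS' : ∀ k, S k j = S j k ^ 2 := fun k => by
        have := congrFun (congrFun (hS.trans (hnegM S)) k) j
        rw [← this, adj_apply]
      simp only [hO, outer, Matrix.mul_apply, Matrix.vecMulVec_apply, hw, Matrix.mulVec, dotProduct,
        sum_pow_q hF, Finset.mul_sum]
      exact Finset.sum_congr rfl fun k _ => by rw [hS' k]; ring
    have hSO : S * O = Matrix.vecMulVec w (fun i => a i ^ 2) := by
      rw [hO, outer, Matrix.mul_vecMulVec]
    have h1 : K (E w + O) := by
      have := hD 1 (by rw [one_pow]; linear_combination h2F)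
      simpa [E, hγ1, hOS, hSO] using this
    have hwa : hermForm n F 2 w a = 1 := hγ1
    -- a unit vector orthogonal to `a` and `w`
    obtain ⟨ξ, hξ⟩ := exists_trace_eq hF (c := -hermForm n F 2 w w) (by rw [neg_pow_q hF, h_self_fixed hF])
    have haw : hermForm n F 2 a w = 1 := by rw [h_symm hF w a, hwa, one_pow]
    have hhyp : IsHyp 2 a (w + ξ • a) := ⟨ha, by
      simp only [h_add_left, h_add_right hF, h_smul_left, h_smul_right hF, ha, haw, hwa]
      linear_combination hξ, by simp [h_add_right hF, h_smul_right hF, ha, haw]⟩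
    obtain ⟨z, hzz, hza, hzw'⟩ := exists_norm_one_perp_hyp hF hn3 hhyp
    have hzw : hermForm n F 2 z w = 0 := by
      simpa [h_add_right hF, h_smul_right hF, hza] using hzw'
    obtain ⟨c, hc⟩ := exists_trace_eq hF (c := (-1 : F)) (by rw [neg_pow_q hF, one_pow])
    have hstep : ∀ ζ : F, ζ * ζ ^ 2 = 1 → K (E (ζ • z + c • a)) := by
      intro ζ hζ
      set z' := ζ • z with hz'
      let N : Matrix (Fin n) (Fin n) F := Matrix.vecMulVec z' (fun i => a i ^ 2) -
        Matrix.vecMulVec a (fun i => z' i ^ 2) + c • outer 2 a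
      have hz'z' : hermForm n F 2 z' z' = 1 := by rw [hz', h_smul_left, h_smul_right hF, hzz, mul_one, hζ]
      have hz'a : hermForm n F 2 z' a = 0 := by rw [hz', h_smul_left, hza, mul_zero]
      have hwz : hermForm n F 2 w z' = 0 := by
        rw [hz', h_smul_right hF, (h_eq_zero_comm hF).1 hzw, mul_zero]
      have hNv : ∀ x, (1 + N) *ᵥ x = x + (hermForm n F 2 x a • z' - hermForm n F 2 x z' • a +
          c • hermForm n F 2 x a • a) := by
        intro x
        have e : ∀ p r : Fin n → F, Matrix.vecMulVec p (fun i => r i ^ 2) *ᵥ x = hermForm n F 2 x r • p := by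
          intro p r
          funext i
          simp only [Matrix.mulVec, dotProduct, Matrix.vecMulVec_apply, hermForm, Pi.smul_apply, smul_eq_mul,
            Finset.sum_mul]
          exact Finset.sum_congr rfl fun l _ => by ring
        simp only [N, Matrix.add_mulVec, Matrix.one_mulVec, Matrix.sub_mulVec, Matrix.smul_mulVec, e, outer_mulVec]
      have haz' : hermForm n F 2 a z' = 0 := (h_eq_zero_comm hF).1 hz'a
      have hu : adj hF (1 + N) * (1 + N) = 1 := (isIso_iff hF).1 fun x y => by
        rw [hNv, hNv]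
        simp only [h_add_left, h_add_right hF, h_sub_left, h_sub_right hF, h_smul_left, h_smul_right hF, ha, hz'a,
          haz', hz'z', ← h_symm hF]
        linear_combination (hermForm n F 2 x a * hermForm n F 2 a y) * hc
      have hdet : (1 + N).det = 1 := det_one_add_cube hF (Matrix.ext_of_mulVec_single fun i => by
        have e : ∀ x, N *ᵥ x = hermForm n F 2 x a • z' - hermForm n F 2 x z' • a +
            c • hermForm n F 2 x a • a := fun x => by
          have := hNv x
          rw [Matrix.add_mulVec, Matrix.one_mulVec] at this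
          exact add_left_cancel this
        simp only [← Matrix.mulVec_mulVec, e, h_add_left, h_sub_left, h_smul_left, ha, hz'a, haz', hz'z',
          Matrix.zero_mulVec]
        module)
      have hAa : (1 + N) *ᵥ a = a := by rw [hNv]; simp [ha, haz']
      have hAw : (1 + N) *ᵥ w = w + (z' + c • a) := by rw [hNv]; simp [hwa, hwz]
      have h2 := hK.congr hu hdet h1
      have e : ∀ A : Matrix (Fin n) (Fin n) F, A *ᵥ a = a → A * (E w + O) * adj hF A = E (A *ᵥ w) + O := by
        intro A hA
        simp only [E, hO, outer, Matrix.mul_add, Matrix.add_mul, conj_vecMulVec hF, hA]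
      rw [e _ hAa, hAw, hEadd] at h2
      convert hK.add h2 (hK.neg h1) using 1
      abel
    obtain ⟨ω, hω0, hω1⟩ : ∃ ω : F, ω ≠ 0 ∧ ω ≠ 1 := by
      obtain ⟨c, -, hne⟩ := Finset.exists_mem_notMem_of_card_lt_card (s := ({0, 1} : Finset F))
        (t := Finset.univ) (lt_of_le_of_lt Finset.card_le_two (by rw [Finset.card_univ, hF]; norm_num))
      simp only [Finset.mem_insert, Finset.mem_singleton, not_or] at hne
      exact ⟨c, hne.1, hne.2⟩
    have hω3 : ω ^ 3 = 1 := by
      have := FiniteField.pow_card_sub_one_eq_one ω hω0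
      rw [hF] at this
      exact this
    have hsum : ω ^ 2 + ω + 1 = 0 := mul_left_cancel₀ (sub_ne_zero.2 hω1) (by linear_combination hω3)
    have h4 := hK.add (hK.add (hstep 1 (by simp)) (hstep ω (by linear_combination hω3)))
      (hstep (ω ^ 2) (by linear_combination (ω ^ 3 + 1) * hω3))
    refine ⟨a, 1, ha0, ha, one_ne_zero, by rw [one_pow]; linear_combination h2F, ?_⟩
    convert h4 using 1
    rw [← hEadd, ← hEadd]
    have e : (1 : F) • z + c • a + (ω • z + c • a) + (ω ^ 2 • z + c • a) = c • a := by
      have e1 : (1 : F) • z + c • a + (ω • z + c • a) + (ω ^ 2 • z + c • a) =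
          (ω ^ 2 + ω + 1) • z + ((c + c) • a + c • a) := by module
      rw [e1, hsum, zero_smul, zero_add, show c + c = 0 by linear_combination c * h2F, zero_smul, zero_add]
    rw [e]
    ext i j
    simp only [E, outer, Matrix.add_apply, Matrix.vecMulVec_apply, Pi.smul_apply, smul_eq_mul, mul_pow,
      Matrix.smul_apply]
    linear_combination (-(a i * a j ^ 2)) * hc + (a i * a j ^ 2) * h2F

end H41.UTen
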