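import Cfsg.Agent.H51.TensorTwo
import Cfsg.Agent.H41.UDec.BlockVec

/-!
Matrix algebra on a tensor product of two unitary spaces: columns `cv n₁ v : W₁ → W₁ ⊗ v`,
the unipotent elements `Qm v G S` of the stabiliser of a column.
-/

set_option autoImplicit false
set_option linter.unusedSectionVars false
set_option linter.unusedSimpArgs false

namespace H41.UTen

open Matrix Cfsg H50
open scoped Kronecker
open H51 (adj adj_mul adj_add adj_smul adj_one adj_zero adj_adj adj_sub adj_neg adj_kronecker adj_apply)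

variable {F : Type*} [Field F] {n₁ n₂ q : ℕ}

/-- The column of `v`: the matrix of `a ↦ a ⊗ v`. -/
def cv (n₁ : ℕ) (v : Fin n₂ → F) : Matrix (Fin n₁ × Fin n₂) (Fin n₁) F :=
  Matrix.of fun p a => if p.1 = a then v p.2 else 0

theorem cv_apply (v : Fin n₂ → F) (p : Fin n₁ × Fin n₂) (a : Fin n₁) :
    (cv n₁ v : Matrix (Fin n₁ × Fin n₂) (Fin n₁) F) p a = if p.1 = a then v p.2 else 0 := rfl

/-- A matrix is a Kronecker product. -/
def IsT (X : Matrix (Fin n₁ × Fin n₂) (Fin n₁ × Fin n₂) F) : Prop :=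
  ∃ (A : Matrix (Fin n₁) (Fin n₁) F) (B : Matrix (Fin n₂) (Fin n₂) F), X = A ⊗ₖ B

theorem IsT.mul {X Y : Matrix (Fin n₁ × Fin n₂) (Fin n₁ × Fin n₂) F} (hX : IsT X) (hY : IsT Y) : IsT (X * Y) := by
  obtain ⟨A, B, rfl⟩ := hX
  obtain ⟨C, D, rfl⟩ := hY
  exact ⟨A * C, B * D, by rw [Matrix.mul_kronecker_mul]⟩

theorem IsT.one : IsT (1 : Matrix (Fin n₁ × Fin n₂) (Fin n₁ × Fin n₂) F) :=
  ⟨1, 1, (Matrix.one_kronecker_one).symm⟩

theorem cv_add (u v : Fin n₂ → F) : (cv n₁ (u + v) : Matrix (Fin n₁ × Fin n₂) (Fin n₁) F) = cv n₁ u + cv n₁ v := by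
  ext p a; simp only [cv_apply, Matrix.add_apply, Pi.add_apply]; split <;> simp

theorem cv_smul (c : F) (v : Fin n₂ → F) :
    (cv n₁ (c • v) : Matrix (Fin n₁ × Fin n₂) (Fin n₁) F) = c • cv n₁ v := by
  ext p a; simp only [cv_apply, Matrix.smul_apply, Pi.smul_apply]; split <;> simp

theorem cv_zero : (cv n₁ (0 : Fin n₂ → F) : Matrix (Fin n₁ × Fin n₂) (Fin n₁) F) = 0 := by
  ext p a; simp [cv_apply]

theorem cv_sub (u v : Fin n₂ → F) : (cv n₁ (u - v) : Matrix (Fin n₁ × Fin n₂) (Fin n₁) F) = cv n₁ u - cv n₁ v := by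
  rw [sub_eq_add_neg, cv_add, ← neg_one_smul F v, cv_smul, neg_one_smul, ← sub_eq_add_neg]

theorem kron_cv (A : Matrix (Fin n₁) (Fin n₁) F) (B : Matrix (Fin n₂) (Fin n₂) F) (u : Fin n₂ → F) :
    (A ⊗ₖ B) * (cv n₁ u : Matrix (Fin n₁ × Fin n₂) (Fin n₁) F) = cv n₁ (B *ᵥ u) * A := by
  ext ⟨i, j⟩ a
  simp only [Matrix.mul_apply, Fintype.sum_prod_type, cv_apply, Matrix.kroneckerMap_apply, Matrix.mulVec,
    dotProduct, mul_ite, mul_zero, ite_mul, zero_mul, Finset.sum_ite_eq, Finset.mem_univ, if_true]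
  rw [Finset.sum_comm]
  simp only [Finset.sum_ite_eq', Finset.mem_univ, if_true, Finset.sum_mul]
  exact Finset.sum_congr rfl fun l _ => by ring

theorem one_kron_cv (B : Matrix (Fin n₂) (Fin n₂) F) (u : Fin n₂ → F) :
    ((1 : Matrix (Fin n₁) (Fin n₁) F) ⊗ₖ B) * (cv n₁ u : Matrix (Fin n₁ × Fin n₂) (Fin n₁) F) = cv n₁ (B *ᵥ u) := by
  rw [kron_cv, Matrix.mul_one]

theorem cv_mulVec (v : Fin n₂ → F) (a : Fin n₁ → F) :
    (cv n₁ v : Matrix (Fin n₁ × Fin n₂) (Fin n₁) F) *ᵥ a = fun p => a p.1 * v p.2 := by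
  funext p
  simp [Matrix.mulVec, dotProduct, cv_apply, mul_comm]

theorem cv_mulVec_injective {v : Fin n₂ → F} (hv : v ≠ 0) :
    Function.Injective ((cv n₁ v : Matrix (Fin n₁ × Fin n₂) (Fin n₁) F) *ᵥ ·) := by
  intro a b h
  obtain ⟨j, hj⟩ := Function.ne_iff.1 hv
  funext i
  simp only [cv_mulVec] at h
  exact mul_right_cancel₀ hj (congrFun h (i, j))

theorem mat_ext_cv {κ : Type*} {X Y : Matrix κ (Fin n₁ × Fin n₂) F}
    (h : ∀ x : Fin n₂ → F, X * cv n₁ x = Y * cv n₁ x) : X = Y := by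
  ext r ⟨i, j⟩
  have := congrFun (congrFun (h (Pi.single j 1)) r) i
  simpa [Matrix.mul_apply, cv_apply, Fintype.sum_prod_type, Pi.single_apply] using this

variable [Fintype F] (hF : Fintype.card F = q ^ 2)
include hF

theorem adj_cv_mul (u v : Fin n₂ → F) :
    adj hF (cv n₁ v) * (cv n₁ u : Matrix (Fin n₁ × Fin n₂) (Fin n₁) F) = hermForm n₂ F q u v • (1 : Matrix (Fin n₁) (Fin n₁) F) := by
  ext a b
  simp only [Matrix.mul_apply, adj_apply, cv_apply, Fintype.sum_prod_type, Matrix.smul_apply, smul_eq_mul,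
    hermForm, Finset.sum_mul]
  rw [Finset.sum_comm]
  refine Finset.sum_congr rfl fun j _ => ?_
  rw [Finset.sum_eq_single a]
  · by_cases h : a = b
    · subst h; simp [mul_comm]
    · simp [h, Matrix.one_apply_ne h]
  · intro i _ hi; simp [hi, zero_pow (q_ne_zero hF)]
  · simp

theorem adj_cv_kron_cv (A : Matrix (Fin n₁) (Fin n₁) F) (B : Matrix (Fin n₂) (Fin n₂) F) (u v : Fin n₂ → F) :
    adj hF (cv n₁ v) * ((A ⊗ₖ B) * (cv n₁ u : Matrix (Fin n₁ × Fin n₂) (Fin n₁) F)) = hermForm n₂ F q (B *ᵥ u) v • A := by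
  rw [kron_cv, ← Matrix.mul_assoc, adj_cv_mul hF, Matrix.smul_mul, Matrix.one_mul]

theorem adj_cv_smul (c : F) (v : Fin n₂ → F) :
    adj hF (cv n₁ (c • v) : Matrix (Fin n₁ × Fin n₂) (Fin n₁) F) = c ^ q • adj hF (cv n₁ v) := by
  rw [cv_smul, adj_smul]

theorem cv_mul_adj (u v : Fin n₂ → F) :
    (cv n₁ u : Matrix (Fin n₁ × Fin n₂) (Fin n₁) F) * adj hF (cv n₁ v) = 1 ⊗ₖ Matrix.vecMulVec u (fun l => v l ^ q) := by
  ext ⟨i, j⟩ ⟨i', j'⟩
  simp only [Matrix.mul_apply, adj_apply, cv_apply, Matrix.kroneckerMap_apply, Matrix.vecMulVec_apply,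
    ite_mul, zero_mul, Finset.sum_ite_eq, Finset.mem_univ, if_true]
  by_cases h : i' = i
  · subst h; simp
  · simp [h, Matrix.one_apply_ne (Ne.symm h), zero_pow (q_ne_zero hF)]

theorem adj_cv_zero_of_perp {u v : Fin n₂ → F} (h : hermForm n₂ F q u v = 0) :
    adj hF (cv n₁ v) * (cv n₁ u : Matrix (Fin n₁ × Fin n₂) (Fin n₁) F) = 0 := by rw [adj_cv_mul hF, h, zero_smul]

/-- Isometry matrices as adjoint conditions. -/
theorem isIso_iff {n : ℕ} {M : Matrix (Fin n) (Fin n) F} : IsIso q M ↔ adj hF M * M = 1 := by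
  constructor
  · intro h
    have h0 := h.det_ne_zero hF
    exact (H51.mem_GU_iff hF (Matrix.GeneralLinearGroup.mkOfDetNeZero M h0)).1 h
  · intro h
    exact (H51.mem_GU_iff hF (H51.mkGL hF M h)).2 h

theorem mul_adj_of_uni {κ : Type*} [Fintype κ] [DecidableEq κ] {X : Matrix κ κ F} (h : adj hF X * X = 1) :
    X * adj hF X = 1 := mul_eq_one_comm.mp h

theorem uni_mul {κ : Type*} [Fintype κ] [DecidableEq κ] {X Y : Matrix κ κ F} (hX : adj hF X * X = 1)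
    (hY : adj hF Y * Y = 1) : adj hF (X * Y) * (X * Y) = 1 := by
  rw [adj_mul, Matrix.mul_assoc, ← Matrix.mul_assoc (adj hF X), hX, Matrix.one_mul, hY]

theorem uni_adj {κ : Type*} [Fintype κ] [DecidableEq κ] {X : Matrix κ κ F} (hX : adj hF X * X = 1) :
    adj hF (adj hF X) * adj hF X = 1 := by
  rw [adj_adj]; exact mul_adj_of_uni hF hX

theorem uni_kron {A : Matrix (Fin n₁) (Fin n₁) F} {B : Matrix (Fin n₂) (Fin n₂) F}
    (hA : adj hF A * A = 1) (hB : adj hF B * B = 1) : adj hF (A ⊗ₖ B) * (A ⊗ₖ B) = 1 := by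
  rw [adj_kronecker hF, ← Matrix.mul_kronecker_mul, hA, hB, Matrix.one_kronecker_one]

theorem uni_mulVec_injective {κ : Type*} [Fintype κ] [DecidableEq κ] {X : Matrix κ κ F}
    (h : adj hF X * X = 1) : Function.Injective (X *ᵥ ·) := by
  intro a b hab
  have := congrArg (adj hF X *ᵥ ·) hab
  simpa [Matrix.mulVec_mulVec, h] using this

theorem IsT.adj {X : Matrix (Fin n₁ × Fin n₂) (Fin n₁ × Fin n₂) F} (hX : IsT X) : IsT (H51.adj hF X) := by
  obtain ⟨A, B, rfl⟩ := hX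
  exact ⟨_, _, adj_kronecker hF A B⟩

theorem charP_pow_mul {p : ℕ} [CharP F p] [Fact p.Prime] {κ : Type*} [Fintype κ] [DecidableEq κ] [Nonempty κ]
    (X : Matrix κ κ F) : (1 + X) ^ p = 1 + X ^ p := by
  rw [add_pow_char_of_commute p (Commute.one_left X), one_pow]

/-- A unipotent matrix of class at most three has determinant one. -/
theorem det_one_add_cube {κ : Type*} [Fintype κ] [DecidableEq κ] {N : Matrix κ κ F}
    (hN : N * N * N = 0) : (1 + N).det = 1 := by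
  rcases isEmpty_or_nonempty κ with h | h
  · simp
  obtain ⟨p, f, hp, -, hc, -⟩ := exists_prime_pow hF
  haveI : Fact p.Prime := ⟨hp⟩
  have hN3 : N ^ 3 = 0 := by rw [pow_succ, pow_succ, pow_one]; exact hN
  have h2 : (1 + N) ^ (p * p) = 1 := by
    rw [pow_mul, charP_pow_mul hF, charP_pow_mul hF, ← pow_mul,
      pow_eq_zero_of_le (by have := hp.two_le; nlinarith) hN3, add_zero]
  have h3 := congrArg Matrix.det h2
  rw [Matrix.det_pow, Matrix.det_one, pow_mul] at h3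
  exact frobenius_inj F p (frobenius_inj F p (by simpa [frobenius_def] using h3))

/-- The unipotent element with middle part `G` and central part `S`. -/
def Qm (v : Fin n₂ → F) (G : Matrix (Fin n₁ × Fin n₂) (Fin n₁) F) (S : Matrix (Fin n₁) (Fin n₁) F) :
    Matrix (Fin n₁ × Fin n₂) (Fin n₁ × Fin n₂) F :=
  1 + (G * adj hF (cv n₁ v) - (cv n₁ v : Matrix (Fin n₁ × Fin n₂) (Fin n₁) F) * adj hF G + cv n₁ v * S * adj hF (cv n₁ v))

/-- The central elements. -/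
def Tv (v : Fin n₂ → F) (S : Matrix (Fin n₁) (Fin n₁) F) : Matrix (Fin n₁ × Fin n₂) (Fin n₁ × Fin n₂) F :=
  1 + (cv n₁ v : Matrix (Fin n₁ × Fin n₂) (Fin n₁) F) * S * adj hF (cv n₁ v)

theorem Tv_eq_Qm (v : Fin n₂ → F) (S : Matrix (Fin n₁) (Fin n₁) F) : Tv hF v S = Qm hF v 0 S := by
  simp [Tv, Qm]

theorem adj_Qm (v : Fin n₂ → F) (G : Matrix (Fin n₁ × Fin n₂) (Fin n₁) F) (S : Matrix (Fin n₁) (Fin n₁) F) :
    adj hF (Qm hF v G S) = Qm hF v (-G) (adj hF S) := by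
  simp only [Qm, adj_add, adj_one, adj_sub, adj_mul, adj_adj, adj_neg, Matrix.neg_mul, Matrix.mul_neg,
    Matrix.mul_assoc]
  abel

theorem Qm_mul {v : Fin n₂ → F} (hv : hermForm n₂ F q v v = 0) {G G' : Matrix (Fin n₁ × Fin n₂) (Fin n₁) F}
    (hG : adj hF (cv n₁ v) * G = 0) (hG' : adj hF (cv n₁ v) * G' = 0) (S S' : Matrix (Fin n₁) (Fin n₁) F) :
    Qm hF v G S * Qm hF v G' S' = Qm hF v (G + G') (S + S' - adj hF G * G') := by
  have hcc : adj hF (cv n₁ v) * (cv n₁ v : Matrix (Fin n₁ × Fin n₂) (Fin n₁) F) = 0 := adj_cv_zero_of_perp hF hv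
  have hGv : adj hF G * (cv n₁ v : Matrix (Fin n₁ × Fin n₂) (Fin n₁) F) = 0 := by
    have := congrArg (adj hF) hG
    rwa [adj_mul, adj_adj, adj_zero] at this
  have a1 : ∀ (κ : Type) [Fintype κ] (X : Matrix (Fin n₁) κ F), adj hF (cv n₁ v) * (cv n₁ v * X) = 0 := fun κ _ X => by
    rw [← Matrix.mul_assoc, hcc, Matrix.zero_mul]
  have a2 : ∀ (κ : Type) [Fintype κ] (X : Matrix (Fin n₁) κ F), adj hF G * (cv n₁ v * X) = 0 := fun κ _ X => by
    rw [← Matrix.mul_assoc, hGv, Matrix.zero_mul]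
  have a3 : ∀ (κ : Type) [Fintype κ] (X : Matrix (Fin n₁) κ F), adj hF (cv n₁ v) * (G' * X) = 0 := fun κ _ X => by
    rw [← Matrix.mul_assoc, hG', Matrix.zero_mul]
  simp only [Qm, adj_add, Matrix.add_mul, Matrix.mul_add, Matrix.sub_mul, Matrix.mul_sub, Matrix.one_mul,
    Matrix.mul_one, Matrix.mul_assoc, a1, a2, a3, Matrix.mul_zero, add_zero, sub_zero, zero_sub, zero_add]
  abel

theorem Qm_zero (v : Fin n₂ → F) :
    Qm hF v (0 : Matrix (Fin n₁ × Fin n₂) (Fin n₁) F) 0 = 1 := by simp [Qm]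

theorem Qm_uni {v : Fin n₂ → F} (hv : hermForm n₂ F q v v = 0) {G : Matrix (Fin n₁ × Fin n₂) (Fin n₁) F}
    (hG : adj hF (cv n₁ v) * G = 0) {S : Matrix (Fin n₁) (Fin n₁) F}
    (h : S + adj hF S + adj hF G * G = 0) : adj hF (Qm hF v G S) * Qm hF v G S = 1 := by
  rw [adj_Qm hF, Qm_mul hF hv (by rw [Matrix.mul_neg, hG, neg_zero]) hG, adj_neg, Matrix.neg_mul,
    sub_neg_eq_add, neg_add_cancel, add_comm (adj hF S), h, Qm_zero hF]

theorem Qm_det {v : Fin n₂ → F} (hv : hermForm n₂ F q v v = 0) {G : Matrix (Fin n₁ × Fin n₂) (Fin n₁) F}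
    (hG : adj hF (cv n₁ v) * G = 0) (S : Matrix (Fin n₁) (Fin n₁) F) : (Qm hF v G S).det = 1 := by
  have hcc : adj hF (cv n₁ v) * (cv n₁ v : Matrix (Fin n₁ × Fin n₂) (Fin n₁) F) = 0 := adj_cv_zero_of_perp hF hv
  have hGv : adj hF G * (cv n₁ v : Matrix (Fin n₁ × Fin n₂) (Fin n₁) F) = 0 := by
    have := congrArg (adj hF) hG
    rwa [adj_mul, adj_adj, adj_zero] at this
  have a1 : ∀ (κ : Type) [Fintype κ] (X : Matrix (Fin n₁) κ F), adj hF (cv n₁ v) * (cv n₁ v * X) = 0 := fun κ _ X => by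
    rw [← Matrix.mul_assoc, hcc, Matrix.zero_mul]
  have a2 : ∀ (κ : Type) [Fintype κ] (X : Matrix (Fin n₁) κ F), adj hF G * (cv n₁ v * X) = 0 := fun κ _ X => by
    rw [← Matrix.mul_assoc, hGv, Matrix.zero_mul]
  have a3 : ∀ (κ : Type) [Fintype κ] (X : Matrix (Fin n₁) κ F), adj hF (cv n₁ v) * (G * X) = 0 := fun κ _ X => by
    rw [← Matrix.mul_assoc, hG, Matrix.zero_mul]
  apply det_one_add_cube hF
  simp only [Matrix.add_mul, Matrix.mul_add, Matrix.sub_mul, Matrix.mul_sub, Matrix.mul_assoc, a1, a2, a3,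
    Matrix.mul_zero, Matrix.zero_mul, add_zero, sub_zero, zero_sub, neg_zero, Matrix.mul_neg, Matrix.neg_mul]

theorem Qm_add_cv (v : Fin n₂ → F) (G : Matrix (Fin n₁ × Fin n₂) (Fin n₁) F) (R S : Matrix (Fin n₁) (Fin n₁) F) :
    Qm hF v (G + cv n₁ v * R) S = Qm hF v G (S + R - adj hF R) := by
  simp only [Qm, adj_add, adj_mul, Matrix.add_mul, Matrix.mul_add, Matrix.sub_mul, Matrix.mul_sub, Matrix.mul_assoc]
  abel

theorem conj_Qm {g : Matrix (Fin n₁ × Fin n₂) (Fin n₁ × Fin n₂) F} (hg : adj hF g * g = 1) {v : Fin n₂ → F}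
    (hv : g * cv n₁ v = cv n₁ v) (G : Matrix (Fin n₁ × Fin n₂) (Fin n₁) F) (S : Matrix (Fin n₁) (Fin n₁) F) :
    g * Qm hF v G S * adj hF g = Qm hF v (g * G) S := by
  have hv' : adj hF (cv n₁ v) * adj hF g = adj hF (cv n₁ v : Matrix (Fin n₁ × Fin n₂) (Fin n₁) F) := by rw [← adj_mul, hv]
  simp only [Qm, Matrix.mul_add, Matrix.add_mul, Matrix.mul_sub, Matrix.sub_mul, Matrix.mul_one,
    mul_adj_of_uni hF hg, adj_mul, Matrix.mul_assoc, hv']
  simp only [← Matrix.mul_assoc, hv]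

theorem conj_Tv {g : Matrix (Fin n₁ × Fin n₂) (Fin n₁ × Fin n₂) F} (hg : adj hF g * g = 1) {u v : Fin n₂ → F}
    {L : Matrix (Fin n₁) (Fin n₁) F} (h : g * cv n₁ u = cv n₁ v * L) (S : Matrix (Fin n₁) (Fin n₁) F) :
    g * Tv hF u S * adj hF g = Tv hF v (L * S * adj hF L) := by
  have h' : adj hF (cv n₁ u) * adj hF g = adj hF L * adj hF (cv n₁ v : Matrix (Fin n₁ × Fin n₂) (Fin n₁) F) := by
    rw [← adj_mul, h, adj_mul]
  simp only [Tv, Matrix.mul_add, Matrix.add_mul, Matrix.mul_one, mul_adj_of_uni hF hg, Matrix.mul_assoc, h']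
  simp only [← Matrix.mul_assoc, h]

theorem Qm_cv (v z : Fin n₂ → F) (c : F) :
    Qm hF v (cv n₁ z : Matrix (Fin n₁ × Fin n₂) (Fin n₁) F) (c • 1) =
      1 ⊗ₖ (1 + (Matrix.vecMulVec z (fun l => v l ^ q) - Matrix.vecMulVec v (fun l => z l ^ q) +
        c • Matrix.vecMulVec v (fun l => v l ^ q))) := by
  rw [Qm, cv_mul_adj hF, cv_mul_adj hF, Matrix.mul_smul, Matrix.mul_one, Matrix.smul_mul, cv_mul_adj hF,
    Matrix.kronecker_add, Matrix.one_kronecker_one, Matrix.kronecker_add, Matrix.kronecker_smul]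
  congr 2
  ext ⟨i, j⟩ ⟨i', j'⟩
  simp [Matrix.kroneckerMap_apply, mul_sub]

theorem Qm_cv_isT (v z : Fin n₂ → F) (c : F) :
    IsT (Qm hF v (cv n₁ z : Matrix (Fin n₁ × Fin n₂) (Fin n₁) F) (c • 1)) := ⟨_, _, Qm_cv hF v z c⟩

theorem Tv_smul_one_isT (v : Fin n₂ → F) (c : F) :
    IsT (Tv hF v (c • (1 : Matrix (Fin n₁) (Fin n₁) F))) := by
  have := Qm_cv_isT (n₁ := n₁) hF v 0 c
  rwa [cv_zero, ← Tv_eq_Qm hF] at this

theorem Qm_cv_uni {v z : Fin n₂ → F} (hv : hermForm n₂ F q v v = 0) (hzv : hermForm n₂ F q z v = 0) {c : F}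
    (hc : c + c ^ q + hermForm n₂ F q z z = 0) :
    adj hF (Qm hF v (cv n₁ z : Matrix (Fin n₁ × Fin n₂) (Fin n₁) F) (c • 1)) * Qm hF v (cv n₁ z) (c • 1) = 1 := by
  refine Qm_uni hF hv (adj_cv_zero_of_perp hF hzv) ?_
  rw [adj_smul, adj_one, adj_cv_mul hF, ← add_smul, ← add_smul, hc, zero_smul]

end H41.UTen
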