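import Cfsg.Agent.H41.UTen.Over
import Cfsg.Agent.H41.UDec.BlockVec
import Cfsg.Agent.H41.UDec.Phases
import Cfsg.Agent.H50.Covering

/-!
An overgroup of the tensor group with one transvection along a pure isotropic tensor contains all
transvections.
-/

set_option autoImplicit false
set_option linter.unusedSectionVars false
set_option linter.unusedSimpArgs false

namespace H41.UTen

open Matrix Cfsg H50
open scoped Kronecker
open H51 (adj adj_mul adj_add adj_smul adj_one adj_zero adj_adj adj_sub adj_neg adj_kronecker adj_apply)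

variable {F : Type*} [Field F] {n₁ n₂ q : ℕ}

/-- The form on a tensor product of standard unitary spaces. -/
def hp (q : ℕ) {κ : Type*} [Fintype κ] (x y : κ → F) : F := ∑ p, x p * y p ^ q

/-- `x x*`. -/
def oP (q : ℕ) {κ : Type*} (x : κ → F) : Matrix κ κ F := Matrix.vecMulVec x (fun p => x p ^ q)

/-- A pure tensor. -/
def pr (a : Fin n₁ → F) (v : Fin n₂ → F) : Fin n₁ × Fin n₂ → F := fun p => a p.1 * v p.2

/-- A row of a tensor. -/
def row (x : Fin n₁ × Fin n₂ → F) (i : Fin n₁) : Fin n₂ → F := fun j => x (i, j)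

theorem pr_eq_cv (a : Fin n₁ → F) (v : Fin n₂ → F) : pr a v = cv n₁ v *ᵥ a := (cv_mulVec v a).symm

theorem pr_add_left (a b : Fin n₁ → F) (v : Fin n₂ → F) : pr (a + b) v = pr a v + pr b v :=
  funext fun p => add_mul _ _ _

theorem pr_add_right (a : Fin n₁ → F) (v w : Fin n₂ → F) : pr a (v + w) = pr a v + pr a w :=
  funext fun p => mul_add _ _ _

theorem pr_smul_right (a : Fin n₁ → F) (c : F) (v : Fin n₂ → F) : pr a (c • v) = c • pr a v :=
  funext fun p => by simp only [pr, Pi.smul_apply, smul_eq_mul]; ring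

theorem pr_smul_left (a : Fin n₁ → F) (c : F) (v : Fin n₂ → F) : pr (c • a) v = c • pr a v :=
  funext fun p => by simp only [pr, Pi.smul_apply, smul_eq_mul]; ring

theorem pr_zero_left (v : Fin n₂ → F) : pr (0 : Fin n₁ → F) v = 0 := funext fun p => zero_mul _

theorem pr_zero_right (a : Fin n₁ → F) : pr a (0 : Fin n₂ → F) = 0 := funext fun p => mul_zero _

section
variable {κ : Type*} [Fintype κ]

theorem hp_add_left (x x' y : κ → F) : hp q (x + x') y = hp q x y + hp q x' y := by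
  simp [hp, add_mul, Finset.sum_add_distrib]

theorem hp_smul_left (c : F) (x y : κ → F) : hp q (c • x) y = c * hp q x y := by
  simp [hp, Finset.mul_sum, mul_assoc]

theorem hp_sub_left (x x' y : κ → F) : hp q (x - x') y = hp q x y - hp q x' y := by
  simp [hp, sub_mul, Finset.sum_sub_distrib]

theorem oP_mulVec (x y : κ → F) : oP q x *ᵥ y = hp q y x • x := by
  funext i
  simp only [oP, Matrix.mulVec, dotProduct, Matrix.vecMulVec_apply, hp, Pi.smul_apply, smul_eq_mul, Finset.sum_mul]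
  exact Finset.sum_congr rfl fun l _ => by ring

variable [Fintype F] (hF : Fintype.card F = q ^ 2)
include hF

theorem hp_symm (x y : κ → F) : hp q y x = hp q x y ^ q := by
  simp only [hp, sum_pow_q hF, mul_pow, pow_q_pow_q hF, mul_comm]

theorem hp_sub_self (x y : κ → F) :
    hp q (x - y) (x - y) = hp q x x - hp q x y - hp q x y ^ q + hp q y y := by
  have h : ∀ z, hp q z (x - y) = hp q z x - hp q z y := fun z => by
    rw [hp_symm hF (x - y) z, hp_sub_left, H50.sub_pow_q hF, ← hp_symm hF, ← hp_symm hF]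
  rw [hp_sub_left, h, h, ← hp_symm hF x y]
  ring

theorem pow_mulVec {ι : Type*} (X : Matrix ι κ F) (y : κ → F) :
    (fun p => (X *ᵥ y) p ^ q) = Matrix.vecMul (fun l => y l ^ q) (adj hF X) := by
  funext j
  simp only [Matrix.vecMul, dotProduct, adj_apply, Matrix.mulVec, sum_pow_q hF, mul_pow]
  exact Finset.sum_congr rfl fun i _ => mul_comm _ _

theorem conj_oP {ι : Type*} [Fintype ι] (X : Matrix ι κ F) (x : κ → F) :
    X * oP q x * adj hF X = oP q (X *ᵥ x) := by
  rw [oP, oP, Matrix.mul_vecMulVec, Matrix.vecMulVec_mul, pow_mulVec hF]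

theorem hp_mulVec {ι : Type*} [Fintype ι] [DecidableEq κ] {X : Matrix ι κ F} (hX : adj hF X * X = 1) (x y : κ → F) :
    hp q (X *ᵥ x) (X *ᵥ y) = hp q x y := by
  have e1 : hp q (X *ᵥ x) (X *ᵥ y) = (fun p => (X *ᵥ y) p ^ q) ⬝ᵥ (X *ᵥ x) := by
    simp only [hp, dotProduct, mul_comm]
  have e2 : hp q x y = (fun p => y p ^ q) ⬝ᵥ x := by simp only [hp, dotProduct, mul_comm]
  rw [e1, e2, pow_mulVec hF, ← Matrix.dotProduct_mulVec, Matrix.mulVec_mulVec, hX, Matrix.one_mulVec]

end

variable [Fintype F] (hF : Fintype.card F = q ^ 2)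
include hF

theorem hp_pr (a b : Fin n₁ → F) (v w : Fin n₂ → F) :
    hp q (pr a v) (pr b w) = hermForm n₁ F q a b * hermForm n₂ F q v w := by
  simp only [hp, pr, hermForm, Fintype.sum_prod_type, Finset.sum_mul_sum, mul_pow]
  exact Finset.sum_congr rfl fun i _ => Finset.sum_congr rfl fun j _ => by ring

theorem hp_rows (x y : Fin n₁ × Fin n₂ → F) : hp q x y = ∑ i, hermForm n₂ F q (row x i) (row y i) := by
  simp only [hp, hermForm, row, Fintype.sum_prod_type]

theorem exists_lin {Z Δ : Fin n₂ → F} (hi : LinearIndependent F ![Z, Δ]) (s r : F) :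
    ∃ d, hermForm n₂ F q d Z = s ∧ hermForm n₂ F q d Δ = r := by
  obtain ⟨d, hd⟩ := coords_surjective hF hi ![s, r]
  exact ⟨d, congrFun hd 0, congrFun hd 1⟩

/-- An anisotropic vector orthogonal to two given independent ones. -/
theorem exists_aniso_perp (h3 : 3 ≤ n₂) {Z Δ : Fin n₂ → F} (hi : LinearIndependent F ![Z, Δ])
    (hΔ : hermForm n₂ F q Z Δ = 0) (hZ : hermForm n₂ F q Z Z ≠ 0) (hD : hermForm n₂ F q Δ Δ ≠ 0) :
    ∃ u, hermForm n₂ F q u Z = 0 ∧ hermForm n₂ F q u Δ = 0 ∧ hermForm n₂ F q u u ≠ 0 := by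
  by_contra hcon
  simp only [not_exists, not_and, not_not] at hcon
  have hr := finrank_perp_range hF hi
  rw [Fintype.card_fin] at hr
  set K := perp q (Set.range ![Z, Δ]) with hK
  have hiso : ∀ x ∈ K, hermForm n₂ F q x x = 0 := fun x hx =>
    hcon x (mem_perp_range.1 hx 0) (mem_perp_range.1 hx 1)
  have hpol : ∀ x ∈ K, ∀ y ∈ K, hermForm n₂ F q x y = 0 := by
    intro x hx y hy
    by_contra hne
    obtain ⟨t, ht⟩ := exists_trace_ne_zero hF
    set c := (t / hermForm n₂ F q x y) ^ q with hc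
    have h1 := hiso (x + c • y) (K.add_mem hx (K.smul_mem c hy))
    rw [h_add_left, h_add_right hF, h_add_right hF, h_smul_left, h_smul_right hF, h_smul_left, h_smul_right hF,
      hiso x hx, hiso y hy, hc, pow_q_pow_q hF, h_symm hF x y, zero_add, mul_zero, mul_zero, add_zero,
      ← mul_pow, div_mul_cancel₀ _ hne] at h1
    exact ht h1
  -- the perp is complementary to the pair, so its radical is orthogonal to everything
  set S := Submodule.span F (Set.range ![Z, Δ]) with hS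
  have hKS : K ⊓ S = ⊥ := by
    rw [Submodule.eq_bot_iff]
    rintro x ⟨hxK, hxS⟩
    rw [SetLike.mem_coe, hS, Submodule.mem_span_range_iff_exists_fun] at hxS
    obtain ⟨c, rfl⟩ := hxS
    have e0 := mem_perp_range.1 hxK 0
    have e1 := mem_perp_range.1 hxK 1
    simp only [Fin.sum_univ_two, Matrix.cons_val_zero, Matrix.cons_val_one, h_add_left, h_smul_left, hΔ,
      (h_eq_zero_comm hF).1 hΔ, mul_zero, add_zero, zero_add, mul_eq_zero, hZ, hD, or_false] at e0 e1
    simp [Fin.sum_univ_two, e0, e1]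
  have htop : K ⊔ S = ⊤ := by
    apply Submodule.eq_top_of_finrank_eq
    have := Submodule.finrank_sup_add_finrank_inf_eq K S
    rw [hKS, finrank_bot, finrank_span_eq_card hi, Fintype.card_fin] at this
    rw [Module.finrank_fin_fun]
    omega
  obtain ⟨x, hxK, hx0⟩ := Submodule.exists_mem_ne_zero_of_ne_bot (p := K) (by
    intro e
    rw [e, finrank_bot] at hr
    omega)
  refine hx0 (eq_zero_of_h_left hF fun y => ?_)
  obtain ⟨k, hk, w, hw, rfl⟩ := Submodule.mem_sup.1 (htop ▸ Submodule.mem_top : y ∈ K ⊔ S)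
  rw [hS, Submodule.mem_span_range_iff_exists_fun] at hw
  obtain ⟨c, rfl⟩ := hw
  rw [h_add_right hF, hpol x hxK k hk, zero_add, h_sum_right hF]
  exact Finset.sum_eq_zero fun t _ => by rw [h_smul_right hF, mem_perp_range.1 hxK t, mul_zero]

/-- Membership of transvections with centre `x`. -/
def CtrP (q : ℕ) (Mm : Matrix (Fin n₁ × Fin n₂) (Fin n₁ × Fin n₂) F → Prop) (x : Fin n₁ × Fin n₂ → F) : Prop :=
  hp q x x = 0 ∧ ∀ c : F, c + c ^ q = 0 → Mm (1 + c • oP q x)

omit hF in
/-- A subgroup of the special unitary group containing the tensor group. -/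
structure Grp (hF : Fintype.card F = q ^ 2) (n₁ n₂ : ℕ)
    (Mm : Matrix (Fin n₁ × Fin n₂) (Fin n₁ × Fin n₂) F → Prop) : Prop where
  two : 2 ≤ n₁
  three : 3 ≤ n₂
  uni : ∀ {X}, Mm X → adj hF X * X = 1
  mul : ∀ {X Y}, Mm X → Mm Y → Mm (X * Y)
  star : ∀ {X}, Mm X → Mm (adj hF X)
  tens : ∀ {X}, adj hF X * X = 1 → X.det = 1 → IsT X → Mm X

variable {hF} {Mm : Matrix (Fin n₁ × Fin n₂) (Fin n₁ × Fin n₂) F → Prop} (O : Grp hF n₁ n₂ Mm)
include O

theorem Grp.one : Mm 1 := O.tens (by rw [adj_one, Matrix.one_mul]) Matrix.det_one IsT.one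

theorem Grp.ctr_mv {X : Matrix (Fin n₁ × Fin n₂) (Fin n₁ × Fin n₂) F} (hX : Mm X) {x : Fin n₁ × Fin n₂ → F}
    (hx : CtrP q Mm x) : CtrP q Mm (X *ᵥ x) := by
  refine ⟨by rw [hp_mulVec hF (O.uni hX)]; exact hx.1, fun c hc => ?_⟩
  have := O.mul (O.mul hX (hx.2 c hc)) (O.star hX)
  rwa [Matrix.mul_add, Matrix.mul_one, Matrix.add_mul, mul_adj_of_uni hF (O.uni hX), Matrix.mul_smul,
    Matrix.smul_mul, conj_oP hF] at this

theorem Grp.ctr_zero : CtrP q Mm 0 := by
  refine ⟨by simp [hp], fun c _ => ?_⟩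
  simpa [oP] using O.one

theorem Grp.ctr_smul {x : Fin n₁ × Fin n₂ → F} (hx : CtrP q Mm x) (t : F) :
    CtrP q Mm (t • x) := by
  refine ⟨by rw [hp_smul_left, hp_symm hF (t • x) x, hp_smul_left, hx.1, mul_zero, zero_pow (q_ne_zero hF), mul_zero],
    fun c hc => ?_⟩
  have e : c • oP q (t • x) = (c * (t * t ^ q)) • oP q x := by
    ext i j
    simp only [oP, Matrix.smul_apply, Matrix.vecMulVec_apply, Pi.smul_apply, smul_eq_mul, mul_pow]
    ring
  rw [e]
  refine hx.2 _ ?_
  rw [mul_pow, mul_pow, pow_q_pow_q hF]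
  linear_combination (t * t ^ q) * hc

theorem Grp.ctr_step {v w : Fin n₁ × Fin n₂ → F} (hw : CtrP q Mm w) (hv : CtrP q Mm v)
    {c : F} (hc : c + c ^ q = 0) : CtrP q Mm (v + (c * hp q v w) • w) := by
  have := O.ctr_mv (hw.2 c hc) hv
  rwa [Matrix.add_mulVec, Matrix.one_mulVec, Matrix.smul_mulVec, oP_mulVec, smul_smul] at this

theorem Grp.ctr_kron {A : Matrix (Fin n₁) (Fin n₁) F} {B : Matrix (Fin n₂) (Fin n₂) F} (hA : adj hF A * A = 1)
    (hB : adj hF B * B = 1) (hd : (A ⊗ₖ B).det = 1) {a : Fin n₁ → F} {v : Fin n₂ → F}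
    (h : CtrP q Mm (pr a v)) : CtrP q Mm (pr (A *ᵥ a) (B *ᵥ v)) := by
  have := O.ctr_mv (O.tens (uni_kron hF hA hB) hd ⟨_, _, rfl⟩) h
  rwa [pr_eq_cv, Matrix.mulVec_mulVec, kron_cv, ← Matrix.mulVec_mulVec, ← pr_eq_cv] at this

/-- One transvection along a pure tensor gives all with that centre. -/
theorem Grp.ctr_start {v : Fin n₂ → F} (hv0 : v ≠ 0) (hv : hermForm n₂ F q v v = 0) {a : Fin n₁ → F} {l : F}
    (hl0 : l ≠ 0) (hl : l + l ^ q = 0) (h : Mm (Tv hF v (l • outer q a))) : CtrP q Mm (pr a v) := by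
  have h' : Mm (1 + l • oP q (pr a v)) := by
    rw [pr_eq_cv, ← conj_oP hF]
    simpa [Tv, outer, oP, Matrix.mul_smul, Matrix.smul_mul] using h
  refine ⟨by rw [hp_pr hF, hv, mul_zero], fun c hc => ?_⟩
  rcases eq_or_ne c 0 with rfl | hc0
  · simpa using O.one
  have hcl : (c / l) ^ q = c / l := by
    rw [div_pow, eq_neg_of_add_eq_zero_right hc, eq_neg_of_add_eq_zero_right hl, neg_div_neg_eq]
  obtain ⟨μ, hμ⟩ := exists_norm_eq hF hcl
  rw [pow_succ] at hμ
  have hμ0 : μ ≠ 0 := fun e => div_ne_zero hc0 hl0 (by rw [← hμ, e, mul_zero])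
  obtain ⟨B, hB, hBv, hBd⟩ := UDec.exists_move_vec hF (by have := O.three; omega) hv0
    (smul_ne_zero hμ0 hv0) (by rw [h_smul_left, h_smul_right hF, hv, mul_zero, mul_zero])
  have hX : Mm ((1 : Matrix (Fin n₁) (Fin n₁) F) ⊗ₖ B) :=
    O.tens (uni_kron hF (by rw [adj_one, Matrix.mul_one]) ((isIso_iff hF).1 hB))
      (det_one_kron (hBd (by have := O.three; omega))) ⟨_, _, rfl⟩
  have := O.mul (O.mul hX h') (O.star hX)
  rw [Matrix.mul_add, Matrix.mul_one, Matrix.add_mul, mul_adj_of_uni hF (O.uni hX), Matrix.mul_smul,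
    Matrix.smul_mul, conj_oP hF, pr_eq_cv, Matrix.mulVec_mulVec, one_kron_cv, hBv, ← pr_eq_cv, pr_smul_right] at this
  convert this using 2
  ext i j
  simp only [oP, Matrix.smul_apply, Matrix.vecMulVec_apply, Pi.smul_apply, smul_eq_mul, mul_pow]
  field_simp at hμ
  linear_combination (-(pr a v i * pr a v j ^ q)) * hμ

omit O in
theorem two_iso_parallel {a a' : Fin 2 → F} (ha0 : a ≠ 0) (ha : hermForm 2 F q a a = 0)
    (h : hermForm 2 F q a' a = 0) : ∃ t : F, a' = t • a := by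
  simp only [hermForm, Fin.sum_univ_two] at ha h
  have h1 : a 1 ≠ 0 := fun e => by
    rw [e, zero_mul, add_zero, mul_eq_zero, pow_q_eq_zero hF, or_self] at ha
    exact ha0 (funext fun i => by fin_cases i <;> simp [ha, e])
  have h0 : a 0 ≠ 0 := fun e => by
    rw [e, zero_mul, zero_add, mul_eq_zero, pow_q_eq_zero hF, or_self] at ha
    exact h1 ha
  refine ⟨a' 0 / a 0, funext fun i => ?_⟩
  fin_cases i
  · simp [h0]
  · simp only [Fin.mk_one, Pi.smul_apply, smul_eq_mul]
    rw [div_mul_eq_mul_div, eq_div_iff h0]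
    refine mul_right_cancel₀ (pow_ne_zero q h1) ?_
    linear_combination (a 0) * h - a' 0 * ha

/-- All pure isotropic tensors are centres. -/
theorem Grp.ctr_pure {v₀ : Fin n₂ → F} (hv0 : v₀ ≠ 0) (hv : hermForm n₂ F q v₀ v₀ = 0) {a₀ : Fin n₁ → F}
    (ha0 : a₀ ≠ 0) (ha : hermForm n₁ F q a₀ a₀ = 0) (h : CtrP q Mm (pr a₀ v₀))
    {a : Fin n₁ → F} (haa : hermForm n₁ F q a a = 0) {v : Fin n₂ → F} (hvv : hermForm n₂ F q v v = 0) :
    CtrP q Mm (pr a v) := by
  by_cases hv' : v = 0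
  · rw [hv', pr_zero_right]; exact O.ctr_zero
  by_cases ha' : a = 0
  · rw [ha', pr_zero_left]; exact O.ctr_zero
  obtain ⟨B, hB, hBv, hBd⟩ := UDec.exists_move_vec hF (by have := O.three; omega) hv0 hv' (by rw [hv, hvv])
  have h1 := O.ctr_kron (A := 1) (by rw [adj_one, Matrix.mul_one]) ((isIso_iff hF).1 hB)
    (det_one_kron (hBd (by have := O.three; omega))) h
  rw [Matrix.one_mulVec, hBv] at h1
  have h1B : adj hF (1 : Matrix (Fin n₂) (Fin n₂) F) * 1 = 1 := by rw [adj_one, Matrix.mul_one]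
  by_cases h3 : 3 ≤ n₁
  · obtain ⟨A, hA, hAa, hAd⟩ := UDec.exists_move_vec hF O.two ha0 ha' (by rw [ha, haa])
    have h2 := O.ctr_kron ((isIso_iff hF).1 hA) h1B (det_kron_one (hAd h3)) h1
    rwa [hAa, Matrix.one_mulVec] at h2
  obtain rfl : n₁ = 2 := by have := O.two; omega
  by_cases hd : hermForm 2 F q a a₀ = 0
  · obtain ⟨t, rfl⟩ := two_iso_parallel (hF := hF) ha0 ha hd
    rw [pr_smul_left]; exact O.ctr_smul h1 t
  set δ := hermForm 2 F q a₀ a with hδ
  have hδ0 : δ ≠ 0 := fun e => hd ((h_eq_zero_comm hF).1 e)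
  set b := (δ⁻¹) ^ q • a with hbdef
  have hb : hermForm 2 F q a₀ b = 1 := by
    rw [hbdef, h_smul_right hF, pow_q_pow_q hF, ← hδ, inv_mul_cancel₀ hδ0]
  have hbb : hermForm 2 F q b b = 0 := by rw [hbdef, h_smul_left, h_smul_right hF, haa, mul_zero, mul_zero]
  have hba : hermForm 2 F q b a₀ = 1 := by rw [h_symm hF a₀ b, hb, one_pow]
  have htv : ∀ {u : Fin 2 → F} {c : F}, hermForm 2 F q u u = 0 → c + c ^ q = 0 → ∀ {x : Fin 2 → F},
      CtrP q Mm (pr x v) → CtrP q Mm (pr (x + (c * hermForm 2 F q x u) • u) v) := by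
    intro u c hu hc x hx
    set N := c • outer q u with hN
    have hNN : N * N = 0 := by
      rw [hN, Matrix.smul_mul, Matrix.mul_smul, outer, Matrix.vecMulVec_mul_vecMulVec]
      have : (fun l => u l ^ q) ⬝ᵥ u = 0 := by
        rw [← hu]; simp only [dotProduct, hermForm, mul_comm]
      rw [this]; simp
    have hA : adj hF (1 + N) * (1 + N) = 1 := by
      rw [adj_add, adj_one, hN, adj_smul, adj_outer hF, eq_neg_of_add_eq_zero_right hc, neg_smul, ← hN,
        Matrix.add_mul, Matrix.mul_add, Matrix.mul_add, Matrix.neg_mul, Matrix.neg_mul, hNN]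
      simp
    have hAd : (1 + N).det = 1 := det_one_add_cube hF (by rw [hNN, Matrix.zero_mul])
    have h2 := O.ctr_kron hA h1B (det_kron_one hAd) hx
    rwa [Matrix.one_mulVec, Matrix.add_mulVec, Matrix.one_mulVec, hN, Matrix.smul_mulVec, outer_mulVec,
      smul_smul] at h2
  obtain ⟨s, hs, hs0⟩ := UDec.exists_skew hF
  have h2 := htv hbb hs h1
  rw [hb, mul_one] at h2
  have hc : -s⁻¹ + (-s⁻¹) ^ q = 0 := by
    rw [neg_pow_q hF, inv_pow, eq_neg_of_add_eq_zero_right hs, inv_neg]; ring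
  have h3 := htv ha hc h2
  rw [h_add_left, h_smul_left, ha, hba, zero_add, mul_one, neg_mul, inv_mul_cancel₀ hs0, neg_one_smul,
    add_neg_cancel_comm] at h3
  have h4 := O.ctr_smul h3 (s⁻¹ * δ ^ q)
  rw [← pr_smul_left, hbdef, smul_smul, smul_smul] at h4
  convert h4 using 2
  rw [inv_pow]
  have := pow_ne_zero q hδ0
  field_simp
  simp

section Pair

variable (hpure : ∀ (a : Fin n₁ → F) (v : Fin n₂ → F), hermForm n₁ F q a a = 0 → hermForm n₂ F q v v = 0 →
    CtrP q Mm (pr a v))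
include hpure

/-- Adding an isotropic vector with non-zero skew product to one component. -/
theorem Grp.pair_step {a b : Fin n₁ → F} (ha : hermForm n₁ F q a a = 0) (hba : hermForm n₁ F q b a = 1)
    {Y Z d : Fin n₂ → F} (hd : hermForm n₂ F q d d = 0) (hs : hermForm n₂ F q Z d + hermForm n₂ F q Z d ^ q = 0)
    (hs0 : hermForm n₂ F q Z d ≠ 0) (h : CtrP q Mm (pr a Y + pr b Z)) :
    CtrP q Mm (pr a (Y + d) + pr b Z) := by
  set s := hermForm n₂ F q Z d
  have hc : s⁻¹ + (s⁻¹) ^ q = 0 := by rw [inv_pow, eq_neg_of_add_eq_zero_right hs, inv_neg, add_neg_cancel]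
  have := O.ctr_step (hpure a d ha hd) h hc
  rw [hp_add_left, hp_pr hF, hp_pr hF, ha, hba, zero_mul, zero_add, one_mul, inv_mul_cancel₀ hs0, one_smul] at this
  rw [pr_add_right, add_right_comm]
  exact this

/-- Moving one component by a vector with skew product. -/
theorem Grp.pair_move {a b : Fin n₁ → F} (ha : hermForm n₁ F q a a = 0) (hba : hermForm n₁ F q b a = 1)
    {Z : Fin n₂ → F} (hZ : Z ≠ 0) : ∀ {Y Δ : Fin n₂ → F},
    hermForm n₂ F q Z Δ + hermForm n₂ F q Z Δ ^ q = 0 → CtrP q Mm (pr a Y + pr b Z) →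
    CtrP q Mm (pr a (Y + Δ) + pr b Z) := by
  have hq := q_ne_zero hF
  obtain ⟨s, hs, hs0⟩ := UDec.exists_skew hF
  have ind : ∀ {Y Δ : Fin n₂ → F}, hermForm n₂ F q Z Δ = 0 → LinearIndependent F ![Z, Δ] →
      CtrP q Mm (pr a Y + pr b Z) → CtrP q Mm (pr a (Y + Δ) + pr b Z) := by
    intro Y Δ hΔ hi h
    obtain ⟨r, hr, d, hdd, hZd, hΔd⟩ : ∃ r : F, r + r ^ q = -hermForm n₂ F q Δ Δ ∧ ∃ d,
        hermForm n₂ F q d d = 0 ∧ hermForm n₂ F q Z d = s ∧ hermForm n₂ F q Δ d = r := by
      -- an isotropic correction of a solution along a vector `u` orthogonal to both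
      have hfix : ∀ (r : F) (u : Fin n₂ → F), hermForm n₂ F q u Z = 0 → hermForm n₂ F q u Δ = 0 →
          (∀ d₀, hermForm n₂ F q Z d₀ = s → hermForm n₂ F q Δ d₀ = r →
            ∃ k : F, hermForm n₂ F q (d₀ + k • u) (d₀ + k • u) = 0) →
          ∃ d, hermForm n₂ F q d d = 0 ∧ hermForm n₂ F q Z d = s ∧ hermForm n₂ F q Δ d = r := by
        intro r u huZ huΔ hk
        obtain ⟨d₀, hdZ, hdΔ⟩ := exists_lin hF hi (s ^ q) (r ^ q)
        have h0Z : hermForm n₂ F q Z d₀ = s := by rw [h_symm hF d₀ Z, hdZ, pow_q_pow_q hF]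
        have h0Δ : hermForm n₂ F q Δ d₀ = r := by rw [h_symm hF d₀ Δ, hdΔ, pow_q_pow_q hF]
        obtain ⟨k, hk⟩ := hk d₀ h0Z h0Δ
        exact ⟨_, hk, by rw [h_add_right hF, h_smul_right hF, (h_eq_zero_comm hF).1 huZ, mul_zero, add_zero, h0Z],
          by rw [h_add_right hF, h_smul_right hF, (h_eq_zero_comm hF).1 huΔ, mul_zero, add_zero, h0Δ]⟩
      have hiso : ∀ (u d₀ : Fin n₂ → F), hermForm n₂ F q u u = 0 → hermForm n₂ F q u d₀ ≠ 0 →
          ∃ k : F, hermForm n₂ F q (d₀ + k • u) (d₀ + k • u) = 0 := by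
        intro u d₀ hu hne
        obtain ⟨t, ht⟩ := exists_trace_eq hF (c := -hermForm n₂ F q d₀ d₀) (by rw [neg_pow_q hF, h_self_fixed hF])
        refine ⟨t / hermForm n₂ F q u d₀, ?_⟩
        rw [h_add_left, h_add_right hF, h_add_right hF, h_smul_left, h_smul_right hF, h_smul_left, h_smul_right hF,
          hu, mul_zero, mul_zero, add_zero, h_symm hF u d₀, ← mul_pow, div_mul_cancel₀ _ hne]
        linear_combination ht
      by_cases hZZ : hermForm n₂ F q Z Z = 0
      · obtain ⟨r, hr⟩ := exists_trace_eq hF (c := -hermForm n₂ F q Δ Δ) (by rw [neg_pow_q hF, h_self_fixed hF])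
        exact ⟨r, hr, hfix r Z hZZ hΔ fun d₀ h0 _ => hiso Z d₀ hZZ (h0 ▸ hs0)⟩
      by_cases hΔΔ : hermForm n₂ F q Δ Δ = 0
      · exact ⟨s, by rw [hΔΔ, neg_zero]; exact hs,
          hfix s Δ ((h_eq_zero_comm hF).1 hΔ) hΔΔ fun d₀ _ h0 => hiso Δ d₀ hΔΔ (h0 ▸ hs0)⟩
      obtain ⟨r, hr⟩ := exists_trace_eq hF (c := -hermForm n₂ F q Δ Δ) (by rw [neg_pow_q hF, h_self_fixed hF])
      obtain ⟨u, huZ, huΔ, hu⟩ := exists_aniso_perp hF O.three hi hΔ hZZ hΔΔ
      refine ⟨r, hr, hfix r u huZ huΔ fun d₀ _ _ => ?_⟩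
      set l := hermForm n₂ F q d₀ u / hermForm n₂ F q u u with hl
      set d₁ := d₀ - l • u with hd₁
      have h1u : hermForm n₂ F q d₁ u = 0 := by rw [hd₁, h_sub_left, h_smul_left, hl, div_mul_cancel₀ _ hu, sub_self]
      obtain ⟨t, ht⟩ := exists_norm_eq hF (c := -(hermForm n₂ F q d₁ d₁ / hermForm n₂ F q u u))
        (by rw [neg_pow_q hF, div_pow, h_self_fixed hF, h_self_fixed hF])
      rw [pow_succ] at ht
      refine ⟨t - l, ?_⟩
      rw [show d₀ + (t - l) • u = d₁ + t • u by rw [hd₁]; module, h_add_left, h_add_right hF, h_add_right hF,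
        h_smul_left, h_smul_right hF, h_smul_left, h_smul_right hF, h1u, h_symm hF d₁ u, h1u, zero_pow hq]
      field_simp at ht
      linear_combination ht
    have hd' : hermForm n₂ F q (d + Δ) (d + Δ) = 0 := by
      rw [h_add_left, h_add_right hF, h_add_right hF, hdd, h_symm hF Δ d, hΔd]
      linear_combination hr
    have e1 := O.pair_step hpure ha hba hd' (by rw [h_add_right hF, hZd, hΔ, add_zero]; exact hs)
      (by rw [h_add_right hF, hZd, hΔ, add_zero]; exact hs0) h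
    have e2 := O.pair_step hpure ha hba (d := -d) (by rw [h_neg_left, h_neg_right hF, hdd, neg_zero, neg_zero])
      (by rw [h_neg_right hF, hZd, neg_pow_q hF]; linear_combination -hs)
      (by rw [h_neg_right hF, hZd]; exact neg_ne_zero.2 hs0) e1
    have : Y + (d + Δ) + -d = Y + Δ := by abel
    rwa [this] at e2
  have orth : ∀ {Y Δ : Fin n₂ → F}, hermForm n₂ F q Z Δ = 0 →
      CtrP q Mm (pr a Y + pr b Z) → CtrP q Mm (pr a (Y + Δ) + pr b Z) := by
    intro Y Δ hΔ h
    by_cases hΔ0 : Δ = 0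
    · rwa [hΔ0, add_zero]
    by_cases hi : LinearIndependent F ![Z, Δ]
    · exact ind hΔ hi h
    obtain ⟨t, ht⟩ : ∃ t : F, t • Δ = Z := by
      by_contra hcon
      exact hi (linearIndependent_fin2.2 ⟨by simpa using hΔ0, fun t e => hcon ⟨t, by simpa using e⟩⟩)
    have hZZ : hermForm n₂ F q Z Z = 0 := by
      nth_rewrite 2 [← ht]
      rw [h_smul_right hF, hΔ, mul_zero]
    obtain ⟨u, hu, hiu⟩ : ∃ u, hermForm n₂ F q Z u = 0 ∧ ∀ c : F, u ≠ c • Z := by
      by_contra hcon
      simp only [not_exists, not_and, not_forall, not_not] at hcon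
      have hr := finrank_perp_range hF (b := fun _ : Unit => Z) (LinearIndependent.of_subsingleton () hZ)
      have hle : perp q (Set.range fun _ : Unit => Z) ≤ F ∙ Z := fun x hx => by
        obtain ⟨c, rfl⟩ := hcon x ((h_eq_zero_comm hF).1 (mem_perp_range.1 hx ()))
        exact Submodule.smul_mem _ _ (Submodule.mem_span_singleton_self Z)
      have := Submodule.finrank_mono hle
      rw [finrank_span_singleton hZ] at this
      rw [Fintype.card_unit] at hr
      have := O.three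
      omega
    have hli : ∀ w : Fin n₂ → F, (∀ c : F, w ≠ c • Z) → LinearIndependent F ![Z, w] := fun w hw => by
      refine linearIndependent_fin2.2 ⟨by simpa using fun e : w = 0 => hw 0 (by rw [e, zero_smul]), fun c e => ?_⟩
      simp at e
      rcases eq_or_ne c 0 with rfl | hc0
      · exact hZ (by rw [← e, zero_smul])
      · exact hw c⁻¹ (by rw [← e, smul_smul, inv_mul_cancel₀ hc0, one_smul])
    have e1 := ind hu (hli u hiu) h
    have ht0 : t ≠ 0 := fun e => hZ (by rw [← ht, e, zero_smul])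
    have e2 := ind (Δ := Δ - u) (by rw [h_sub_right hF, hΔ, hu, sub_zero]) (hli _ fun c e => hiu (t⁻¹ - c) (by
      rw [sub_smul, ← e, ← ht, smul_smul, inv_mul_cancel₀ ht0, one_smul, sub_sub_cancel])) e1
    rwa [add_assoc, add_sub_cancel] at e2
  intro Y Δ hΔ h
  by_cases h0 : hermForm n₂ F q Z Δ = 0
  · exact orth h0 h
  obtain ⟨d₀, hd₀, hZd⟩ := UDec.exists_vec hF (by have := O.three; omega) hZ (zero_pow hq : (0 : F) ^ q = 0)
    (hermForm n₂ F q Z Δ) (Or.inr h0)
  have e1 := O.pair_step hpure ha hba hd₀ (by rw [hZd]; exact hΔ) (by rw [hZd]; exact h0) h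
  have e2 := orth (Δ := Δ - d₀) (by rw [h_sub_right hF, hZd, sub_self]) e1
  rwa [add_assoc, add_sub_cancel] at e2

/-- All isotropic vectors in a pair. -/
theorem Grp.ctr_pair {a b : Fin n₁ → F} (hab : IsHyp q a b) {Y Z : Fin n₂ → F}
    (hYZ : hermForm n₂ F q Y Z + hermForm n₂ F q Y Z ^ q = 0) : CtrP q Mm (pr a Y + pr b Z) := by
  have hq := q_ne_zero hF
  have key : ∀ {a b : Fin n₁ → F} {Y Z : Fin n₂ → F}, IsHyp q a b → Z ≠ 0 →
      hermForm n₂ F q Y Z + hermForm n₂ F q Y Z ^ q = 0 → CtrP q Mm (pr a Y + pr b Z) := by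
    intro a b Y Z hab hZ hYZ
    obtain ⟨v, hv0, hv, hvZ⟩ : ∃ v : Fin n₂ → F, v ≠ 0 ∧ hermForm n₂ F q v v = 0 ∧ hermForm n₂ F q v Z = 0 := by
      have hr := finrank_perp_range hF (b := fun _ : Unit => Z) (LinearIndependent.of_subsingleton () hZ)
      rw [Fintype.card_unit] at hr
      obtain ⟨v, hv, hv0, hvv⟩ := Covering.exists_isotropic_mem hF (W := perp q (Set.range fun _ : Unit => Z))
        (by have := O.three; omega)
      exact ⟨v, hv0, hvv, mem_perp_range.1 hv ()⟩
    have h0 : CtrP q Mm (pr b (0 : Fin n₂ → F) + pr a v) := by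
      rw [pr_zero_right, zero_add]; exact hpure a v hab.1 hv
    have h1 := O.pair_move hpure (b := a) hab.2.1 hab.2.2 hv0 (Δ := Z) (by rw [hvZ, zero_pow hq, add_zero]) h0
    rw [zero_add, add_comm] at h1
    have h2 := O.pair_move hpure hab.1 (hab.symm hF).2.2 hZ (Δ := Y - v) (by
      rw [h_sub_right hF, h_symm hF Y Z, (h_eq_zero_comm hF).1 hvZ, sub_zero, pow_q_pow_q hF]
      rw [add_comm]; exact hYZ) h1
    rwa [add_sub_cancel] at h2
  rcases eq_or_ne Z 0 with rfl | hZ
  · rcases eq_or_ne Y 0 with rfl | hY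
    · rw [pr_zero_right, pr_zero_right, zero_add]; exact O.ctr_zero
    · rw [add_comm]
      exact key (hab.symm hF) hY (by rw [h_zero_left, zero_pow hq, add_zero])
  · exact key hab hZ hYZ

/-- Vectors supported on two rows. -/
theorem Grp.ctr_two {i l : Fin n₁} (hil : i ≠ l) {x : Fin n₁ × Fin n₂ → F} (hx : hp q x x = 0)
    (hrest : ∀ k, k ≠ i → k ≠ l → row x k = 0) : CtrP q Mm x := by
  classical
  have hcard := H50.card_norm_eq hF (c := (-1 : F)) (by rw [neg_pow_q hF, one_pow]) (neg_ne_zero.2 one_ne_zero)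
  rw [Nat.card_eq_fintype_card, Fintype.card_subtype] at hcard
  obtain ⟨ε, hε, ε', hε', hne⟩ := Finset.one_lt_card.1
    (show 1 < (Finset.univ.filter fun x : F => x ^ (q + 1) = -1).card by rw [hcard]; have := two_le hF; omega)
  simp only [Finset.mem_filter, Finset.mem_univ, true_and] at hε hε'
  rw [pow_succ] at hε hε'
  set D := 1 + ε * ε' ^ q with hD
  have hD0 : D ≠ 0 := fun e => hne (by
    have h1 : ε * (ε' ^ q * ε') = -ε' := by
      linear_combination ε' * e
    rw [hε'] at h1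
    linear_combination -h1)
  set ei : Fin n₁ → F := Pi.single i 1 with hei
  set el : Fin n₁ → F := Pi.single l 1 with hel
  set a := ei + ε • el with ha
  set b := (D⁻¹) ^ q • (ei + ε' • el) with hb
  have hh : ∀ c c' : F, hermForm n₁ F q (ei + c • el) (ei + c' • el) = 1 + c * c' ^ q := fun c c' => by
    simp only [hei, hel, h_add_left, h_add_right hF, h_smul_left, h_smul_right hF, h_single_single hF,
      if_neg hil, if_neg hil.symm, if_pos]
    ring
  have haa : hermForm n₁ F q a a = 0 := by rw [ha, hh]; linear_combination hε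
  have hbb : hermForm n₁ F q b b = 0 := by
    have : (1 : F) + ε' * ε' ^ q = 0 := by linear_combination hε'
    rw [hb, h_smul_left, h_smul_right hF, hh, this, mul_zero, mul_zero]
  have hab : hermForm n₁ F q a b = 1 := by
    rw [hb, ha, h_smul_right hF, hh, pow_q_pow_q hF, ← hD, inv_mul_cancel₀ hD0]
  set κ := (ε - ε')⁻¹ with hκ
  have he : x = pr a ((1 - ε * κ) • row x i + κ • row x l) + pr b ((D ^ q * ε * κ) • row x i - (D ^ q * κ) • row x l) := by
    have hDq : (D⁻¹) ^ q * D ^ q = 1 := by rw [← mul_pow, inv_mul_cancel₀ hD0, one_pow]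
    have hsub : ε - ε' ≠ 0 := sub_ne_zero.2 hne
    have hk : (ε - ε') * κ = 1 := mul_inv_cancel₀ hsub
    funext ⟨k, j⟩
    simp only [Pi.add_apply, pr, ha, hb, hei, hel, Pi.smul_apply, Pi.sub_apply, smul_eq_mul, row]
    by_cases hki : k = i
    · subst hki
      simp only [Pi.single_eq_same, Pi.single_eq_of_ne hil, mul_zero, add_zero, mul_one]
      linear_combination (κ * x (l, j) - ε * κ * x (k, j)) * hDq
    · by_cases hkl : k = l
      · subst hkl
        simp only [Pi.single_eq_same, Pi.single_eq_of_ne hki, mul_one, zero_add]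
        linear_combination (ε' * κ * x (k, j) - ε' * ε * κ * x (i, j)) * hDq + (ε * x (i, j) - x (k, j)) * hk
      · have := congrFun (hrest k hki hkl) j
        simp only [row, Pi.zero_apply] at this
        simp [Pi.single_eq_of_ne hki, Pi.single_eq_of_ne hkl, this]
  set Y := (1 - ε * κ) • row x i + κ • row x l
  set Z := (D ^ q * ε * κ) • row x i - (D ^ q * κ) • row x l
  rw [he] at hx ⊢
  refine O.ctr_pair hpure ⟨haa, hbb, hab⟩ ?_
  have h2 : ∀ (w : Fin n₁ × Fin n₂ → F), hp q w (pr a Y + pr b Z) = hp q w (pr a Y) + hp q w (pr b Z) := fun w => by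
    rw [hp_symm hF _ w, hp_add_left, add_pow_q hF, ← hp_symm hF, ← hp_symm hF]
  rw [hp_add_left, h2, h2, hp_pr hF, hp_pr hF, hp_pr hF, hp_pr hF, haa, hbb, hab, h_symm hF a b, hab, one_pow,
    zero_mul, zero_mul, one_mul, one_mul, zero_add, add_zero, h_symm hF Y Z] at hx
  exact hx

end Pair

/-- All isotropic vectors are centres. -/
theorem Grp.ctr_all {v₀ : Fin n₂ → F} (hv0 : v₀ ≠ 0) (hv : hermForm n₂ F q v₀ v₀ = 0) {a₀ : Fin n₁ → F} {l₀ : F}
    (ha0 : a₀ ≠ 0) (ha : hermForm n₁ F q a₀ a₀ = 0) (hl0 : l₀ ≠ 0) (hl : l₀ + l₀ ^ q = 0)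
    (h : Mm (Tv hF v₀ (l₀ • outer q a₀))) : ∀ x, hp q x x = 0 → CtrP q Mm x := by
  classical
  have hpure : ∀ (a : Fin n₁ → F) (v : Fin n₂ → F), hermForm n₁ F q a a = 0 → hermForm n₂ F q v v = 0 →
      CtrP q Mm (pr a v) := fun a v ha' hv' =>
    O.ctr_pure hv0 hv ha0 ha (O.ctr_start hv0 hv hl0 hl h) ha' hv'
  suffices ∀ (s : ℕ) (x : Fin n₁ × Fin n₂ → F), (Finset.univ.filter fun i => row x i ≠ 0).card = s →
      hp q x x = 0 → CtrP q Mm x from fun x => this _ x rfl
  intro s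
  induction s using Nat.strong_induction_on with
  | _ s ih =>
    intro x hs hx
    set S := Finset.univ.filter fun i => row x i ≠ 0 with hS
    by_cases hs2 : S.card ≤ 2
    · haveI : Nontrivial (Fin n₁) := Fin.nontrivial_iff_two_le.2 O.two
      obtain ⟨i, l, hil, hsub⟩ : ∃ i l : Fin n₁, i ≠ l ∧ S ⊆ {i, l} := by
        rcases (by omega : S.card = 0 ∨ S.card = 1 ∨ S.card = 2) with h0 | h1 | h2
        · obtain ⟨i, l, hil⟩ := exists_pair_ne (Fin n₁)
          exact ⟨i, l, hil, by simp [Finset.card_eq_zero.1 h0]⟩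
        · obtain ⟨i, hi⟩ := Finset.card_eq_one.1 h1
          obtain ⟨l, hl⟩ := exists_ne i
          exact ⟨i, l, hl.symm, by simp [hi]⟩
        · obtain ⟨i, l, hil, hS2⟩ := Finset.card_eq_two.1 h2
          exact ⟨i, l, hil, by rw [hS2]⟩
      refine O.ctr_two hpure hil hx fun k hki hkl => ?_
      by_contra hk
      have := hsub (show k ∈ S by simp [hS, hk])
      simp [hki, hkl] at this
    -- choose two rows
    obtain ⟨i, j, hi, hj, hij, hrole⟩ : ∃ i j, i ∈ S ∧ j ∈ S ∧ i ≠ j ∧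
        (hermForm n₂ F q (row x i) (row x i) ≠ 0 ∨ hermForm n₂ F q (row x j) (row x j) = 0) := by
      by_cases hex : ∃ i ∈ S, hermForm n₂ F q (row x i) (row x i) ≠ 0
      · obtain ⟨i, hi, hai⟩ := hex
        obtain ⟨j, hj, hji⟩ := Finset.exists_mem_ne (s := S) (by omega) i
        exact ⟨i, j, hi, hj, hji.symm, Or.inl hai⟩
      · push Not at hex
        obtain ⟨i, hi, j, hj, hij⟩ := Finset.one_lt_card.mp (show 1 < S.card by omega)
        exact ⟨i, j, hi, hj, hij, Or.inr (hex j hj)⟩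
    set vi := row x i with hvi
    set vj := row x j with hvj
    obtain ⟨s₀, hs₀, hs₀0⟩ := UDec.exists_skew hF
    obtain ⟨y, hy, hyr⟩ := UDec.exists_vec hF (by have := O.three; omega)
      (show vi ≠ 0 by simpa [hS] using hi)
      (show (-hermForm n₂ F q vj vj) ^ q = -hermForm n₂ F q vj vj by rw [neg_pow_q hF, h_self_fixed hF])
      (s₀ - hermForm n₂ F q vj vj)
      (hrole.imp_right fun h => by rw [h, sub_zero]; exact hs₀0)
    set w : Fin n₁ × Fin n₂ → F := fun p => if p.1 = i then y p.2 else if p.1 = j then vj p.2 else 0 with hw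
    have hwi : row w i = y := funext fun t => if_pos rfl
    have hwj : row w j = vj := funext fun t => by simp [row, hw, hij.symm]
    have hwo : ∀ k, k ≠ i → k ≠ j → row w k = 0 := fun k h1 h2 => funext fun t => by simp [row, hw, h1, h2]
    have hsum : ∀ z : Fin n₁ × Fin n₂ → F, hp q z w =
        hermForm n₂ F q (row z i) y + hermForm n₂ F q (row z j) vj := fun z => by
      rw [hp_rows hF, ← Finset.sum_subset (Finset.subset_univ {i, j}) (fun k _ hk => by
        simp only [Finset.mem_insert, Finset.mem_singleton, not_or] at hk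
        rw [hwo k hk.1 hk.2, h_zero_right hF]), Finset.sum_pair hij, hwi, hwj]
    have hww : hp q w w = 0 := by rw [hsum, hwi, hwj, hy, neg_add_cancel]
    have hxw : hp q x w = s₀ := by rw [hsum, ← hvi, ← hvj, hyr, sub_add_cancel]
    have hwC : CtrP q Mm w := O.ctr_two hpure hij hww hwo
    have hx' : hp q (x - w) (x - w) = 0 := by
      rw [hp_sub_self hF, hx, hww, hxw]
      linear_combination -hs₀
    have hrec := ih (Finset.univ.filter fun k => row (x - w) k ≠ 0).card (by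
      rw [← hs]
      refine lt_of_le_of_lt (Finset.card_le_card fun k hk => ?_) (Finset.card_erase_lt_of_mem hj)
      simp only [Finset.mem_filter, Finset.mem_univ, true_and] at hk
      rw [Finset.mem_erase]
      have hrow : row (x - w) k = row x k - row w k := rfl
      rw [hrow] at hk
      refine ⟨fun e => hk (by rw [e, hwj, ← hvj, sub_self]), ?_⟩
      by_cases hki : k = i
      · subst hki; exact hi
      · by_cases hkj : k = j
        · subst hkj; exact hj
        · rw [hwo k hki hkj, sub_zero] at hk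
          simpa [hS] using hk) (x - w) rfl hx'
    have hc : s₀⁻¹ + (s₀⁻¹) ^ q = 0 := by rw [inv_pow, eq_neg_of_add_eq_zero_right hs₀, inv_neg, add_neg_cancel]
    have := O.ctr_step hwC hrec hc
    rw [hp_sub_left, hxw, hww, sub_zero, inv_mul_cancel₀ hs₀0, one_smul, sub_add_cancel] at this
    exact this

end H41.UTen
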