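import Mathlib
import Cfsg.Agent.H50.Field

/-!
Chevalley–Warning over the fixed field for polynomials with coefficients in the quadratic extension.
-/

set_option autoImplicit false
set_option linter.unusedSectionVars false

namespace H41.UTen

open MvPolynomial Finset

variable {F : Type*} [Field F]

/-- Sums over a subfield of a low degree polynomial vanish. -/
theorem sum_eval_subfield_eq_zero {σ : Type*} [Fintype σ] [DecidableEq σ] (K : Subfield F) [Fintype K]
    (f : MvPolynomial σ F) (h : f.totalDegree < (Fintype.card K - 1) * Fintype.card σ) :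
    ∑ x : σ → K, eval (fun i => (x i : F)) f = 0 := by
  classical
  simp only [eval_eq']
  rw [Finset.sum_comm]
  refine Finset.sum_eq_zero fun d hd => ?_
  rw [← Finset.mul_sum]
  have h1 : (monomial d (1 : K)).totalDegree < (Fintype.card K - 1) * Fintype.card σ := by
    refine lt_of_le_of_lt ?_ h
    rw [totalDegree_monomial d one_ne_zero]
    exact le_totalDegree hd
  have h2 := congrArg (Subtype.val : K → F) (MvPolynomial.sum_eval_eq_zero _ h1)
  simp only [eval_monomial, one_mul, AddSubmonoidClass.coe_finsetSum, ZeroMemClass.coe_zero,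
    Finsupp.prod_fintype _ _ (fun i => pow_zero _), SubmonoidClass.coe_finsetProd, SubmonoidClass.coe_pow] at h2
  rw [h2, mul_zero]

variable [Fintype F] {q : ℕ} (hF : Fintype.card F = q ^ 2)

/-- The fixed field. -/
def fixK : Subfield F := RingHom.eqLocusField (H50.conjHom hF) (RingHom.id F)

theorem mem_fixK {x : F} : x ∈ fixK hF ↔ x ^ q = x := Iff.rfl

theorem natCard_fixK : Nat.card (fixK hF) = q :=
  (Nat.card_congr (Equiv.subtypeEquivRight fun _ => mem_fixK hF)).trans (H50.card_fixed hF)

include hF

/-- Two polynomials with fixed values have a non-zero common zero over the fixed field. -/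
theorem exists_zero_two {σ : Type*} [Fintype σ] (p₁ p₂ : MvPolynomial σ F)
    (hdeg : p₁.totalDegree + p₂.totalDegree < Fintype.card σ)
    (h₁ : ∀ x : σ → F, (∀ i, x i ^ q = x i) → eval x p₁ ^ q = eval x p₁)
    (h₂ : ∀ x : σ → F, (∀ i, x i ^ q = x i) → eval x p₂ ^ q = eval x p₂)
    (z₁ : eval (0 : σ → F) p₁ = 0) (z₂ : eval (0 : σ → F) p₂ = 0) :
    ∃ x : σ → F, x ≠ 0 ∧ (∀ i, x i ^ q = x i) ∧ eval x p₁ = 0 ∧ eval x p₂ = 0 := by
  classical
  letI : Fintype (fixK hF) := Fintype.ofFinite _
  have hcard : Fintype.card (fixK hF) = q := by rw [← Nat.card_eq_fintype_card, natCard_fixK hF]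
  have h2 := H50.two_le hF
  have hind : ∀ y : F, y ^ q = y → 1 - y ^ (q - 1) = if y = 0 then 1 else 0 := by
    intro y hy
    by_cases hy0 : y = 0
    · subst hy0; rw [if_pos rfl, zero_pow (by omega), sub_zero]
    · rw [if_neg hy0, sub_eq_zero]
      refine mul_left_cancel₀ hy0 ?_
      rw [mul_one, ← pow_succ', show q - 1 + 1 = q by omega, hy]
  by_contra hcon
  have hsum := sum_eval_subfield_eq_zero (fixK hF) ((1 - p₁ ^ (q - 1)) * (1 - p₂ ^ (q - 1))) (by
    refine lt_of_le_of_lt (totalDegree_mul _ _) ?_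
    have e : ∀ p : MvPolynomial σ F, (1 - p ^ (q - 1)).totalDegree ≤ (q - 1) * p.totalDegree := fun p =>
      (totalDegree_sub _ _).trans (max_le (by simp) (totalDegree_pow _ _))
    have := e p₁
    have := e p₂
    rw [hcard]
    calc _ ≤ (q - 1) * (p₁.totalDegree + p₂.totalDegree) := by rw [mul_add]; omega
      _ < _ := Nat.mul_lt_mul_of_pos_left hdeg (by omega))
  rw [Finset.sum_eq_single (0 : σ → fixK hF)] at hsum
  · have e0 : (fun i => (((0 : σ → fixK hF) i : fixK hF) : F)) = 0 := by funext i; simp
    rw [e0, eval_mul, eval_sub, eval_sub, eval_pow, eval_pow, map_one, z₁, z₂, zero_pow (by omega),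
      sub_zero, one_mul] at hsum
    exact one_ne_zero hsum
  · intro x _ hx
    have hxq : ∀ i, ((x i : F)) ^ q = x i := fun i => (x i).2
    rw [eval_mul, eval_sub, eval_sub, eval_pow, eval_pow, map_one, hind _ (h₁ _ hxq), hind _ (h₂ _ hxq)]
    by_cases c₁ : eval (fun i => (x i : F)) p₁ = 0
    · by_cases c₂ : eval (fun i => (x i : F)) p₂ = 0
      · exfalso
        refine hcon ⟨fun i => (x i : F), fun e => hx ?_, hxq, c₁, c₂⟩
        funext i
        exact Subtype.ext (congrFun e i)
      · rw [if_neg c₂, mul_zero]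
    · rw [if_neg c₁, zero_mul]
  · intro h; exact absurd (Finset.mem_univ _) h

end H41.UTen
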