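import Cfsg.Agent.H41.UTen.Search

/-!
In four dimensions some unipotent of a totally isotropic plane has a degenerate pairing.
-/

set_option autoImplicit false
set_option linter.unusedSectionVars false
set_option linter.unusedSimpArgs false

namespace H41.UTen

open Matrix Cfsg H50
open H51 (adj adj_mul adj_add adj_smul adj_one adj_zero adj_adj adj_sub adj_neg adj_apply)

variable {F : Type*} [Field F] [Fintype F] {n₁ n₂ q : ℕ} (hF : Fintype.card F = q ^ 2)
include hF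

/-- A singular skew Hermitian combination on a totally isotropic plane. -/
theorem exists_singular_plane (hn : n₁ ≤ 3) (h1 : 0 < n₁) (C₁ C₂ : Matrix (Fin n₁) (Fin n₁) F) {l : F}
    (hl0 : l ≠ 0) (hl : l + l ^ q = 0) :
    ∃ (r₁ r₂ z : F), r₁ ^ q = r₁ ∧ r₂ ^ q = r₂ ∧ (r₁ ≠ 0 ∨ r₂ ≠ 0 ∨ z ≠ 0) ∧ ∃ p : Fin n₁ → F, p ≠ 0 ∧
      ((l * r₁) • (adj hF C₁ * C₁) + z • (adj hF C₁ * C₂) - z ^ q • (adj hF C₂ * C₁) +
        (l * r₂) • (adj hF C₂ * C₂)) *ᵥ p = 0 := by
  classical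
  haveI : Nonempty (Fin n₁) := ⟨⟨0, h1⟩⟩
  obtain ⟨θ, hθ⟩ : ∃ θ : F, θ ^ q ≠ θ := by
    by_contra hcon
    simp only [not_exists, not_not] at hcon
    have h1 := card_fixed_le hF
    rw [Nat.card_congr (Equiv.subtypeUnivEquiv hcon), Nat.card_eq_fintype_card, hF] at h1
    have := two_le hF
    nlinarith
  have hlq : l ^ q = -l := by linear_combination hl
  let W : Fin 4 → Matrix (Fin n₁) (Fin n₁) F := ![adj hF C₁ * C₁, adj hF C₂ * C₂,
    l⁻¹ • (adj hF C₁ * C₂ - adj hF C₂ * C₁),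
    l⁻¹ • (θ • (adj hF C₁ * C₂) - θ ^ q • (adj hF C₂ * C₁))]
  have hW : ∀ t, adj hF (W t) = W t := by
    intro t
    fin_cases t
    · simp [W, adj_mul, adj_adj]
    · simp [W, adj_mul, adj_adj]
    · simp [W, adj_smul, adj_sub, adj_mul, adj_adj, inv_pow, hlq]
      module
    · simp [W, adj_smul, adj_sub, adj_mul, adj_adj, inv_pow, hlq, pow_q_pow_q hF]
      module
  let P : Matrix (Fin n₁) (Fin n₁) (MvPolynomial (Fin 4) F) :=
    Matrix.of fun i i' => ∑ t, MvPolynomial.C (W t i i') * MvPolynomial.X t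
  have hP : ∀ y : Fin 4 → F, MvPolynomial.eval y P.det = (∑ t, y t • W t).det := fun y => by
    rw [RingHom.map_det]
    congr 1
    ext i i'
    simp [P, RingHom.mapMatrix_apply, Matrix.sum_apply, mul_comm]
  have hdeg₁ : P.det.totalDegree ≤ n₁ := totalDegree_det_le P fun i i' => by
    simp only [P, Matrix.of_apply]
    refine (MvPolynomial.totalDegree_finsetSum _ _).trans (Finset.sup_le fun t _ => ?_)
    exact (MvPolynomial.totalDegree_mul _ _).trans (by simp)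
  obtain ⟨y, hy0, hyq, hy1, -⟩ := exists_zero_two hF P.det 0 (by simp; omega) (fun y hy => by
      rw [hP, ← H51.det_adj hF, adj_sum hF]
      congr 1
      exact Finset.sum_congr rfl fun t _ => by rw [adj_smul, hy, hW]) (fun y hy => by
      simp [zero_pow (q_ne_zero hF)]) (by rw [hP]; simp) (by simp)
  rw [hP] at hy1
  obtain ⟨p, hp0, hp⟩ := Matrix.exists_mulVec_eq_zero_iff.2 hy1
  refine ⟨y 0, y 1, y 2 + θ * y 3, hyq 0, hyq 1, ?_, p, hp0, ?_⟩
  · by_contra hcon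
    simp only [not_or, not_not] at hcon
    apply hy0
    have e' : (y 2 + θ * y 3) ^ q = 0 := by rw [hcon.2.2, zero_pow (q_ne_zero hF)]
    rw [add_pow_q hF, mul_pow, hyq, hyq] at e'
    have h3 : y 3 = 0 := mul_left_cancel₀ (sub_ne_zero.2 hθ) (by linear_combination e' - hcon.2.2)
    funext t
    fin_cases t
    exacts [hcon.1, hcon.2.1, by simpa [h3] using hcon.2.2, h3]
  · have e : (l * y 0) • (adj hF C₁ * C₁) + (y 2 + θ * y 3) • (adj hF C₁ * C₂) -
        (y 2 + θ * y 3) ^ q • (adj hF C₂ * C₁) + (l * y 1) • (adj hF C₂ * C₂) = l • ∑ t, y t • W t := by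
      simp only [W, Fin.sum_univ_four, Matrix.cons_val_zero, Matrix.cons_val_one, Matrix.cons_val,
        smul_add, smul_smul, smul_sub, add_pow_q hF, mul_pow, hyq]
      simp only [← mul_assoc, show ∀ a : F, l * a * l⁻¹ = a from fun a => by field_simp]
      module
    rw [e, Matrix.smul_mulVec, hp, smul_zero]

theorem cv_adj_smul (c : F) (v : Fin n₂ → F) :
    adj hF (cv n₁ (c • v)) = c ^ q • adj hF (cv n₁ v : Matrix (Fin n₁ × Fin n₂) (Fin n₁) F) := by
  rw [cv_smul, adj_smul]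

/-- In four dimensions, if all pairings are injective, some element of `Qm v (x, r)` has a kernel. -/
theorem exists_first (h4 : n₂ = 4) (hn : n₁ ≤ 3) (h1 : 0 < n₁) (U : Matrix (Fin n₁ × Fin n₂) (Fin n₁) F)
    (hinj : ∀ w : Fin n₂ → F, w ≠ 0 → hermForm n₂ F q w w = 0 →
      ∀ p, (adj hF (cv n₁ w) * U) *ᵥ p = 0 → p = 0) :
    ∃ (v x : Fin n₂ → F) (r : F), v ≠ 0 ∧ hermForm n₂ F q v v = 0 ∧ hermForm n₂ F q x x = 0 ∧
      hermForm n₂ F q x v = 0 ∧ r + r ^ q = 0 ∧ LinearIndependent F ![x, v] ∧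
      0 < Module.finrank F (LinearMap.ker (pairing hF v x r U).mulVecLin) := by
  classical
  have hq := q_ne_zero hF
  obtain ⟨u₁, hu₁0, hu₁⟩ := exists_isotropic hF (n := n₂) (by omega)
  obtain ⟨u₁', hyp⟩ := exists_hyp_partner hF hu₁0 hu₁
  obtain ⟨d, hd, hdv⟩ := exists_completion hF (hyp.gramND hF)
  let k₀ : Fin (n₂ - Fintype.card (Fin 2)) := ⟨0, by rw [Fintype.card_fin]; omega⟩
  let k₁ : Fin (n₂ - Fintype.card (Fin 2)) := ⟨1, by rw [Fintype.card_fin]; omega⟩
  obtain ⟨ξ, hξ⟩ := exists_norm_eq hF (c := (-1 : F)) (by rw [neg_pow_q hF, one_pow])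
  rw [pow_succ] at hξ
  set u₂ := d k₀ + ξ • d k₁ with hu₂def
  have hk : k₀ ≠ k₁ := by simp [k₀, k₁]
  have d00 : hermForm n₂ F q (d k₀) (d k₀) = 1 := (hd k₀ k₀).trans (if_pos rfl)
  have d11 : hermForm n₂ F q (d k₁) (d k₁) = 1 := (hd k₁ k₁).trans (if_pos rfl)
  have d01 : hermForm n₂ F q (d k₀) (d k₁) = 0 := (hd k₀ k₁).trans (if_neg hk)
  have d10 : hermForm n₂ F q (d k₁) (d k₀) = 0 := (hd k₁ k₀).trans (if_neg hk.symm)
  have e00 : hermForm n₂ F q (d k₀) u₁ = 0 := hdv k₀ 0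
  have e10 : hermForm n₂ F q (d k₁) u₁ = 0 := hdv k₁ 0
  have hu₂ : hermForm n₂ F q u₂ u₂ = 0 := by
    simp only [hu₂def, h_add_left, h_add_right hF, h_smul_left, h_smul_right hF, d00, d11, d01, d10]
    linear_combination hξ
  have h21 : hermForm n₂ F q u₂ u₁ = 0 := by
    simp [hu₂def, h_add_left, h_smul_left, e00, e10]
  have h12 := (h_eq_zero_comm hF).1 h21
  have hlin : ∀ a b : F, a • u₁ + b • u₂ = 0 → a = 0 ∧ b = 0 := fun a b e => by
    have hb : b = 0 := by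
      have := congrArg (fun w => hermForm n₂ F q w (d k₀)) e
      simp only [hu₂def, h_add_left, h_smul_left, h_zero_left, d00, d10,
        (h_eq_zero_comm hF).1 e00, mul_zero, mul_one, add_zero, zero_add] at this
      exact this
    rw [hb, zero_smul, add_zero] at e
    exact ⟨(smul_eq_zero.1 e).resolve_right hu₁0, hb⟩
  obtain ⟨l, hl0, hl⟩ := exists_trace_zero_ne_zero hF
  have hlq : l ^ q = -l := by linear_combination hl
  set C₁ := adj hF (cv n₁ u₁) * U with hC₁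
  set C₂ := adj hF (cv n₁ u₂) * U with hC₂
  obtain ⟨r₁, r₂, z, hr₁, hr₂, hnz, p, hp0, hp⟩ := exists_singular_plane hF hn h1 C₁ C₂ hl0 hl
  set T := (l * r₁) • (adj hF C₁ * C₁) + z • (adj hF C₁ * C₂) - z ^ q • (adj hF C₂ * C₁) +
    (l * r₂) • (adj hF C₂ * C₂) with hT
  have hgram : ∀ {w : Fin n₂ → F} {c : F}, w ≠ 0 → hermForm n₂ F q w w = 0 → c ≠ 0 →
      (c • (adj hF (adj hF (cv n₁ w) * U) * (adj hF (cv n₁ w) * U))) *ᵥ p ≠ 0 := fun hw0 hw hc e => by
    rw [Matrix.smul_mulVec, smul_eq_zero, or_iff_right hc, ← Matrix.mulVec_mulVec] at e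
    have hinjC : Function.Injective ((adj hF (cv n₁ _) * U) *ᵥ ·) := fun a b hab =>
      sub_eq_zero.1 (hinj _ hw0 hw _ (by rw [Matrix.mulVec_sub]; exact sub_eq_zero.2 hab))
    have hu := H51.isUnit_adj hF (Matrix.mulVec_injective_iff_isUnit.1 hinjC)
    exact hp0 (hinj _ hw0 hw _ (Matrix.mulVec_injective_iff_isUnit.2 hu (e.trans (Matrix.mulVec_zero _).symm)))
  -- the result from the normal form
  suffices hsuff : ∃ (v x : Fin n₂ → F) (r : F), v ≠ 0 ∧ hermForm n₂ F q v v = 0 ∧ hermForm n₂ F q x x = 0 ∧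
      hermForm n₂ F q x v = 0 ∧ r + r ^ q = 0 ∧ LinearIndependent F ![x, v] ∧ pairing hF v x r U = T by
    obtain ⟨v, x, r, a, b, c, e, f, g, h⟩ := hsuff
    refine ⟨v, x, r, a, b, c, e, f, g, ?_⟩
    rw [h, Nat.pos_iff_ne_zero, ne_eq, Submodule.finrank_eq_zero]
    intro e0
    exact hp0 ((Submodule.mem_bot F).1 (e0 ▸ (LinearMap.mem_ker.2 hp : p ∈ LinearMap.ker T.mulVecLin)))
  by_cases h10 : r₁ = 0
  · have hz : z ≠ 0 := fun hz => by
      have hr₂0 : r₂ ≠ 0 := by simpa [h10, hz] using hnz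
      refine hgram (w := u₂) (c := l * r₂) (fun e => ?_) hu₂ (mul_ne_zero hl0 hr₂0) ?_
      · exact one_ne_zero (hlin 0 1 (by rw [e]; simp)).2
      · rw [hT, h10, hz, mul_zero, zero_smul, zero_smul, zero_pow hq, zero_smul, add_zero, sub_zero, zero_add] at hp
        exact hp
    refine ⟨u₂, z • u₁, l * r₂, fun e => one_ne_zero (hlin 0 1 (by rw [e]; simp)).2, hu₂,
      by rw [h_smul_left, h_smul_right hF, hu₁, mul_zero, mul_zero], by rw [h_smul_left, h12, mul_zero],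
      by rw [mul_pow, hlq, hr₂]; ring, ?_, ?_⟩
    · refine linearIndependent_fin2.2 ⟨by simpa using fun e : u₂ = 0 => one_ne_zero (hlin 0 1 (by rw [e]; simp)).2,
        fun a e => hz ?_⟩
      simp at e
      have := hlin z (-a) (by rw [← e]; module)
      exact this.1
    · rw [pairing, cv_adj_smul hF, hT, h10, ← hC₂, Matrix.smul_mul, ← hC₁, adj_smul, pow_q_pow_q hF, Matrix.smul_mul,
        Matrix.mul_smul, mul_zero, zero_smul]
      module
  · -- complete the square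
    have hlr : l * r₁ ≠ 0 := mul_ne_zero hl0 h10
    set ρ := z / (l * r₁) with hρ
    set b := l * r₂ - ρ ^ q * (l * r₁) * ρ with hb
    have hTe : T = (l * r₁) • (adj hF (C₁ + ρ • C₂) * (C₁ + ρ • C₂)) + b • (adj hF C₂ * C₂) := by
      have e1 : l * r₁ * ρ = z := by rw [hρ]; field_simp
      have e2 : l * r₁ * ρ ^ q = -(z ^ q) := by rw [← e1, mul_pow, mul_pow, hlq, hr₁]; ring
      simp only [adj_add, adj_smul, Matrix.add_mul, Matrix.mul_add, Matrix.smul_mul, Matrix.mul_smul,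
        smul_add, smul_smul, hT, hb]
      rw [e1, e2, show l * r₁ * (ρ * ρ ^ q) = ρ ^ q * (l * r₁) * ρ by ring]
      module
    have hb0 : b ≠ 0 := fun hb0 => by
      rw [hTe, hb0, zero_smul, add_zero] at hp
      have e : C₁ + ρ • C₂ = adj hF (cv n₁ (u₁ + ρ ^ q • u₂)) * U := by
        rw [cv_add, adj_add, cv_adj_smul hF, pow_q_pow_q hF, Matrix.add_mul, Matrix.smul_mul]
      rw [e] at hp
      refine hgram (fun e0 => one_ne_zero (hlin 1 (ρ ^ q) (by rwa [one_smul])).1) ?_ hlr hp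
      simp [h_add_left, h_add_right hF, h_smul_left, h_smul_right hF, hu₁, hu₂, h12, h21]
    have hbq : b ^ q = -b := by
      rw [hb, sub_pow_q hF, mul_pow, mul_pow, mul_pow, mul_pow, hlq, hr₁, hr₂, pow_q_pow_q hF]; ring
    obtain ⟨μ, hμ⟩ := exists_norm_eq hF (c := -(b / (l * r₁)))
      (by rw [neg_pow_q hF, div_pow, hbq, mul_pow, hlq, hr₁, neg_mul, neg_div_neg_eq])
    rw [pow_succ] at hμ
    have hμ0 : μ ≠ 0 := fun e => by
      rw [e, mul_zero, eq_comm, neg_eq_zero, div_eq_zero_iff] at hμ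
      exact hμ.elim hb0 hlr
    refine ⟨u₁ + (ρ - μ) ^ q • u₂, (-(l * r₁) * μ) ^ q • u₂, l * r₁,
      fun e0 => one_ne_zero (hlin 1 _ (by rwa [one_smul])).1, ?_, ?_, ?_, by rw [mul_pow, hlq, hr₁]; ring, ?_, ?_⟩
    · simp [h_add_left, h_add_right hF, h_smul_left, h_smul_right hF, hu₁, hu₂, h12, h21]
    · simp [h_smul_left, h_smul_right hF, hu₂]
    · simp [h_add_right hF, h_smul_left, h_smul_right hF, hu₂, h21]
    · refine linearIndependent_fin2.2 ⟨?_, fun a e => ?_⟩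
      · simp only [Matrix.cons_val_one]
        exact fun e0 => one_ne_zero (hlin 1 _ (by rwa [one_smul])).1
      · simp at e
        have h := hlin a (a * (ρ - μ) ^ q - (-(l * r₁) * μ) ^ q) (by
          rw [sub_smul, mul_smul]; linear_combination (norm := module) e)
        rw [h.1, zero_mul, zero_sub, neg_eq_zero] at h
        exact mul_ne_zero (neg_ne_zero.2 hlr) hμ0 (eq_zero_of_pow_eq_zero h.2)
    · have eD : adj hF (cv n₁ (u₁ + (ρ - μ) ^ q • u₂)) * U = C₁ + (ρ - μ) • C₂ := by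
        rw [cv_add, adj_add, cv_adj_smul hF, pow_q_pow_q hF, Matrix.add_mul, Matrix.smul_mul]
      rw [pairing, eD, cv_adj_smul hF, pow_q_pow_q hF, Matrix.smul_mul, ← hC₂, hTe,
        show b = -(μ ^ q * μ) * (l * r₁) by rw [hμ]; field_simp]
      simp only [adj_add, adj_smul, Matrix.add_mul, Matrix.mul_add, Matrix.smul_mul, Matrix.mul_smul, smul_add,
        smul_smul, sub_pow_q hF, mul_pow, neg_pow_q hF, hlq, hr₁]
      module

end H41.UTen
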