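import Cfsg.Agent.H41.UTen.KSet

/-!
An overgroup of the tensor group without transvections along columns: central elements are scalar.
-/

set_option autoImplicit false
set_option linter.unusedSectionVars false
set_option linter.unusedSimpArgs false

namespace H41.UTen

open Matrix Cfsg H50
open scoped Kronecker
open H51 (adj adj_mul adj_add adj_smul adj_one adj_zero adj_adj adj_sub adj_neg adj_kronecker adj_apply)

variable {F : Type*} [Field F] [Fintype F] {n₁ n₂ q : ℕ}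

/-- The matrices of an overgroup of the tensor group which has no transvection with centre a pure
isotropic tensor. -/
structure Ov (hF : Fintype.card F = q ^ 2) (n₁ n₂ : ℕ)
    (Mm : Matrix (Fin n₁ × Fin n₂) (Fin n₁ × Fin n₂) F → Prop) : Prop where
  two : 2 ≤ n₁
  lt : n₁ < n₂
  three : 3 ≤ n₂
  exc : ¬ (n₁ = 2 ∧ q = 2)
  uni : ∀ {X}, Mm X → adj hF X * X = 1
  det : ∀ {X}, Mm X → X.det = 1
  mul : ∀ {X Y}, Mm X → Mm Y → Mm (X * Y)
  star : ∀ {X}, Mm X → Mm (adj hF X)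
  tens : ∀ {X}, adj hF X * X = 1 → X.det = 1 → IsT X → Mm X
  noTv : ∀ (v : Fin n₂ → F), v ≠ 0 → hermForm n₂ F q v v = 0 → ∀ (a : Fin n₁ → F) (l : F),
    a ≠ 0 → hermForm n₁ F q a a = 0 → l ≠ 0 → l + l ^ q = 0 → ¬ Mm (Tv hF v (l • outer q a))

/-- The conjugate of the tensor group by `g` lies in the overgroup. -/
def Good (hF : Fintype.card F = q ^ 2) (Mm : Matrix (Fin n₁ × Fin n₂) (Fin n₁ × Fin n₂) F → Prop)
    (g : Matrix (Fin n₁ × Fin n₂) (Fin n₁ × Fin n₂) F) : Prop :=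
  adj hF g * g = 1 ∧ ∀ X, adj hF X * X = 1 → X.det = 1 → IsT X → Mm (g * X * adj hF g)

variable {hF : Fintype.card F = q ^ 2} {Mm : Matrix (Fin n₁ × Fin n₂) (Fin n₁ × Fin n₂) F → Prop}

theorem Ov.good (O : Ov hF n₁ n₂ Mm) {g : Matrix (Fin n₁ × Fin n₂) (Fin n₁ × Fin n₂) F} (hg : Mm g) :
    Good hF Mm g :=
  ⟨O.uni hg, fun _ h1 h2 h3 => O.mul (O.mul hg (O.tens h1 h2 h3)) (O.star hg)⟩

theorem Good.mul_tens {g t : Matrix (Fin n₁ × Fin n₂) (Fin n₁ × Fin n₂) F} (hg : Good hF Mm g)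
    (ht : adj hF t * t = 1) (hT : IsT t) : Good hF Mm (g * t) := by
  refine ⟨uni_mul hF hg.1 ht, fun X h1 h2 h3 => ?_⟩
  have h := hg.2 (t * X * adj hF t) (uni_mul hF (uni_mul hF ht h1) (uni_adj hF ht)) (by
    rw [Matrix.det_mul, Matrix.det_mul, h2, mul_one, ← Matrix.det_mul, mul_adj_of_uni hF ht, Matrix.det_one])
    ((hT.mul h3).mul (hT.adj hF))
  rw [adj_mul]
  simpa only [Matrix.mul_assoc] using h

theorem det_one_kron {B : Matrix (Fin n₂) (Fin n₂) F} (h : B.det = 1) :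
    ((1 : Matrix (Fin n₁) (Fin n₁) F) ⊗ₖ B).det = 1 := by
  rw [Matrix.det_kronecker, h, Matrix.det_one, one_pow, one_pow, mul_one]

theorem det_kron_one {A : Matrix (Fin n₁) (Fin n₁) F} (h : A.det = 1) :
    (A ⊗ₖ (1 : Matrix (Fin n₂) (Fin n₂) F)).det = 1 := by
  rw [Matrix.det_kronecker, h, Matrix.det_one, one_pow, one_pow, mul_one]

theorem Tv_inj {v : Fin n₂ → F} (hv0 : v ≠ 0) (hv : hermForm n₂ F q v v = 0)
    {S T : Matrix (Fin n₁) (Fin n₁) F} (h : Tv hF v S = Tv hF v T) : S = T := by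
  obtain ⟨v', hv'⟩ := exists_hyp_partner hF hv0 hv
  have h1 : adj hF (cv n₁ v') * cv n₁ v = 1 := by rw [adj_cv_mul hF, hv'.2.2, one_smul]
  have h2 : adj hF (cv n₁ v) * cv n₁ v' = 1 := by rw [adj_cv_mul hF, (hv'.symm hF).2.2, one_smul]
  have h3 := add_left_cancel (a := (1 : Matrix (Fin n₁ × Fin n₂) (Fin n₁ × Fin n₂) F)) h
  have h4 := congrArg (fun Z => adj hF (cv n₁ v') * Z * cv n₁ v') h3
  simpa [Matrix.mul_assoc, h2, ← Matrix.mul_assoc (adj hF (cv n₁ v')) (cv n₁ v), h1] using h4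

theorem Tv_mul {v : Fin n₂ → F} (hv : hermForm n₂ F q v v = 0) (S T : Matrix (Fin n₁) (Fin n₁) F) :
    Tv hF v S * Tv hF v T = Tv hF v (S + T) := by
  rw [Tv_eq_Qm hF, Tv_eq_Qm hF, Tv_eq_Qm hF, Qm_mul hF hv (by simp) (by simp)]
  simp

theorem adj_Tv (v : Fin n₂ → F) (S : Matrix (Fin n₁) (Fin n₁) F) :
    adj hF (Tv hF v S) = Tv hF v (adj hF S) := by
  rw [Tv_eq_Qm hF, Tv_eq_Qm hF, adj_Qm hF, neg_zero]

theorem Tv_zero (v : Fin n₂ → F) : Tv hF v (0 : Matrix (Fin n₁) (Fin n₁) F) = 1 := by simp [Tv]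

theorem Tv_smul_one_uni {v : Fin n₂ → F} (hv : hermForm n₂ F q v v = 0) {c : F} (hc : c + c ^ q = 0) :
    adj hF (Tv hF v (c • (1 : Matrix (Fin n₁) (Fin n₁) F))) * Tv hF v (c • 1) = 1 := by
  rw [adj_Tv, Tv_mul hv, adj_smul, adj_one, ← add_smul, add_comm (c ^ q), hc, zero_smul, Tv_zero]

theorem Tv_det {v : Fin n₂ → F} (hv : hermForm n₂ F q v v = 0) (S : Matrix (Fin n₁) (Fin n₁) F) :
    (Tv hF v S).det = 1 := by
  rw [Tv_eq_Qm hF]; exact Qm_det hF hv (by simp) S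

/-- Central elements in the overgroup are scalar. -/
theorem Ov.scal (O : Ov hF n₁ n₂ Mm) {v : Fin n₂ → F} (hv0 : v ≠ 0) (hv : hermForm n₂ F q v v = 0)
    {S : Matrix (Fin n₁) (Fin n₁) F} (h : Mm (Tv hF v S)) : ∃ s : F, S = s • 1 := by
  have hskew : ∀ {T : Matrix (Fin n₁) (Fin n₁) F}, Mm (Tv hF v T) → adj hF T = -T := by
    intro T hT
    have h1 := O.uni hT
    rw [adj_Tv, Tv_mul hv, ← Tv_zero (hF := hF) v] at h1
    exact eq_neg_of_add_eq_zero_left (Tv_inj hv0 hv h1)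
  have hK : KInv hF (fun T => Mm (Tv hF v T)) := by
    refine ⟨fun hS hT => by rw [← Tv_mul hv]; exact O.mul hS hT, fun {T} hT => ?_, fun {T c} hc hc0 hT => ?_,
      fun {A T} hA hd hT => ?_⟩
    · have := O.star hT
      rwa [adj_Tv, hskew hT] at this
    · obtain ⟨μ, hμ⟩ := exists_norm_eq hF hc
      rw [pow_succ] at hμ
      have hμ0 : μ ≠ 0 := fun e => hc0 (by rw [← hμ, e, mul_zero])
      obtain ⟨B, hB, hBv, hBd⟩ := UDec.exists_move_vec hF (by have := O.three; omega) hv0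
        (smul_ne_zero hμ0 hv0) (by rw [h_smul_left, h_smul_right hF, hv, mul_zero, mul_zero])
      set X := (1 : Matrix (Fin n₁) (Fin n₁) F) ⊗ₖ B
      have hX : adj hF X * X = 1 := uni_kron hF (by rw [adj_one, Matrix.mul_one]) ((isIso_iff hF).1 hB)
      have hXv : X * cv n₁ v = cv n₁ v * (μ • (1 : Matrix (Fin n₁) (Fin n₁) F)) := by
        rw [one_kron_cv, hBv, cv_smul, Matrix.mul_smul, Matrix.mul_one]
      have hXM := O.tens hX (det_one_kron (hBd (by have := O.three; omega))) ⟨_, _, rfl⟩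
      have := O.mul (O.mul hXM hT) (O.star hXM)
      rw [conj_Tv hF hX hXv] at this
      simpa [adj_smul, smul_smul, mul_comm μ, hμ] using this
    · set X := A ⊗ₖ (1 : Matrix (Fin n₂) (Fin n₂) F)
      have hX : adj hF X * X = 1 := uni_kron hF hA (by rw [adj_one, Matrix.mul_one])
      have hXv : X * cv n₁ v = cv n₁ v * A := by rw [kron_cv, Matrix.one_mulVec]
      have hXM := O.tens hX (det_kron_one hd) ⟨_, _, rfl⟩
      have := O.mul (O.mul hXM hT) (O.star hXM)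
      rwa [conj_Tv hF hX hXv] at this
  rcases hK.scalar_or_rankOne hF O.two O.exc (hskew h)
    (fun A hA hd => by
      rw [sub_eq_add_neg]
      exact hK.add (hK.congr hA hd h) (hK.neg h)) with hs | ⟨a, l, ha0, ha, hl0, hl, hmem⟩
  · exact hs
  · exact absurd hmem (O.noTv v hv0 hv a l ha0 ha hl0 hl)

/-- The scalar form of a set of skew Hermitian matrices: differences under congruence being scalar. -/
theorem Ov.scalar_of_diff (O : Ov hF n₁ n₂ Mm) {S : Matrix (Fin n₁) (Fin n₁) F} (hS : adj hF S = -S)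
    (hd : ∀ A : Matrix (Fin n₁) (Fin n₁) F, adj hF A * A = 1 → A.det = 1 → ∃ s : F, A * S * adj hF A - S = s • 1) :
    ∃ s : F, S = s • 1 := by
  have hK : KInv hF (fun T : Matrix (Fin n₁) (Fin n₁) F => ∃ s : F, T = s • 1) := by
    refine ⟨?_, ?_, ?_, ?_⟩
    · rintro _ _ ⟨s, rfl⟩ ⟨t, rfl⟩; exact ⟨s + t, (add_smul _ _ _).symm⟩
    · rintro _ ⟨s, rfl⟩; exact ⟨-s, (neg_smul _ _).symm⟩
    · rintro _ c - - ⟨s, rfl⟩; exact ⟨c * s, by rw [smul_smul]⟩
    · rintro A _ hA - ⟨s, rfl⟩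
      exact ⟨s, by rw [Matrix.mul_smul, Matrix.mul_one, Matrix.smul_mul, mul_adj_of_uni hF hA]⟩
  rcases hK.scalar_or_rankOne hF O.two O.exc hS hd with hs | ⟨a, l, ha0, ha, hl0, -, s, hs⟩
  · exact hs
  · exfalso
    have h1 := congrArg (· *ᵥ a) hs
    simp only [Matrix.smul_mulVec, outer_mulVec, Matrix.one_mulVec, ha, zero_smul, smul_zero] at h1
    have hs0 : s = 0 := (smul_eq_zero.1 h1.symm).resolve_right ha0
    rw [hs0, zero_smul, smul_eq_zero] at hs
    have h2 := hs.resolve_left hl0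
    obtain ⟨f, hf⟩ := exists_hyp_partner hF ha0 ha
    have h3 := congrArg (· *ᵥ f) h2
    simp only [outer_mulVec, Matrix.zero_mulVec, (hf.symm hF).2.2, one_smul] at h3
    exact ha0 h3

end H41.UTen
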