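import Cfsg.Agent.H41.UTen.Count
import Cfsg.Agent.H41.UTen.Over

/-!
A unipotent element of the stabiliser of `v` whose pairing on a column image is degenerate.
-/

set_option autoImplicit false
set_option linter.unusedSectionVars false
set_option linter.unusedSimpArgs false

namespace H41.UTen

open Matrix Cfsg H50
open H51 (adj adj_mul adj_add adj_smul adj_one adj_zero adj_adj adj_sub adj_neg adj_apply)

variable {F : Type*} [Field F] [Fintype F] {n₁ n₂ q : ℕ} (hF : Fintype.card F = q ^ 2)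
include hF

theorem adj_sum {ι : Type*} {a b : Type*} (s : Finset ι) (f : ι → Matrix a b F) :
    adj hF (∑ i ∈ s, f i) = ∑ i ∈ s, adj hF (f i) := by
  ext i j
  simp only [adj_apply, Matrix.sum_apply, sum_pow_q hF]

omit [Fintype F] hF in
theorem totalDegree_det_le {σ : Type*} {j : ℕ} (M : Matrix (Fin j) (Fin j) (MvPolynomial σ F))
    (h : ∀ i l, (M i l).totalDegree ≤ 1) : M.det.totalDegree ≤ j := by
  rw [Matrix.det_apply]
  refine (MvPolynomial.totalDegree_finsetSum _ _).trans (Finset.sup_le fun π _ => ?_)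
  refine le_trans ?_ (le_trans ((MvPolynomial.totalDegree_finsetProd Finset.univ fun i => M (π i) i).trans
    (Finset.sum_le_sum fun i _ => h (π i) i)) (by simp))
  rcases Int.units_eq_one_or (Equiv.Perm.sign π) with e | e <;> simp [e]

theorem h_mulVec_rect {n j : ℕ} (β : Matrix (Fin n) (Fin j) F) (w : Fin j → F) (y : Fin n → F) :
    hermForm n F q (β *ᵥ w) y = hermForm j F q w (adj hF β *ᵥ y) := by
  simp only [hermForm, Matrix.mulVec, dotProduct, adj_apply, sum_pow_q hF, mul_pow, pow_q_pow_q hF,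
    Finset.mul_sum, Finset.sum_mul]
  rw [Finset.sum_comm]
  exact Finset.sum_congr rfl fun i _ => Finset.sum_congr rfl fun i' _ => by ring

/-- A singular pencil value with isotropic parameter. -/
theorem exists_singular {m j : ℕ} (A : Fin m → Matrix (Fin n₁) (Fin n₁) F) (Z : Matrix (Fin n₁) (Fin n₁) F)
    (hZ : adj hF Z = -Z) (β : Matrix (Fin n₁) (Fin j) F) (hj : 0 < j) (hjm : j + 2 < 2 * m + 1) :
    ∃ (ζ : Fin m → F) (r : F), r ^ q = r ∧ (ζ ≠ 0 ∨ r ≠ 0) ∧ ∑ k, ζ k * ζ k ^ q = 0 ∧
      ∃ c : Fin j → F, c ≠ 0 ∧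
        adj hF β *ᵥ ((∑ k, (ζ k • A k - ζ k ^ q • adj hF (A k)) + r • Z) *ᵥ (β *ᵥ c)) = 0 := by
  classical
  haveI : Nonempty (Fin j) := ⟨⟨0, hj⟩⟩
  obtain ⟨l, hl0, hl⟩ := exists_trace_zero_ne_zero hF
  obtain ⟨θ, hθ⟩ : ∃ θ : F, θ ^ q ≠ θ := by
    by_contra hcon
    simp only [not_exists, not_not] at hcon
    have h1 := card_fixed_le hF
    rw [Nat.card_congr (Equiv.subtypeUnivEquiv hcon), Nat.card_eq_fintype_card, hF] at h1
    have := two_le hF
    nlinarith
  let V := (Fin m ⊕ Fin m) ⊕ Unit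
  let W : V → Matrix (Fin n₁) (Fin n₁) F :=
    Sum.elim (Sum.elim (fun k => A k - adj hF (A k)) (fun k => θ • A k - θ ^ q • adj hF (A k))) (fun _ => Z)
  have hW : ∀ t, adj hF (W t) = -W t := by
    rintro ((k | k) | _)
    · simp [W, adj_sub, adj_adj]
    · simp [W, adj_sub, adj_smul, adj_adj, pow_q_pow_q hF]
    · simpa [W] using hZ
  let W' : V → Matrix (Fin j) (Fin j) F := fun t => l⁻¹ • (adj hF β * W t * β)
  have hW' : ∀ t, adj hF (W' t) = W' t := fun t => by
    simp only [W', adj_smul, adj_mul, adj_adj, hW, Matrix.neg_mul, Matrix.mul_neg, Matrix.mul_assoc, inv_pow,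
      show l ^ q = -l by linear_combination hl, inv_neg, neg_smul, smul_neg, neg_neg]
  let P : Matrix (Fin j) (Fin j) (MvPolynomial V F) :=
    Matrix.of fun i i' => ∑ t, MvPolynomial.C (W' t i i') * MvPolynomial.X t
  let p₂ : MvPolynomial V F := ∑ k, (MvPolynomial.X (Sum.inl (Sum.inl k)) + MvPolynomial.C θ * MvPolynomial.X (Sum.inl (Sum.inr k))) *
    (MvPolynomial.X (Sum.inl (Sum.inl k)) + MvPolynomial.C (θ ^ q) * MvPolynomial.X (Sum.inl (Sum.inr k)))
  have hP : ∀ y : V → F, MvPolynomial.eval y P.det = (∑ t, y t • W' t).det := fun y => by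
    rw [RingHom.map_det]
    congr 1
    ext i i'
    simp [P, RingHom.mapMatrix_apply, Matrix.sum_apply, mul_comm]
  have hdeg₁ : P.det.totalDegree ≤ j := totalDegree_det_le P fun i i' => by
    simp only [P, Matrix.of_apply]
    refine (MvPolynomial.totalDegree_finsetSum _ _).trans (Finset.sup_le fun t _ => ?_)
    exact (MvPolynomial.totalDegree_mul _ _).trans (by simp)
  have hdeg₂ : p₂.totalDegree ≤ 2 := by
    refine (MvPolynomial.totalDegree_finsetSum _ _).trans (Finset.sup_le fun k _ => ?_)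
    refine (MvPolynomial.totalDegree_mul _ _).trans ?_
    have h1 : ∀ (c : F) (u v : V), (MvPolynomial.X u + MvPolynomial.C c * MvPolynomial.X v).totalDegree ≤ 1 :=
      fun c u v => (MvPolynomial.totalDegree_add _ _).trans
        (max_le (by simp) ((MvPolynomial.totalDegree_mul _ _).trans (by simp)))
    exact le_trans (Nat.add_le_add (h1 _ _ _) (h1 _ _ _)) le_rfl
  obtain ⟨y, hy0, hyq, hy1, hy2⟩ := exists_zero_two hF P.det p₂ (by
      simp only [V, Fintype.card_sum, Fintype.card_fin, Fintype.card_unit]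
      omega) (fun y hy => by
      rw [hP, ← H51.det_adj hF, adj_sum hF]
      congr 1
      exact Finset.sum_congr rfl fun t _ => by rw [adj_smul, hy, hW']) (fun y hy => by
      simp only [p₂, map_sum, sum_pow_q hF, map_mul, map_add, MvPolynomial.eval_X, MvPolynomial.eval_C, mul_pow,
        add_pow_q hF, hy, pow_q_pow_q hF]
      exact Finset.sum_congr rfl fun k _ => mul_comm _ _) (by rw [hP]; simp) (by simp [p₂])
  refine ⟨fun k => y (Sum.inl (Sum.inl k)) + θ * y (Sum.inl (Sum.inr k)), y (Sum.inr ()), hyq _, ?_, ?_, ?_⟩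
  · by_contra hcon
    rw [not_or, not_not, not_not] at hcon
    apply hy0
    have hk : ∀ k, y (Sum.inl (Sum.inl k)) = 0 ∧ y (Sum.inl (Sum.inr k)) = 0 := fun k => by
      have e := congrFun hcon.1 k
      simp only [Pi.zero_apply] at e
      have e' : (y (Sum.inl (Sum.inl k)) + θ * y (Sum.inl (Sum.inr k))) ^ q = 0 := by
        rw [e, zero_pow (q_ne_zero hF)]
      rw [add_pow_q hF, mul_pow, hyq, hyq] at e'
      have ht : y (Sum.inl (Sum.inr k)) = 0 :=
        mul_left_cancel₀ (sub_ne_zero.2 hθ) (by linear_combination e' - e)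
      exact ⟨by simpa [ht] using e, ht⟩
    funext t
    rcases t with (k | k) | u
    · exact (hk k).1
    · exact (hk k).2
    · exact hcon.2
  · simp only [p₂, map_sum, map_mul, map_add, MvPolynomial.eval_X, MvPolynomial.eval_C] at hy2
    rw [← hy2]
    exact Finset.sum_congr rfl fun k _ => by rw [add_pow_q hF, mul_pow, hyq, hyq]
  · rw [hP] at hy1
    obtain ⟨c, hc0, hc⟩ := Matrix.exists_mulVec_eq_zero_iff.2 hy1
    refine ⟨c, hc0, ?_⟩
    have e : (∑ k, ((y (Sum.inl (Sum.inl k)) + θ * y (Sum.inl (Sum.inr k))) • A k -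
        (y (Sum.inl (Sum.inl k)) + θ * y (Sum.inl (Sum.inr k))) ^ q • adj hF (A k)) + y (Sum.inr ()) • Z) =
        ∑ t, y t • W t := by
      simp only [W, V, Fintype.sum_sum_type, Fintype.sum_unique, Sum.elim_inl, Sum.elim_inr,
        ← Finset.sum_add_distrib]
      congr 1
      refine Finset.sum_congr rfl fun k _ => ?_
      rw [add_pow_q hF, mul_pow, hyq, hyq]
      module
    have e' : adj hF β * (∑ t, y t • W t) * β = l • ∑ t, y t • W' t := by
      simp only [W', Matrix.mul_sum, Matrix.sum_mul, Finset.smul_sum, Matrix.mul_smul, Matrix.smul_mul, smul_smul]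
      refine Finset.sum_congr rfl fun t _ => ?_
      congr 1
      field_simp
    rw [e, Matrix.mulVec_mulVec, Matrix.mulVec_mulVec, e', Matrix.smul_mulVec, hc, smul_zero]

/-- The pairing of `g (a ⊗ u)` with its image under the element `Qm v (x, r)`. -/
def pairing (v : Fin n₂ → F) (x : Fin n₂ → F) (r : F) (U : Matrix (Fin n₁ × Fin n₂) (Fin n₁) F) :
    Matrix (Fin n₁) (Fin n₁) F :=
  adj hF (adj hF (cv n₁ x) * U) * (adj hF (cv n₁ v) * U) -
    adj hF (adj hF (cv n₁ v) * U) * (adj hF (cv n₁ x) * U) +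
    r • (adj hF (adj hF (cv n₁ v) * U) * (adj hF (cv n₁ v) * U))

/-- A parameter for which the pairing kills more than the kernel. -/
theorem exists_pairing (h4 : 4 ≤ n₂) (h12 : n₁ < n₂) {v v' : Fin n₂ → F} (hv : IsHyp q v v')
    (U : Matrix (Fin n₁ × Fin n₂) (Fin n₁) F)
    (hsmall : 5 ≤ n₂ ∨ 0 < Module.finrank F (LinearMap.ker (adj hF (cv n₁ v) * U).mulVecLin))
    (hne : adj hF (cv n₁ v) * U ≠ 0)
    (hfix : ∀ p, (adj hF (cv n₁ v) * U) *ᵥ p = 0 → ∀ x, hermForm n₂ F q x v = 0 → (adj hF (cv n₁ x) * U) *ᵥ p = 0) :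
    ∃ (x : Fin n₂ → F) (r : F), (x ≠ 0 ∨ r ≠ 0) ∧ r + r ^ q = 0 ∧ hermForm n₂ F q x x = 0 ∧
      hermForm n₂ F q x v = 0 ∧ hermForm n₂ F q x v' = 0 ∧
      Module.finrank F (LinearMap.ker (adj hF (cv n₁ v) * U).mulVecLin) <
        Module.finrank F (LinearMap.ker (pairing hF v x r U).mulVecLin) := by
  classical
  set C := adj hF (cv n₁ v) * U with hC
  set P := LinearMap.ker C.mulVecLin with hP
  obtain ⟨Q, hQ⟩ := Submodule.exists_isCompl P
  let j := Module.finrank F Q
  let b := Module.finBasis F Q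
  let β : Matrix (Fin n₁) (Fin j) F := Matrix.of fun i l => (b l : Fin n₁ → F) i
  have hβ : ∀ c : Fin j → F, β *ᵥ c = ((∑ l, c l • b l : Q) : Fin n₁ → F) := fun c => by
    funext i
    simp [β, Matrix.mulVec, dotProduct, Finset.sum_apply, mul_comm]
  have hj : 0 < j := by
    by_contra hcon
    have hQ0 : Q = ⊥ := Submodule.finrank_eq_zero.1 (by omega)
    have hPt : P = ⊤ := by
      have := hQ.sup_eq_top
      rwa [hQ0, sup_bot_eq] at this
    refine hne (Matrix.ext_of_mulVec_single fun i => ?_)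
    have hi : (Pi.single i 1 : Fin n₁ → F) ∈ P := hPt ▸ Submodule.mem_top
    rw [hP, LinearMap.mem_ker, Matrix.mulVecLin_apply] at hi
    rw [hi, Matrix.zero_mulVec]
  have hjn : Module.finrank F P + j = n₁ := by
    have := Submodule.finrank_add_eq_of_isCompl hQ
    rw [Module.finrank_fin_fun] at this
    exact this
  obtain ⟨d, hd, hdv⟩ := exists_completion hF (hv.gramND hF)
  have hd0 : ∀ k, hermForm n₂ F q (d k) v = 0 := fun k => by simpa using hdv k 0
  have hd1 : ∀ k, hermForm n₂ F q (d k) v' = 0 := fun k => by simpa using hdv k 1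
  obtain ⟨l, hl0, hl⟩ := exists_trace_zero_ne_zero hF
  have hlq : l ^ q = -l := by linear_combination hl
  obtain ⟨ζ, r, hr, hnz, hnorm, c, hc0, hc⟩ := exists_singular hF (fun k => adj hF (adj hF (cv n₁ (d k)) * U) * C)
    (l • (adj hF C * C)) (by rw [adj_smul, adj_mul, adj_adj, hlq, neg_smul]) β hj (by
      simp only [Fintype.card_fin]; omega)
  set x := ∑ k, ζ k • d k with hx
  refine ⟨x, r * l, ?_, ?_, ?_, ?_, ?_, ?_⟩
  · rcases hnz with h | h
    · left
      intro e
      refine h (funext fun k => ?_)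
      have h1 := IsON.coeff hF hd ζ k
      rw [← hx, e, h_zero_left] at h1
      exact h1.symm
    · exact Or.inr (mul_ne_zero h hl0)
  · rw [mul_pow, hr, hlq]; ring
  · rw [← hnorm, hx, h_sum_right hF]
    refine Finset.sum_congr rfl fun k _ => ?_
    rw [h_smul_right hF, IsON.coeff hF hd]; ring
  · rw [hx, h_sum_left]; simp [h_smul_left, hd0]
  · rw [hx, h_sum_left]; simp [h_smul_left, hd1]
  · set T := pairing hF v x (r * l) U with hT
    have hTe : T = ∑ k, (ζ k • (adj hF (adj hF (cv n₁ (d k)) * U) * C) -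
        ζ k ^ q • adj hF (adj hF (adj hF (cv n₁ (d k)) * U) * C)) + r • (l • (adj hF C * C)) := by
      have hcvx : cv n₁ x = ∑ k, ζ k • (cv n₁ (d k) : Matrix (Fin n₁ × Fin n₂) (Fin n₁) F) := by
        rw [hx]
        ext p a
        simp only [cv_apply, Matrix.sum_apply, Matrix.smul_apply, Finset.sum_apply, Pi.smul_apply, smul_eq_mul]
        split <;> simp
      rw [hT, pairing, ← hC, hcvx, smul_smul]
      simp only [adj_sum hF, adj_smul, Matrix.sum_mul, Matrix.mul_sum, Matrix.smul_mul, Matrix.mul_smul,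
        pow_q_pow_q hF, adj_mul, adj_adj, Finset.sum_sub_distrib]
    rw [← hTe] at hc
    have hskew : adj hF T = -T := by
      have hrl : (r * l) ^ q = -(r * l) := by rw [mul_pow, hr, hlq]; ring
      simp only [hT, pairing, adj_add, adj_sub, adj_smul, adj_mul, adj_adj, hrl, neg_smul]
      abel
    set a := β *ᵥ c with ha
    have haQ : a ∈ Q := by rw [ha, hβ]; exact Submodule.coe_mem _
    have ha0 : a ≠ 0 := by
      intro e
      rw [ha, hβ, Submodule.coe_eq_zero] at e
      exact hc0 (funext (Fintype.linearIndependent_iff.1 b.linearIndependent c e))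
    have hker : ∀ p ∈ P, T *ᵥ p = 0 := by
      intro p hp
      have h1 : C *ᵥ p = 0 := hp
      have hxv : hermForm n₂ F q x v = 0 := by rw [hx, h_sum_left]; simp [h_smul_left, hd0]
      have h2 := hfix p h1 x hxv
      simp only [hT, pairing, ← hC, Matrix.add_mulVec, Matrix.sub_mulVec, Matrix.smul_mulVec,
        ← Matrix.mulVec_mulVec, h1, Matrix.mulVec_zero, smul_zero, add_zero]
      rw [Matrix.mulVec_mulVec] at *
      simp only [hC, ← Matrix.mulVec_mulVec] at h1 h2 ⊢
      simp [h1, h2]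
    have hTa : T *ᵥ a = 0 := by
      refine h_ext_left hF fun y => ?_
      rw [h_zero_left]
      have hy : y ∈ P ⊔ Q := by rw [hQ.sup_eq_top]; trivial
      obtain ⟨p, hp, w, hw, rfl⟩ := Submodule.mem_sup.1 hy
      rw [h_add_right hF]
      have e1 : hermForm n₁ F q (T *ᵥ a) p = 0 := by
        rw [h_eq_zero_comm hF, h_mulVec_right hF, hskew, Matrix.neg_mulVec, hker p hp, neg_zero, h_zero_left]
      obtain ⟨w', rfl⟩ : ∃ w', β *ᵥ w' = w :=
        ⟨fun i => b.repr ⟨w, hw⟩ i, by rw [hβ, b.sum_repr]⟩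
      rw [e1, zero_add, h_eq_zero_comm hF]
      rw [h_mulVec_rect hF, hc, h_zero_right hF]
    refine Submodule.finrank_lt_finrank_of_lt (lt_of_le_of_ne (fun p hp => hker p hp) fun e => ?_)
    have haP : a ∈ P := e ▸ (LinearMap.mem_ker.2 hTa)
    exact ha0 (Submodule.disjoint_def.1 hQ.disjoint a haP haQ)

end H41.UTen
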