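import Cfsg.Agent.H41.UTen.StepA
import Cfsg.Agent.H41.UTen.Search
import Cfsg.Agent.H41.UTen.First

/-!
Descent on the pairing of an image of an isotropic column with a column: the overgroup is tensor.
-/

set_option autoImplicit false
set_option linter.unusedSectionVars false
set_option linter.unusedSimpArgs false

namespace H41.UTen

open Matrix Cfsg H50
open scoped Kronecker
open H51 (adj adj_mul adj_add adj_smul adj_one adj_zero adj_adj adj_sub adj_neg adj_kronecker adj_apply)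

variable {F : Type*} [Field F] [Fintype F] {n₁ n₂ q : ℕ}
variable {hF : Fintype.card F = q ^ 2} {Mm : Matrix (Fin n₁ × Fin n₂) (Fin n₁ × Fin n₂) F → Prop}

theorem exists_not_eigen {n : ℕ} {A : Matrix (Fin n) (Fin n) F} (hA : ∀ t : F, A ≠ t • 1) :
    ∃ z : Fin n → F, ∀ t : F, A *ᵥ z ≠ t • z := by
  classical
  by_contra hcon
  simp only [not_exists, not_forall, not_not] at hcon
  choose t ht using hcon
  rcases isEmpty_or_nonempty (Fin n) with h | ⟨⟨i₀⟩⟩
  · exact hA 0 (Subsingleton.elim _ _)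
  have he : ∀ i l, A l i = t (Pi.single i 1) * (if l = i then 1 else 0) := fun i l => by
    have := congrFun (ht (Pi.single i 1)) l
    simpa [Pi.single_apply] using this
  refine hA (t (Pi.single i₀ 1)) (Matrix.ext fun l i => ?_)
  rw [he, Matrix.smul_apply, Matrix.one_apply, smul_eq_mul]
  rcases eq_or_ne i i₀ with rfl | hi
  · rfl
  by_cases hli : l = i
  · subst hli
    simp only [if_true, mul_one]
    have h1 := ht (Pi.single l 1 + Pi.single i₀ 1)
    rw [Matrix.mulVec_add, ht, ht] at h1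
    have a := congrFun h1 l
    have b := congrFun h1 i₀
    simp [hi, Ne.symm hi] at a b
    rw [a, b]
  · simp [hli]

/-- Conjugates of root elements which are tensor come from tensor elements. -/
theorem Ov.isT_of_root (O : Ov hF n₁ n₂ Mm) {g : Matrix (Fin n₁ × Fin n₂) (Fin n₁ × Fin n₂) F}
    (hg : Good hF Mm g) {u : Fin n₂ → F} (hu0 : u ≠ 0) (hu : hermForm n₂ F q u u = 0) {l : F} (hl0 : l ≠ 0)
    (h : IsT (g * Tv hF u (l • 1) * adj hF g)) : IsT g := by
  classical
  haveI : Nonempty (Fin n₁) := ⟨⟨0, by have := O.two; omega⟩⟩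
  obtain ⟨A, B, hAB⟩ := h
  set G := g * cv n₁ u with hG
  have hX : g * Tv hF u (l • 1) * adj hF g = 1 + l • (G * adj hF G) := by
    simp only [Tv, hG, Matrix.mul_add, Matrix.add_mul, Matrix.mul_one, mul_adj_of_uni hF hg.1, Matrix.mul_smul,
      Matrix.smul_mul, adj_mul, Matrix.mul_assoc]
  rw [hX] at hAB
  have hGG : adj hF G * G = 0 := by
    rw [hG, adj_mul, Matrix.mul_assoc, ← Matrix.mul_assoc (adj hF g), hg.1, Matrix.one_mul,
      adj_cv_zero_of_perp hF hu]
  have hGinj : Function.Injective (G *ᵥ ·) := fun a b hab => by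
    simp only [hG, ← Matrix.mulVec_mulVec] at hab
    exact cv_mulVec_injective hu0 (uni_mulVec_injective hF hg.1 hab)
  by_cases hA : ∃ t : F, A = t • 1
  · obtain ⟨t, rfl⟩ := hA
    set N := t • B - 1 with hN
    have hNe : (1 : Matrix (Fin n₁) (Fin n₁) F) ⊗ₖ N = l • (G * adj hF G) := by
      have h1 : (1 : Matrix (Fin n₁) (Fin n₁) F) ⊗ₖ N + 1 = (t • (1 : Matrix (Fin n₁) (Fin n₁) F)) ⊗ₖ B := by
        rw [hN, ← Matrix.one_kronecker_one (α := F) (m := Fin n₁) (n := Fin n₂), ← Matrix.kronecker_add,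
          sub_add_cancel, Matrix.smul_kronecker, Matrix.kronecker_smul]
      rw [← hAB, add_comm] at h1
      exact add_left_cancel h1
    obtain ⟨x, hx⟩ : ∃ x, N *ᵥ x ≠ 0 := by
      by_contra hcon
      simp only [not_exists, not_not] at hcon
      have hN0 : N = 0 := Matrix.ext_of_mulVec_single fun i => by rw [hcon, Matrix.zero_mulVec]
      rw [hN0, Matrix.kronecker_zero] at hNe
      have h2 := (smul_eq_zero.1 hNe.symm).resolve_left hl0
      have h3 : G * adj hF G * (g * cv n₁ u) = 0 := by rw [h2, Matrix.zero_mul]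
      obtain ⟨u', hu'⟩ := exists_hyp_partner hF hu0 hu
      have h4 : adj hF G * (g * cv n₁ u') = 1 := by
        rw [hG, adj_mul, Matrix.mul_assoc, ← Matrix.mul_assoc (adj hF g), hg.1, Matrix.one_mul, adj_cv_mul hF,
          (hu'.symm hF).2.2, one_smul]
      have h5 : G = 0 := by
        rw [← Matrix.mul_one G, ← h4, ← Matrix.mul_assoc, h2, Matrix.zero_mul]
      exact one_ne_zero (α := Fin n₁ → F) (hGinj (show G *ᵥ 1 = G *ᵥ 0 by rw [h5, Matrix.zero_mulVec, Matrix.zero_mulVec]))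
    set w := N *ᵥ x with hw
    set K := l • (adj hF G * cv n₁ x) with hK
    have hwK : cv n₁ w = G * K := by
      rw [hw, ← one_kron_cv, hNe, hK, Matrix.smul_mul, Matrix.mul_smul, Matrix.mul_assoc]
    have hKinj : Function.Injective (K *ᵥ ·) := fun a b hab => cv_mulVec_injective (n₁ := n₁) hx (by
      show cv n₁ w *ᵥ a = cv n₁ w *ᵥ b
      simp only [hwK, ← Matrix.mulVec_mulVec]
      rw [show K *ᵥ a = K *ᵥ b from hab])
    have hKu := Matrix.mulVec_injective_iff_isUnit.1 hKinj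
    have hw0 : hermForm n₂ F q w w = 0 := by
      have h1 : adj hF (cv n₁ w) * cv n₁ w = 0 := by
        rw [hwK, adj_mul, Matrix.mul_assoc, ← Matrix.mul_assoc (adj hF G), hGG, Matrix.zero_mul, Matrix.mul_zero]
      rw [adj_cv_mul hF] at h1
      exact (smul_eq_zero.1 h1).resolve_right one_ne_zero
    refine O.isT_of_map hg hu0 hu hx hw0 (L := K⁻¹) ?_
    rw [hwK, Matrix.mul_assoc, Matrix.mul_nonsing_inv _ ((Matrix.isUnit_iff_isUnit_det _).1 hKu), Matrix.mul_one]
  · exfalso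
    simp only [not_exists] at hA
    obtain ⟨z, hz⟩ := exists_not_eigen hA
    let f : (Fin n₂ → F) →ₗ[F] (Fin n₁ → F) :=
      { toFun := fun y => (l • adj hF G) *ᵥ (cv n₁ y *ᵥ z)
        map_add' := fun y y' => by rw [cv_add, Matrix.add_mulVec, Matrix.mulVec_add]
        map_smul' := fun c y => by simp [cv_smul, Matrix.smul_mulVec, Matrix.mulVec_smul, smul_comm c l] }
    have hfinj : Function.Injective f := by
      rw [injective_iff_map_eq_zero]
      intro y hy
      have h1 : cv n₁ (B *ᵥ y) *ᵥ (A *ᵥ z) = cv n₁ y *ᵥ z := by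
        have h2 : (l • adj hF G) *ᵥ (cv n₁ y *ᵥ z) = 0 := hy
        have h3 : (A ⊗ₖ B) *ᵥ (cv n₁ y *ᵥ z) = cv n₁ y *ᵥ z := by
          rw [← hAB, Matrix.add_mulVec, Matrix.one_mulVec, ← Matrix.mul_smul, ← Matrix.mulVec_mulVec _ G, h2,
            Matrix.mulVec_zero, add_zero]
        rwa [Matrix.mulVec_mulVec, kron_cv, ← Matrix.mulVec_mulVec] at h3
      by_contra hy0
      obtain ⟨j, hj⟩ := Function.ne_iff.1 hy0
      simp only [cv_mulVec, funext_iff, Prod.forall] at h1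
      by_cases hBj : (B *ᵥ y) j = 0
      · have hz0 : z = 0 := funext fun i => by
          have := h1 i j
          rw [hBj, mul_zero] at this
          exact (mul_eq_zero.1 this.symm).resolve_right hj
        exact hz 0 (by rw [hz0, Matrix.mulVec_zero, smul_zero])
      · refine hz (y j / (B *ᵥ y) j) (funext fun i => ?_)
        rw [Pi.smul_apply, smul_eq_mul, div_mul_eq_mul_div, eq_div_iff hBj, h1 i j, mul_comm]
    have := LinearMap.finrank_le_finrank_of_injective hfinj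
    rw [Module.finrank_fin_fun, Module.finrank_fin_fun] at this
    have := O.lt
    omega

/-- The pairing matrix. -/
def Cm (hF : Fintype.card F = q ^ 2) (g : Matrix (Fin n₁ × Fin n₂) (Fin n₁ × Fin n₂) F) (u v : Fin n₂ → F) :
    Matrix (Fin n₁) (Fin n₁) F := adj hF (cv n₁ v) * (g * cv n₁ u)

/-- The unipotent element `Qm v (x, r)`. -/
theorem Ov.sigma_mem (O : Ov hF n₁ n₂ Mm) {v x : Fin n₂ → F} {r : F} (hv : hermForm n₂ F q v v = 0)
    (hx : hermForm n₂ F q x x = 0) (hxv : hermForm n₂ F q x v = 0) (hr : r + r ^ q = 0) :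
    Mm (Qm hF v (cv n₁ x) (r • 1)) :=
  O.tens (Qm_cv_uni (n₁ := n₁) hF hv hxv (by rw [hx, add_zero, hr]))
    (Qm_det hF hv (adj_cv_zero_of_perp hF hxv) _) (Qm_cv_isT hF v x r)

theorem Qm_pow {v : Fin n₂ → F} (hv : hermForm n₂ F q v v = 0) {G : Matrix (Fin n₁ × Fin n₂) (Fin n₁) F}
    (hG : adj hF (cv n₁ v) * G = 0) (hGG : adj hF G * G = 0) (S : Matrix (Fin n₁) (Fin n₁) F) :
    ∀ m : ℕ, Qm hF v G S ^ m = Qm hF v ((m : F) • G) ((m : F) • S)
  | 0 => by simp [Qm_zero hF]
  | m + 1 => by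
    rw [pow_succ, Qm_pow hv hG hGG S m, Qm_mul hF hv (by rw [Matrix.mul_smul, hG, smul_zero]) hG, adj_smul,
      Matrix.smul_mul, hGG, smul_zero, sub_zero, Nat.cast_succ, add_smul, add_smul, one_smul, one_smul]

theorem kron_pow (A : Matrix (Fin n₁) (Fin n₁) F) (B : Matrix (Fin n₂) (Fin n₂) F) :
    ∀ m : ℕ, (A ⊗ₖ B) ^ m = (A ^ m) ⊗ₖ (B ^ m)
  | 0 => by simp [Matrix.one_kronecker_one]
  | m + 1 => by rw [pow_succ, kron_pow A B m, ← Matrix.mul_kronecker_mul, pow_succ, pow_succ]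

/-- An overgroup without pure transvections consists of tensor elements. -/
theorem Ov.all_isT (O : Ov hF n₁ n₂ Mm) (h4 : 4 ≤ n₂) {g₀ : Matrix (Fin n₁ × Fin n₂) (Fin n₁ × Fin n₂) F} (hg₀ : Mm g₀) :
    IsT g₀ := by
  classical
  obtain ⟨l, hl0, hl⟩ := exists_trace_zero_ne_zero hF
  have htens : ∀ {w : Fin n₂ → F}, hermForm n₂ F q w w = 0 → Mm (Tv hF w (l • (1 : Matrix (Fin n₁) (Fin n₁) F))) :=
    fun hw => O.tens (Tv_smul_one_uni hw hl) (Tv_det hw _) (Tv_smul_one_isT hF _ l)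
  have hroot : ∀ {g : Matrix (Fin n₁ × Fin n₂) (Fin n₁ × Fin n₂) F} {w : Fin n₂ → F}, Mm g → ¬ IsT g → w ≠ 0 →
      hermForm n₂ F q w w = 0 → Mm (g * Tv hF w (l • 1) * adj hF g) ∧ ¬ IsT (g * Tv hF w (l • 1) * adj hF g) :=
    fun hg hgT hw0 hw => ⟨O.mul (O.mul hg (htens hw)) (O.star hg), fun h => hgT (O.isT_of_root (O.good hg) hw0 hw hl0 h)⟩
  -- the common step
  have hpost : ∀ {g : Matrix (Fin n₁ × Fin n₂) (Fin n₁ × Fin n₂) F} {u v x : Fin n₂ → F} {r : F}, Mm g →
      hermForm n₂ F q u u = 0 → hermForm n₂ F q v v = 0 → hermForm n₂ F q x x = 0 → hermForm n₂ F q x v = 0 →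
      r + r ^ q = 0 →
      Cm hF (adj hF g * Qm hF v (cv n₁ x) (r • 1) * g) u u = pairing hF v x r (g * cv n₁ u) ∧
        Mm (adj hF g * Qm hF v (cv n₁ x) (r • 1) * g) := by
    intro g u v x r hg hu hv hx hxv hr
    refine ⟨?_, O.mul (O.mul (O.star hg) (O.sigma_mem hv hx hxv hr)) hg⟩
    have h0 : adj hF (g * cv n₁ u) * (g * cv n₁ u) = 0 := by
      rw [adj_mul, Matrix.mul_assoc, ← Matrix.mul_assoc (adj hF g), O.uni hg, Matrix.one_mul,
        adj_cv_zero_of_perp hF hu]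
    have e1 : Cm hF (adj hF g * Qm hF v (cv n₁ x) (r • 1) * g) u u =
        adj hF (g * cv n₁ u) * (Qm hF v (cv n₁ x) (r • 1) * (g * cv n₁ u)) := by
      simp only [Cm, adj_mul, Matrix.mul_assoc]
    rw [e1]
    generalize g * cv n₁ u = U at h0 ⊢
    simp only [Qm, pairing, Matrix.add_mul, Matrix.sub_mul, Matrix.mul_add, Matrix.mul_sub, Matrix.one_mul,
      h0, adj_mul, adj_adj, Matrix.smul_mul, Matrix.mul_smul, Matrix.mul_one, Matrix.mul_assoc, zero_add]
  have hsearch : ∀ {g : Matrix (Fin n₁ × Fin n₂) (Fin n₁ × Fin n₂) F} {u v : Fin n₂ → F}, Mm g → ¬ IsT g →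
      u ≠ 0 → hermForm n₂ F q u u = 0 → v ≠ 0 → hermForm n₂ F q v v = 0 → Cm hF g u v ≠ 0 →
      (5 ≤ n₂ ∨ 0 < Module.finrank F (LinearMap.ker (Cm hF g u v).mulVecLin)) →
      (∀ p, Cm hF g u v *ᵥ p = 0 → ∀ x, hermForm n₂ F q x v = 0 → Cm hF g u x *ᵥ p = 0) →
      ∃ (x : Fin n₂ → F) (r : F), hermForm n₂ F q x v = 0 ∧
        Module.finrank F (LinearMap.ker (Cm hF g u v).mulVecLin) <
          Module.finrank F (LinearMap.ker (Cm hF (adj hF g * Qm hF v (cv n₁ x) (r • 1) * g) u u).mulVecLin) ∧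
        Mm (adj hF g * Qm hF v (cv n₁ x) (r • 1) * g) ∧
        hermForm n₂ F q x x = 0 ∧
        (IsT (adj hF g * Qm hF v (cv n₁ x) (r • 1) * g) → x ≠ 0 ∧ ∃ w, hermForm n₂ F q x w = 1 ∧
          hermForm n₂ F q v w = 0) := by
    intro g u v hg hgT hu0 hu hv0 hv hne hsmall hfix
    obtain ⟨v', hyp⟩ := exists_hyp_partner hF hv0 hv
    obtain ⟨x, r, hxr, hr, hx, hxv, hxv', hlt⟩ :=
      exists_pairing hF h4 O.lt hyp (g * cv n₁ u) hsmall hne hfix
    obtain ⟨hpe, hM⟩ := hpost (u := u) hg hu hv hx hxv hr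
    refine ⟨x, r, hxv, by rw [hpe]; exact hlt, hM, hx, fun hT => ?_⟩
    have hx0 : x ≠ 0 := by
      rintro rfl
      have hr0 : r ≠ 0 := hxr.resolve_left (fun h => h rfl)
      rw [cv_zero, ← Tv_eq_Qm hF] at hT
      have h1 := O.isT_of_root (O.good (O.star hg)) hv0 hv hr0 (by rw [adj_adj]; exact hT)
      exact hgT (by simpa [adj_adj] using h1.adj hF)
    obtain ⟨f, hf⟩ := exists_hyp_partner hF hx0 hx
    refine ⟨hx0, f - (hermForm n₂ F q v f) ^ q • v', ?_, ?_⟩
    · rw [h_sub_right hF, h_smul_right hF, hxv', mul_zero, sub_zero, hf.2.2]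
    · rw [h_sub_right hF, h_smul_right hF, hyp.2.2, pow_q_pow_q hF, mul_one, sub_self]
  -- the image of the column is not fixed by the new element
  have hfinal : ∀ {g : Matrix (Fin n₁ × Fin n₂) (Fin n₁ × Fin n₂) F} {u v x : Fin n₂ → F} {r : F}
      {K : Matrix (Fin n₁) (Fin n₁) F}, hermForm n₂ F q v v = 0 →
      (∃ w, hermForm n₂ F q x w = 1 ∧ hermForm n₂ F q v w = 0) →
      (Qm hF v (cv n₁ x) (r • 1) - 1) * (g * cv n₁ u) = cv n₁ v * K → Cm hF g u v = 0 := by
    rintro g u v x r K hv ⟨w, hxw, hvw⟩ h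
    have h1 := congrArg (adj hF (cv n₁ w) * ·) h
    rw [Qm, add_sub_cancel_left] at h1
    simp only [Matrix.add_mul, Matrix.sub_mul, Matrix.mul_add, Matrix.mul_sub, ← Matrix.mul_assoc, adj_cv_mul hF,
      hxw, hvw, one_smul, zero_smul, Matrix.one_mul, Matrix.zero_mul, sub_zero, add_zero] at h1
    rw [Cm, ← Matrix.mul_assoc]
    exact h1
  have hQperp : ∀ {v x : Fin n₂ → F} {r : F}, hermForm n₂ F q v v = 0 → hermForm n₂ F q x v = 0 →
      adj hF (cv n₁ v) * (Qm hF v (cv n₁ x) (r • (1 : Matrix (Fin n₁) (Fin n₁) F)) - 1) = 0 := by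
    intro v x r hv hxv
    simp only [Qm, add_sub_cancel_left, Matrix.mul_add, Matrix.mul_sub, ← Matrix.mul_assoc,
      adj_cv_mul hF, hxv, hv, zero_smul, Matrix.zero_mul, sub_zero, add_zero]
  -- from the kernel to a column
  have main : ∀ d : ℕ, ∀ (g : Matrix (Fin n₁ × Fin n₂) (Fin n₁ × Fin n₂) F) (u v : Fin n₂ → F), Mm g → ¬ IsT g →
      u ≠ 0 → hermForm n₂ F q u u = 0 → v ≠ 0 → hermForm n₂ F q v v = 0 →
      n₁ ≤ Module.finrank F (LinearMap.ker (Cm hF g u v).mulVecLin) + d →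
      1 ≤ Module.finrank F (LinearMap.ker (Cm hF g u v).mulVecLin) → False := by
    intro d
    induction d using Nat.strong_induction_on with
    | _ d ih =>
      intro g u v hg hgT hu0 hu hv0 hv hd hpos
      set P := LinearMap.ker (Cm hF g u v).mulVecLin with hP
      by_cases hC0 : Cm hF g u v = 0
      · -- the column of `v` is fixed by a conjugate root element
        obtain ⟨hτ, hτT⟩ := hroot hg hgT hu0 hu
        have h1 : adj hF (cv n₁ u) * (adj hF g * cv n₁ v) = 0 := by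
          have := congrArg (adj hF) hC0
          rw [Cm, adj_mul, adj_mul, adj_adj, adj_zero, Matrix.mul_assoc] at this
          exact this
        refine hτT (O.isT_of_map (O.good hτ) hv0 hv hv0 hv (L := 1) ?_)
        simp only [Tv, Matrix.mul_add, Matrix.add_mul, Matrix.mul_one, Matrix.mul_assoc, h1, Matrix.mul_zero,
          add_zero]
        rw [← Matrix.mul_assoc, mul_adj_of_uni hF (O.uni hg), Matrix.one_mul]
      -- normalise
      have hgs : ¬ IsT (adj hF g) := fun h => hgT (by simpa [adj_adj] using h.adj hF)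
      obtain ⟨hτ', hτT'⟩ := hroot (O.star hg) hgs hv0 hv
      rw [adj_adj] at hτ' hτT'
      set τ := adj hF g * Tv hF v (l • 1) * g with hτdef
      clear_value τ
      have hτu : τ * cv n₁ u = cv n₁ u + adj hF g * (cv n₁ v * (l • Cm hF g u v)) := by
        simp only [hτdef, Tv, Cm, Matrix.mul_add, Matrix.add_mul, Matrix.mul_one, Matrix.mul_assoc, Matrix.smul_mul,
          Matrix.mul_smul, Matrix.one_mul]
        rw [← Matrix.mul_assoc (adj hF g) g, O.uni hg, Matrix.one_mul]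
      have hfixP : ∀ p ∈ P, (τ * cv n₁ u) *ᵥ p = cv n₁ u *ᵥ p := by
        intro p hp
        have h1 : Cm hF g u v *ᵥ p = 0 := hp
        rw [hτu, Matrix.add_mulVec, ← Matrix.mulVec_mulVec, ← Matrix.mulVec_mulVec, Matrix.smul_mulVec, h1,
          smul_zero, Matrix.mulVec_zero, Matrix.mulVec_zero, add_zero]
      have hle : P ≤ LinearMap.ker (Cm hF τ u u).mulVecLin := by
        intro p hp
        show Cm hF τ u u *ᵥ p = 0
        rw [Cm, ← Matrix.mulVec_mulVec, hfixP p hp, Matrix.mulVec_mulVec, adj_cv_zero_of_perp hF hu,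
          Matrix.zero_mulVec]
      by_cases hgrow : Module.finrank F P < Module.finrank F (LinearMap.ker (Cm hF τ u u).mulVecLin)
      · exact ih (n₁ - Module.finrank F (LinearMap.ker (Cm hF τ u u).mulVecLin)) (by
          have := Submodule.finrank_le (LinearMap.ker (Cm hF τ u u).mulVecLin)
          rw [Module.finrank_fin_fun] at this
          by_contra hcon
          have hle' := Submodule.finrank_le P
          rw [Module.finrank_fin_fun] at hle'
          omega) τ u u hτ' hτT' hu0 hu hu0 hu (by omega) (by omega)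
      have heq : LinearMap.ker (Cm hF τ u u).mulVecLin = P :=
        (Submodule.eq_of_le_of_finrank_le hle (by omega)).symm
      have hne : Cm hF τ u u ≠ 0 := by
        intro e
        apply hC0
        refine Matrix.ext_of_mulVec_single fun i => ?_
        have : (Pi.single i 1 : Fin n₁ → F) ∈ P := by
          rw [← heq, LinearMap.mem_ker, Matrix.mulVecLin_apply, e, Matrix.zero_mulVec]
        rw [Matrix.zero_mulVec]
        exact this
      obtain ⟨x, r, hxu, hlt, hM, hx, hTcase⟩ := hsearch hτ' hτT' hu0 hu hu0 hu hne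
        (Or.inr (by rw [heq]; omega)) (fun p hp x hx => by
        have hpP : p ∈ P := heq ▸ hp
        rw [Cm, ← Matrix.mulVec_mulVec, hfixP p hpP, Matrix.mulVec_mulVec, adj_cv_zero_of_perp hF
          ((h_eq_zero_comm hF).1 hx), Matrix.zero_mulVec])
      rw [heq] at hlt
      set σ := Qm hF u (cv n₁ x) (r • (1 : Matrix (Fin n₁) (Fin n₁) F)) with hσ
      set g' := adj hF τ * σ * τ with hg'
      by_cases hT : IsT g'
      swap
      · exact ih (n₁ - Module.finrank F (LinearMap.ker (Cm hF g' u u).mulVecLin)) (by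
          have := Submodule.finrank_le (LinearMap.ker (Cm hF g' u u).mulVecLin)
          rw [Module.finrank_fin_fun] at this
          omega) g' u u hM hT hu0 hu hu0 hu (by omega) (by omega)
      obtain ⟨hx0, hw⟩ := hTcase hT
      obtain ⟨A, B, hAB⟩ := hT
      obtain ⟨p, hpP, hp0⟩ := Submodule.exists_mem_ne_zero_of_ne_bot (p := P) (by
        intro e
        rw [e, finrank_bot] at hpos
        omega)
      have hσu : σ * cv n₁ u = cv n₁ u := by
        simp only [hσ, Qm, Matrix.add_mul, Matrix.sub_mul, Matrix.one_mul, Matrix.mul_assoc, adj_cv_mul hF,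
          hu, (h_eq_zero_comm hF).1 hxu, zero_smul, Matrix.mul_zero, sub_zero, add_zero]
      have hgp : (g' * cv n₁ u) *ᵥ p = cv n₁ u *ᵥ p := by
        have e1 : g' * cv n₁ u = adj hF τ * (σ * (τ * cv n₁ u)) := by simp only [hg', Matrix.mul_assoc]
        rw [e1, ← Matrix.mulVec_mulVec, ← Matrix.mulVec_mulVec p σ, hfixP p hpP, Matrix.mulVec_mulVec p σ, hσu,
          ← hfixP p hpP, Matrix.mulVec_mulVec, ← Matrix.mul_assoc, O.uni hτ', Matrix.one_mul]
        exact (hfixP p hpP).symm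
      rw [hAB, kron_cv, ← Matrix.mulVec_mulVec, cv_mulVec, cv_mulVec] at hgp
      obtain ⟨i, hi⟩ := Function.ne_iff.1 hp0
      obtain ⟨j, hj⟩ := Function.ne_iff.1 hu0
      have hAp : (A *ᵥ p) i ≠ 0 := fun e => by
        have := congrFun hgp (i, j)
        simp only [e, zero_mul] at this
        exact mul_ne_zero hi hj this.symm
      set μ := p i / (A *ᵥ p) i with hμ
      have hBu : B *ᵥ u = μ • u := funext fun j => by
        have := congrFun hgp (i, j)
        rw [Pi.smul_apply, smul_eq_mul, hμ, div_mul_eq_mul_div, eq_div_iff hAp, ← this, mul_comm]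
      set K := μ • A - 1 with hK
      have hstab : (σ - 1) * (τ * cv n₁ u) = τ * cv n₁ u * K := by
        have h1 : σ * (τ * cv n₁ u) = τ * (g' * cv n₁ u) := by
          rw [hg', ← Matrix.mul_assoc τ, ← Matrix.mul_assoc τ, ← Matrix.mul_assoc τ, mul_adj_of_uni hF (O.uni hτ'),
            Matrix.one_mul, Matrix.mul_assoc]
        rw [Matrix.sub_mul, Matrix.one_mul, h1, hAB, kron_cv, hBu, cv_smul, hK, Matrix.mul_sub, Matrix.mul_one,
          Matrix.smul_mul, Matrix.mul_smul, Matrix.mul_smul, Matrix.mul_assoc]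
      have hCK : Cm hF τ u u * K = 0 := by
        rw [Cm, Matrix.mul_assoc (adj hF (cv n₁ u)), ← hstab, ← Matrix.mul_assoc, hQperp hu hxu, Matrix.zero_mul]
      have hstab' : (σ - 1) * (τ * cv n₁ u) = cv n₁ u * K := by
        rw [hstab]
        refine Matrix.ext_of_mulVec_single fun a => ?_
        have : K *ᵥ Pi.single a 1 ∈ P := by
          rw [← heq, LinearMap.mem_ker, Matrix.mulVecLin_apply, Matrix.mulVec_mulVec, hCK, Matrix.zero_mulVec]
        rw [← Matrix.mulVec_mulVec, hfixP _ this, Matrix.mulVec_mulVec]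
      exact hne (hfinal hu hw hstab')
  -- the first meeting
  by_contra hgT
  obtain ⟨u, hu0, hu⟩ := exists_isotropic hF (n := n₂) (by omega)
  have hmeet : ∀ g v', Mm g → ¬ IsT g → v' ≠ 0 → hermForm n₂ F q v' v' = 0 →
      1 ≤ Module.finrank F (LinearMap.ker (Cm hF g u v').mulVecLin) → False :=
    fun g v' hg hT hv0 hv h => main n₁ g u v' hg hT hu0 hu hv0 hv (Nat.le_add_left _ _) h
  have hall : ∀ w, w ≠ 0 → hermForm n₂ F q w w = 0 → ∀ p, Cm hF g₀ u w *ᵥ p = 0 → p = 0 := by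
    intro w hw0 hw p hp
    by_contra hp0
    refine hmeet g₀ w hg₀ hgT hw0 hw (Nat.one_le_iff_ne_zero.2 fun e => hp0 ?_)
    exact (Submodule.mem_bot F).1 ((Submodule.finrank_eq_zero.1 e) ▸ (LinearMap.mem_ker.2 hp))
  haveI hne1 : Nonempty (Fin n₁) := ⟨⟨0, by have := O.two; omega⟩⟩
  obtain ⟨v, x, r, hv0, hv, hxv, hM, hx, hw, hlt⟩ : ∃ (v x : Fin n₂ → F) (r : F), v ≠ 0 ∧
      hermForm n₂ F q v v = 0 ∧ hermForm n₂ F q x v = 0 ∧
      Mm (adj hF g₀ * Qm hF v (cv n₁ x) (r • 1) * g₀) ∧ hermForm n₂ F q x x = 0 ∧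
      (IsT (adj hF g₀ * Qm hF v (cv n₁ x) (r • 1) * g₀) → ∃ w, hermForm n₂ F q x w = 1 ∧
          hermForm n₂ F q v w = 0) ∧
      0 < Module.finrank F (LinearMap.ker (Cm hF (adj hF g₀ * Qm hF v (cv n₁ x) (r • 1) * g₀) u u).mulVecLin) := by
    by_cases h5 : 5 ≤ n₂
    · have hne : Cm hF g₀ u u ≠ 0 := fun e =>
        one_ne_zero (α := Fin n₁ → F) (hall u hu0 hu 1 (by rw [e, Matrix.zero_mulVec]))
      obtain ⟨x, r, hxu, hlt, hM, hx, hTcase⟩ := hsearch hg₀ hgT hu0 hu hu0 hu hne (Or.inl h5) (fun p hp x _ => by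
        rw [hall u hu0 hu p hp, Matrix.mulVec_zero])
      exact ⟨u, x, r, hu0, hu, hxu, hM, hx, fun hT => (hTcase hT).2, by omega⟩
    · have hlt' := O.lt
      obtain ⟨v, x, r, hv0, hv, hx, hxv, hr, hli, hpos⟩ := exists_first hF (by omega) (by omega)
        (by have := O.two; omega) (g₀ * cv n₁ u) hall
      obtain ⟨hpe, hM⟩ := hpost (u := u) hg₀ hu hv hx hxv hr
      refine ⟨v, x, r, hv0, hv, hxv, hM, hx, fun _ => ?_, by rw [hpe]; exact hpos⟩
      obtain ⟨w, hw⟩ := coords_surjective hF hli ![1, 0]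
      have e0 : hermForm n₂ F q w x = 1 := by simpa [coords_apply] using congrFun hw 0
      have e1 : hermForm n₂ F q w v = 0 := by simpa [coords_apply] using congrFun hw 1
      exact ⟨w, by rw [h_symm hF w x, e0, one_pow], (h_eq_zero_comm hF).1 e1⟩
  have hinj := hall v hv0 hv
  have hne : Cm hF g₀ u v ≠ 0 := fun e => one_ne_zero (α := Fin n₁ → F) (hinj 1 (by rw [e, Matrix.zero_mulVec]))
  set σ := Qm hF v (cv n₁ x) (r • (1 : Matrix (Fin n₁) (Fin n₁) F)) with hσ
  set g' := adj hF g₀ * σ * g₀ with hg'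
  by_cases hT : IsT g'
  swap
  · exact hmeet g' u hM hT hu0 hu hlt
  replace hw := hw hT
  obtain ⟨A, B, hAB⟩ := hT
  have hσg : σ * (g₀ * cv n₁ u) = g₀ * (g' * cv n₁ u) := by
    rw [hg', ← Matrix.mul_assoc g₀, ← Matrix.mul_assoc g₀, ← Matrix.mul_assoc g₀, mul_adj_of_uni hF (O.uni hg₀),
      Matrix.one_mul, Matrix.mul_assoc]
  by_cases hpar : ∃ μ : F, B *ᵥ u = μ • u
  · obtain ⟨μ, hBu⟩ := hpar
    set K := μ • A - 1 with hK
    have hstab : (σ - 1) * (g₀ * cv n₁ u) = g₀ * cv n₁ u * K := by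
      rw [Matrix.sub_mul, Matrix.one_mul, hσg, hAB, kron_cv, hBu, cv_smul, hK, Matrix.mul_sub, Matrix.mul_one,
        Matrix.smul_mul, Matrix.mul_smul, Matrix.mul_smul, Matrix.mul_assoc]
    have hCK : Cm hF g₀ u v * K = 0 := by
      rw [Cm, Matrix.mul_assoc (adj hF (cv n₁ v)), ← hstab, ← Matrix.mul_assoc, hQperp hv hxv, Matrix.zero_mul]
    have hK0 : K = 0 := Matrix.ext_of_mulVec_single fun a => by
      rw [Matrix.zero_mulVec]
      exact hinj _ (by rw [Matrix.mulVec_mulVec, hCK, Matrix.zero_mulVec])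
    exact hne (hfinal (K := 0) hv hw (by rw [hstab, hK0, Matrix.mul_zero, Matrix.mul_zero]))
  set u' := B *ᵥ u with hu'
  have hAinj : Function.Injective (A *ᵥ ·) := fun a b hab => by
    refine cv_mulVec_injective (n₁ := n₁) hu0 (uni_mulVec_injective hF (O.uni hM) ?_)
    show g' *ᵥ (cv n₁ u *ᵥ a) = g' *ᵥ (cv n₁ u *ᵥ b)
    rw [Matrix.mulVec_mulVec, Matrix.mulVec_mulVec, hAB, kron_cv, ← Matrix.mulVec_mulVec, ← Matrix.mulVec_mulVec]
    exact congrArg _ hab
  have huu' : hermForm n₂ F q u' u = 0 := by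
    by_contra hh
    have hC' : Cm hF g' u u = hermForm n₂ F q u' u • A := by
      rw [Cm, hAB, adj_cv_kron_cv hF]
    have hk0 : LinearMap.ker (Cm hF g' u u).mulVecLin = ⊥ := LinearMap.ker_eq_bot'.2 fun p hp => by
      rw [Matrix.mulVecLin_apply, hC', Matrix.smul_mulVec, smul_eq_zero] at hp
      exact hAinj (show A *ᵥ p = A *ᵥ 0 by rw [hp.resolve_left hh, Matrix.mulVec_zero])
    rw [hk0, finrank_bot] at hlt
    omega
  have hAu : IsUnit A := Matrix.mulVec_injective_iff_isUnit.1 hAinj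
  have hu'u' : hermForm n₂ F q u' u' = 0 := by
    have h1 : adj hF (g' * cv n₁ u) * (g' * cv n₁ u) = 0 := by
      rw [adj_mul, Matrix.mul_assoc, ← Matrix.mul_assoc (adj hF g'), O.uni hM, Matrix.one_mul,
        adj_cv_zero_of_perp hF hu]
    rw [hAB, kron_cv, ← hu', adj_mul, Matrix.mul_assoc, ← Matrix.mul_assoc (adj hF (cv n₁ u')), adj_cv_mul hF,
      Matrix.smul_mul, Matrix.one_mul, Matrix.mul_smul, smul_eq_zero] at h1
    refine h1.resolve_right fun e => ?_
    exact not_isUnit_zero (e ▸ (H51.isUnit_adj hF hAu).mul hAu)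
  -- an eigenvector
  obtain ⟨p, f, hp, -, hc, -⟩ := exists_prime_pow hF
  haveI : Fact p.Prime := ⟨hp⟩
  haveI := hc
  have hσp : σ ^ p = 1 := by
    rw [hσ, Qm_pow hv (adj_cv_zero_of_perp hF hxv) (adj_cv_zero_of_perp hF hx), CharP.cast_eq_zero, zero_smul,
      zero_smul, Qm_zero hF]
  have hg'p : g' ^ p = 1 := by
    have e : ∀ m : ℕ, g' ^ m = adj hF g₀ * σ ^ m * g₀ := by
      intro m
      induction m with
      | zero => rw [pow_zero, pow_zero, Matrix.mul_one, O.uni hg₀]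
      | succ m ih =>
        rw [pow_succ, ih, pow_succ, hg']
        simp only [Matrix.mul_assoc]
        rw [← Matrix.mul_assoc g₀ (adj hF g₀), mul_adj_of_uni hF (O.uni hg₀), Matrix.one_mul]
    rw [e, hσp, Matrix.mul_one, O.uni hg₀]
  rw [hAB, kron_pow] at hg'p
  obtain ⟨i₁⟩ := id hne1
  let j₁ : Fin n₂ := ⟨0, by omega⟩
  have e11 := congrFun (congrFun hg'p (i₁, j₁)) (i₁, j₁)
  rw [Matrix.one_apply_eq, Matrix.kroneckerMap_apply] at e11
  set c₀ := ((B ^ p) j₁ j₁)⁻¹ with hc₀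
  have hB0 : (B ^ p) j₁ j₁ ≠ 0 := right_ne_zero_of_mul_eq_one e11
  have hAp : A ^ p = c₀ • 1 := by
    ext a b
    have e := congrFun (congrFun hg'p (a, j₁)) (b, j₁)
    rw [Matrix.kroneckerMap_apply] at e
    rw [Matrix.smul_apply, smul_eq_mul, hc₀, eq_inv_mul_iff_mul_eq₀ hB0, mul_comm, e]
    by_cases hab : a = b
    · subst hab; rw [Matrix.one_apply_eq, Matrix.one_apply_eq]
    · rw [Matrix.one_apply_ne hab, Matrix.one_apply_ne (by simp [hab])]
  obtain ⟨δ, hδ⟩ := (PerfectRing.bijective_frobenius (R := F) (p := p)).2 c₀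
  simp only [frobenius_def] at hδ
  have hnil : (A - δ • 1).det = 0 := by
    have h1 : (A - δ • 1) ^ p = 0 := by
      rw [sub_pow_char_of_commute p ((Commute.one_right A).smul_right δ), smul_pow, one_pow, hδ, hAp, sub_self]
    have h2 := congrArg Matrix.det h1
    rw [Matrix.det_pow, Matrix.det_zero] at h2
    exact eq_zero_of_pow_eq_zero h2
  obtain ⟨a, ha0, ha⟩ := Matrix.exists_mulVec_eq_zero_iff.2 hnil
  rw [Matrix.sub_mulVec, sub_eq_zero, Matrix.smul_mulVec, Matrix.one_mulVec] at ha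
  have hCa : Cm hF g₀ u v *ᵥ a = δ • (Cm hF g₀ u' v *ᵥ a) := by
    have h0 : adj hF (cv n₁ v) * σ = adj hF (cv n₁ v) := by
      have h := hQperp (x := x) (r := r) hv hxv
      rwa [Matrix.mul_sub, Matrix.mul_one, sub_eq_zero] at h
    have h1 : adj hF (cv n₁ v) * (σ * (g₀ * cv n₁ u)) = Cm hF g₀ u v := by
      rw [← Matrix.mul_assoc, h0, Cm]
    rw [← h1, hσg, hAB, kron_cv, ← hu', ← Matrix.mul_assoc g₀, ← Matrix.mul_assoc, ← Matrix.mulVec_mulVec, ha,
      Matrix.mulVec_smul, Cm]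
  set u'' := u - δ • u' with hu''
  have hu''0 : u'' ≠ 0 := fun e => by
    rw [hu'', sub_eq_zero] at e
    have hδ0 : δ ≠ 0 := fun e0 => hu0 (by rw [e, e0, zero_smul])
    exact hpar ⟨δ⁻¹, by rw [e, smul_smul, inv_mul_cancel₀ hδ0, one_smul]⟩
  have hu''iso : hermForm n₂ F q u'' u'' = 0 := by
    simp [hu'', h_sub_left, h_sub_right hF, h_smul_left, h_smul_right hF, hu, hu'u', huu',
      (h_eq_zero_comm hF).1 huu']
  have hker : 1 ≤ Module.finrank F (LinearMap.ker (Cm hF g₀ u'' v).mulVecLin) := by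
    rw [Nat.one_le_iff_ne_zero, ne_eq, Submodule.finrank_eq_zero]
    intro e
    apply ha0
    refine (Submodule.mem_bot F).1 (e ▸ (LinearMap.mem_ker.2 ?_))
    rw [Matrix.mulVecLin_apply]
    have : Cm hF g₀ u'' v = Cm hF g₀ u v - δ • Cm hF g₀ u' v := by
      simp only [Cm, hu'', cv_sub, cv_smul, Matrix.mul_sub, Matrix.mul_smul]
    rw [this, Matrix.sub_mulVec, Matrix.smul_mulVec, hCa, sub_self]
  exact main n₁ g₀ u'' v hg₀ hgT hu''0 hu''iso hv0 hv (Nat.le_add_left _ _) hker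

end H41.UTen
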