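import Cfsg.Agent.H41.UTen.ThreeAll
import Cfsg.Agent.H41.UTen.Centres
import Cfsg.Agent.H41.UDec.Centres

/-! The stabiliser of a unitary tensor decomposition is maximal in the special unitary group. -/

set_option autoImplicit false
set_option linter.unusedSectionVars false
set_option linter.unusedSimpArgs false

namespace H41.UTen

open Matrix Cfsg Cfsg.Geo H50
open scoped Kronecker
open H51 (adj adj_mul adj_add adj_smul adj_one adj_zero adj_adj adj_sub adj_neg adj_kronecker adj_apply)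

variable {F : Type*} [Field F] [Fintype F] {n n₁ n₂ q : ℕ}

/-- Transport of the tensor group onto the Kronecker products. -/
theorem exists_preimage (hF : Fintype.card F = q ^ 2) (h1 : 0 < n₁) (h2 : 0 < n₂) (e : Fin n ≃ Fin n₁ × Fin n₂)
    (P : GL (Fin n) F) {Q : Matrix (Fin n) (Fin n₁ × Fin n₂) F} (hQ : adj hF Q * Q = 1) (hQ' : Q * adj hF Q = 1)
    (htens : ∀ g ∈ tensorProductSubgroup n₁ n₂ e P, ∃ a b,
      adj hF Q * (g : Matrix (Fin n) (Fin n) F) * Q = a ⊗ₖ b)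
    {A : Matrix (Fin n₁) (Fin n₁) F} {B : Matrix (Fin n₂) (Fin n₂) F} (hAB : (A ⊗ₖ B).det ≠ 0) :
    ∃ g ∈ tensorProductSubgroup n₁ n₂ e P, adj hF Q * (g : Matrix (Fin n) (Fin n) F) * Q = A ⊗ₖ B := by
  classical
  have hmul : ∀ x y : Matrix (Fin n) (Fin n) F,
      adj hF Q * (x * y) * Q = (adj hF Q * x * Q) * (adj hF Q * y * Q) := fun x y => by
    simp only [Matrix.mul_assoc]
    rw [← Matrix.mul_assoc Q (adj hF Q), hQ', Matrix.one_mul]
  have hone : adj hF Q * (1 : Matrix (Fin n) (Fin n) F) * Q = 1 := by rw [Matrix.mul_one, hQ]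
  let φ : GL (Fin n) F →* GL (Fin n₁ × Fin n₂) F :=
    { toFun := fun g => ⟨adj hF Q * (g : Matrix (Fin n) (Fin n) F) * Q,
        adj hF Q * ((g⁻¹ : GL (Fin n) F) : Matrix (Fin n) (Fin n) F) * Q,
        by rw [← hmul, ← Units.val_mul, mul_inv_cancel, Units.val_one, hone],
        by rw [← hmul, ← Units.val_mul, inv_mul_cancel, Units.val_one, hone]⟩
      map_one' := Units.ext hone
      map_mul' := fun g g' => Units.ext (hmul _ _) }
  have hφ : Function.Injective φ := fun g g' h => by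
    have h' : adj hF Q * (g : Matrix (Fin n) (Fin n) F) * Q = adj hF Q * (g' : Matrix (Fin n) (Fin n) F) * Q :=
      congrArg Units.val h
    have h'' := congrArg (fun X => Q * X * adj hF Q) h'
    simp only [← Matrix.mul_assoc, hQ', Matrix.one_mul] at h''
    simp only [Matrix.mul_assoc, hQ', Matrix.mul_one] at h''
    exact Units.ext h''
  haveI : Nonempty (Fin n₁) := ⟨⟨0, h1⟩⟩
  haveI : Nonempty (Fin n₂) := ⟨⟨0, h2⟩⟩
  have hmem : ∀ (X : GL (Fin n₁ × Fin n₂) F) (a : Matrix (Fin n₁) (Fin n₁) F) (b : Matrix (Fin n₂) (Fin n₂) F),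
      (X : Matrix (Fin n₁ × Fin n₂) (Fin n₁ × Fin n₂) F) = a ⊗ₖ b → X ∈ kroneckerSubgroup n₁ n₂ F := by
    intro X a b hX
    have hd : (a ⊗ₖ b).det ≠ 0 := by
      rw [← hX]; exact ((Matrix.isUnit_iff_isUnit_det _).1 X.isUnit).ne_zero
    rw [Matrix.det_kronecker, mul_ne_zero_iff, pow_ne_zero_iff Fintype.card_ne_zero,
      pow_ne_zero_iff Fintype.card_ne_zero] at hd
    exact ⟨Matrix.GeneralLinearGroup.mkOfDetNeZero a hd.1, Matrix.GeneralLinearGroup.mkOfDetNeZero b hd.2, hX⟩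
  have hle : (tensorProductSubgroup n₁ n₂ e P).map φ ≤ kroneckerSubgroup n₁ n₂ F := by
    rintro _ ⟨g, hg, rfl⟩
    obtain ⟨a, b, hab⟩ := htens g hg
    exact hmem _ a b hab
  have heq : (tensorProductSubgroup n₁ n₂ e P).map φ = kroneckerSubgroup n₁ n₂ F := by
    refine Subgroup.eq_of_le_of_card_ge hle (le_of_eq ?_)
    rw [Subgroup.card_map_of_injective hφ, tensorProductSubgroup,
      Subgroup.card_map_of_injective (MulEquiv.injective _),
      Subgroup.card_map_of_injective (MulEquiv.injective _)]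
  have hX : Matrix.GeneralLinearGroup.mkOfDetNeZero (A ⊗ₖ B) hAB ∈ (tensorProductSubgroup n₁ n₂ e P).map φ := by
    rw [heq]; exact hmem _ A B rfl
  obtain ⟨g, hg, hgX⟩ := hX
  exact ⟨g, hg, congrArg Units.val hgX⟩

/-- The stabiliser of a tensor decomposition is maximal. -/
theorem isMaximalIn_tensor (hF : Fintype.card F = q ^ 2) (h1 : 2 ≤ n₁) (h12 : n₁ < n₂) (h3 : 3 ≤ n₂)
    (hex : ¬ (n₁ = 2 ∧ q = 2)) (e : Fin n ≃ Fin n₁ × Fin n₂) (P : GL (Fin n) F)
    {f₁ : (Fin n₁ → F) → (Fin n₁ → F) → F} {f₂ : (Fin n₂ → F) → (Fin n₂ → F) → F}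
    (hf₁ : ∀ v w, f₁ v w = f₁ w v ^ q) (hf₂ : ∀ v w, f₂ v w = f₂ w v ^ q)
    (hT : IsTensorFormStructure (fun x : F => x ^ q) (hermForm n F q) f₁ f₂ e P) :
    IsMaximalIn (UDec.SUGL n F q) (tensorProductSubgroup n₁ n₂ e P ⊓ UDec.SUGL n F q) := by
  classical
  obtain ⟨Q, hQ, hQ', htens⟩ := H51.exists_tensor_onb hF e P hf₁ hf₂ hT
  set T := tensorProductSubgroup n₁ n₂ e P with hTdef
  set S := UDec.SUGL n F q with hSdef
  set φ : GL (Fin n) F → Matrix (Fin n₁ × Fin n₂) (Fin n₁ × Fin n₂) F :=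
    fun g => adj hF Q * (g : Matrix (Fin n) (Fin n) F) * Q with hφ
  have hmul : ∀ g g', φ (g * g') = φ g * φ g' := fun g g' => by
    simp only [hφ, Units.val_mul, Matrix.mul_assoc]
    rw [← Matrix.mul_assoc Q (adj hF Q), hQ', Matrix.one_mul]
  have hback : ∀ g : GL (Fin n) F, Q * φ g * adj hF Q = (g : Matrix (Fin n) (Fin n) F) := fun g => by
    simp only [hφ, ← Matrix.mul_assoc, hQ', Matrix.one_mul]
    rw [Matrix.mul_assoc, hQ', Matrix.mul_one]
  have hinj : Function.Injective φ := fun g g' h => Units.ext (by rw [← hback g, h, hback g'])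
  have hdetφ : ∀ X : Matrix (Fin n₁ × Fin n₂) (Fin n₁ × Fin n₂) F, (Q * X * adj hF Q).det = X.det := by
    intro X
    have e1 : (Q * X * adj hF Q) = (Q.submatrix id e) * (X.submatrix e e) * (adj hF Q).submatrix e id := by
      rw [Matrix.submatrix_mul_equiv, Matrix.submatrix_mul_equiv, Matrix.submatrix_id_id]
    rw [e1, Matrix.det_mul, Matrix.det_mul, mul_right_comm, ← Matrix.det_mul, Matrix.submatrix_mul_equiv, hQ',
      Matrix.submatrix_id_id, Matrix.det_one, one_mul, Matrix.det_submatrix_equiv_self]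
  have huniQ : ∀ g : GL (Fin n) F, g ∈ S → adj hF (φ g) * φ g = 1 := fun g hg => by
    simp only [hφ, adj_mul, adj_adj, Matrix.mul_assoc]
    rw [← Matrix.mul_assoc Q (adj hF Q), hQ', Matrix.one_mul,
      ← Matrix.mul_assoc (adj hF (g : Matrix (Fin n) (Fin n) F)), (H51.mem_GU_iff hF g).1 hg.1, Matrix.one_mul, hQ]
  have hdetg : ∀ g : GL (Fin n) F, g ∈ S → (φ g).det = 1 := fun g hg => by
    rw [← hdetφ, hback]; exact (UDec.mem_SUGL.mp hg).2
  have lift : ∀ X : Matrix (Fin n₁ × Fin n₂) (Fin n₁ × Fin n₂) F, adj hF X * X = 1 → X.det = 1 →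
      ∃ g ∈ S, φ g = X := by
    intro X hX hd
    have h : adj hF (Q * X * adj hF Q) * (Q * X * adj hF Q) = 1 := by
      calc _ = Q * (adj hF X * ((adj hF Q * Q) * (X * adj hF Q))) := by
            simp only [adj_mul, adj_adj, Matrix.mul_assoc]
        _ = 1 := by rw [hQ, Matrix.one_mul, ← Matrix.mul_assoc (adj hF X), hX, Matrix.one_mul, hQ']
    refine ⟨H51.mkGL hF _ h, UDec.mem_SUGL.mpr ⟨H51.mkGL_mem hF _ h, ?_⟩, ?_⟩
    · show (Q * X * adj hF Q).det = 1
      rw [hdetφ, hd]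
    · show adj hF Q * (Q * X * adj hF Q) * Q = X
      calc _ = (adj hF Q * Q) * X * (adj hF Q * Q) := by simp only [Matrix.mul_assoc]
        _ = X := by rw [hQ, Matrix.one_mul, Matrix.mul_one]
  have hTin : ∀ g : GL (Fin n) F, IsT (φ g) → g ∈ T := by
    intro g ⟨A, B, hAB⟩
    have hne : (A ⊗ₖ B).det ≠ 0 := by
      rw [← hAB, ← hdetφ, hback]; exact ((Matrix.isUnit_iff_isUnit_det _).1 g.isUnit).ne_zero
    obtain ⟨g', hg', hgg⟩ := exists_preimage hF (by omega) (by omega) e P hQ hQ' htens hne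
    have : g' = g := hinj (by rw [hAB]; exact hgg)
    exact this ▸ hg'
  refine ⟨lt_of_le_of_ne inf_le_right fun heq => ?_, fun M hM hMS => ?_⟩
  · -- a transvection along a pure tensor is not tensor
    obtain ⟨a, a', haa⟩ := exists_hyp hF (n := n₁) h1
    obtain ⟨v, v', hvv⟩ := exists_hyp hF (n := n₂) (by omega)
    obtain ⟨c, hc, hc0⟩ := UDec.exists_skew hF
    set X := Tv hF v (c • outer q a) with hX
    have hXu : adj hF X * X = 1 := by
      rw [hX, adj_Tv, Tv_mul hvv.1, adj_smul, adj_outer hF, ← add_smul, add_comm (c ^ q), hc, zero_smul, Tv_zero]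
    obtain ⟨g, hg, hgX⟩ := lift X hXu (Tv_det hvv.1 _)
    have hgT : g ∈ T := (heq.ge hg).1
    obtain ⟨A, B, hAB⟩ := htens g hgT
    rw [show adj hF Q * (g : Matrix (Fin n) (Fin n) F) * Q = φ g from rfl, hgX] at hAB
    have hval : ∀ α β, hermForm n₁ F q (A *ᵥ a') α * hermForm n₂ F q (B *ᵥ v') β =
        hermForm n₁ F q a' α * hermForm n₂ F q v' β + c * (hermForm n₁ F q a α * hermForm n₂ F q v β) := by
      intro α β
      have hAv : X *ᵥ pr a' v' = pr (A *ᵥ a') (B *ᵥ v') := by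
        rw [hAB, pr_eq_cv, Matrix.mulVec_mulVec, kron_cv, ← Matrix.mulVec_mulVec, ← pr_eq_cv]
      have hXe : X *ᵥ pr a' v' = pr a' v' + c • pr a v := by
        have e1 : cv n₁ v * (c • outer q a) * adj hF (cv n₁ v) = c • oP q (pr a v) := by
          rw [pr_eq_cv, ← conj_oP hF, Matrix.mul_smul, Matrix.smul_mul]; rfl
        rw [hX, Tv, e1, Matrix.add_mulVec, Matrix.one_mulVec, Matrix.smul_mulVec, oP_mulVec, hp_pr hF,
          (haa.symm hF).2.2, (hvv.symm hF).2.2, mul_one, one_smul]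
      rw [← hp_pr hF, ← hAv, hXe, hp_add_left, hp_smul_left, hp_pr hF, hp_pr hF]
    have x1 := hval a v
    have x2 := hval a' v'
    have x3 := hval a v'
    have x4 := hval a' v
    simp only [haa.1, haa.2.1, haa.2.2, hvv.1, hvv.2.1, hvv.2.2, (haa.symm hF).2.2, (hvv.symm hF).2.2,
      mul_zero, zero_mul, mul_one, add_zero, zero_add] at x1 x2 x3 x4
    apply hc0
    rw [← x2]
    rcases mul_eq_zero.1 x3 with h | h
    · rw [h, zero_mul] at x1; exact absurd x1 zero_ne_one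
    · rw [h, mul_zero]
  by_cases hall : ∀ g ∈ M, IsT (φ g)
  · exact Or.inl (le_antisymm (fun g hg => ⟨hTin g (hall g hg), hMS hg⟩) hM)
  right
  simp only [not_forall] at hall
  obtain ⟨g₀, hg₀, hg₀T⟩ := hall
  set Mm : Matrix (Fin n₁ × Fin n₂) (Fin n₁ × Fin n₂) F → Prop := fun X => ∃ g ∈ M, φ g = X with hMm
  have huni : ∀ {X}, Mm X → adj hF X * X = 1 := by
    rintro _ ⟨g, hg, rfl⟩; exact huniQ g (hMS hg)
  have hmulM : ∀ {X Y}, Mm X → Mm Y → Mm (X * Y) := by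
    rintro _ _ ⟨g, hg, rfl⟩ ⟨g', hg', rfl⟩; exact ⟨g * g', M.mul_mem hg hg', hmul g g'⟩
  have hstar : ∀ {X}, Mm X → Mm (adj hF X) := by
    rintro _ ⟨g, hg, rfl⟩
    refine ⟨g⁻¹, M.inv_mem hg, ?_⟩
    simp only [hφ, H51.coe_inv_GU hF (hMS hg).1, adj_mul, adj_adj, Matrix.mul_assoc]
  have htensM : ∀ {X}, adj hF X * X = 1 → X.det = 1 → IsT X → Mm X := by
    intro X hX hd hXT
    obtain ⟨g, hg, hgX⟩ := lift X hX hd
    exact ⟨g, hM ⟨hTin g (hgX ▸ hXT), hg⟩, hgX⟩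
  by_cases hno : ∀ (v : Fin n₂ → F), v ≠ 0 → hermForm n₂ F q v v = 0 → ∀ (a : Fin n₁ → F) (l : F),
      a ≠ 0 → hermForm n₁ F q a a = 0 → l ≠ 0 → l + l ^ q = 0 → ¬ Mm (Tv hF v (l • outer q a))
  · have Ov' : Ov hF n₁ n₂ Mm := ⟨h1, h12, h3, hex, huni,
      fun hX => by obtain ⟨g, hg, rfl⟩ := hX; exact hdetg g (hMS hg), hmulM, hstar, htensM, hno⟩
    rcases Nat.lt_or_ge n₂ 4 with h4 | h4
    · obtain rfl : n₂ = 3 := by omega
      obtain rfl : n₁ = 2 := by omega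
      exact absurd (Ov'.all_isT_three ⟨g₀, hg₀, rfl⟩) hg₀T
    · exact absurd (Ov'.all_isT h4 ⟨g₀, hg₀, rfl⟩) hg₀T
  simp only [not_forall, not_not] at hno
  obtain ⟨v, hv0, hv, a, l, ha0, ha, hl0, hl, hmem⟩ := hno
  have O : Grp hF n₁ n₂ Mm := ⟨h1, h3, huni, hmulM, hstar, htensM⟩
  refine UDec.eq_of_ctr hF ?_ hMS fun w hw => ⟨hw, fun c hc => ?_⟩
  · have := Fintype.card_congr e
    simp only [Fintype.card_fin, Fintype.card_prod] at this
    nlinarith
  have hQa : adj hF (adj hF Q) * adj hF Q = 1 := by rw [adj_adj, hQ']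
  have hx : hp q (adj hF Q *ᵥ w) (adj hF Q *ᵥ w) = 0 := by rw [hp_mulVec hF hQa]; exact hw
  obtain ⟨g, hg, hgX⟩ := (O.ctr_all hv0 hv ha0 ha hl0 hl hmem _ hx).2 c hc
  have : g = H45.utv w hw c := by
    refine Units.ext ?_
    show (g : Matrix (Fin n) (Fin n) F) = 1 + c • oP q w
    rw [← hback g, hgX, Matrix.mul_add, Matrix.mul_one, Matrix.add_mul, hQ', Matrix.mul_smul, Matrix.smul_mul,
      conj_oP hF, Matrix.mulVec_mulVec, hQ', Matrix.one_mulVec]
  exact this ▸ hg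

end H41.UTen
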