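import Cfsg.Agent.H41.UTen.Over

/-!
An element mapping an isotropic column onto a column is a tensor element.
-/

set_option autoImplicit false
set_option linter.unusedSectionVars false
set_option linter.unusedSimpArgs false

namespace H41.UTen

open Matrix Cfsg H50
open scoped Kronecker
open H51 (adj adj_mul adj_add adj_smul adj_one adj_zero adj_adj adj_sub adj_neg adj_kronecker adj_apply)

variable {F : Type*} [Field F] [Fintype F] {n₁ n₂ q : ℕ}
variable {hF : Fintype.card F = q ^ 2} {Mm : Matrix (Fin n₁ × Fin n₂) (Fin n₁ × Fin n₂) F → Prop}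

theorem scalar_of_skew_part (hF : Fintype.card F = q ^ 2) {n : ℕ} (M : Matrix (Fin n) (Fin n) F)
    (h : ∀ θ : F, ∃ s : F, θ ^ q • M - θ • adj hF M = s • 1) : ∃ t : F, M = t • 1 := by
  classical
  obtain ⟨θ, hθ⟩ : ∃ θ : F, θ ^ q ≠ θ := by
    by_contra hcon
    simp only [not_exists, not_not] at hcon
    have h1 := card_fixed_le hF
    rw [Nat.card_congr (Equiv.subtypeUnivEquiv hcon), Nat.card_eq_fintype_card, hF] at h1
    have := two_le hF
    nlinarith
  obtain ⟨s₁, hs₁⟩ := h 1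
  obtain ⟨s₂, hs₂⟩ := h θ
  have e1 : ∀ i l, M i l - M l i ^ q = s₁ * (1 : Matrix (Fin n) (Fin n) F) i l := fun i l => by
    simpa using congrFun (congrFun hs₁ i) l
  have e2 : ∀ i l, θ ^ q * M i l - θ * M l i ^ q = s₂ * (1 : Matrix (Fin n) (Fin n) F) i l := fun i l => by
    simpa using congrFun (congrFun hs₂ i) l
  have hoff : ∀ i l, i ≠ l → M i l = 0 := fun i l hil => by
    have a := e1 i l
    have b := e2 i l
    rw [Matrix.one_apply_ne hil, mul_zero] at a b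
    exact mul_left_cancel₀ (sub_ne_zero.2 hθ) (by linear_combination b - θ * a)
  rcases isEmpty_or_nonempty (Fin n) with hn | ⟨⟨i₀⟩⟩
  · exact ⟨0, Subsingleton.elim _ _⟩
  refine ⟨M i₀ i₀, ?_⟩
  ext i l
  rcases eq_or_ne i l with rfl | hil
  · have a := e1 i i
    have b := e2 i i
    have a' := e1 i₀ i₀
    have b' := e2 i₀ i₀
    rw [Matrix.one_apply_eq, mul_one] at a b a' b'
    simp only [Matrix.smul_apply, Matrix.one_apply_eq, smul_eq_mul, mul_one]
    exact mul_left_cancel₀ (sub_ne_zero.2 hθ) (by linear_combination b - b' - θ * (a - a'))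
  · simp [hil, hoff i l hil]

/-- A column family orthogonal up to scalars to every `z ⊥ v` is a column modulo the column of `v`. -/
theorem eq_cv_add (hF : Fintype.card F = q ^ 2) {v v' : Fin n₂ → F} (hv : IsHyp q v v') (i₀ : Fin n₁)
    {G : Matrix (Fin n₁ × Fin n₂) (Fin n₁) F}
    (h : ∀ z', hermForm n₂ F q z' v = 0 → ∃ φ : F, adj hF (cv n₁ z') * G = φ • 1) :
    ∃ R : Matrix (Fin n₁) (Fin n₁) F, G = cv n₁ (fun j => G (i₀, j) i₀) + cv n₁ v * R := by
  classical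
  set w : Fin n₂ → F := fun j => G (i₀, j) i₀ with hw
  set D := G - cv n₁ w with hD
  have hD0 : ∀ z', hermForm n₂ F q z' v = 0 → adj hF (cv n₁ z') * D = 0 := by
    intro z' hz'
    obtain ⟨φ, hφ⟩ := h z' hz'
    have e := congrFun (congrFun hφ i₀) i₀
    rw [Matrix.smul_apply, Matrix.one_apply_eq, smul_eq_mul, mul_one] at e
    have e' : hermForm n₂ F q w z' = φ := by
      rw [← e, Matrix.mul_apply, Fintype.sum_prod_type, Finset.sum_eq_single i₀]
      · simp only [adj_apply, cv_apply, if_true, hermForm, hw]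
        exact Finset.sum_congr rfl fun j _ => by ring
      · intro i _ hi
        simp [cv_apply, hi, zero_pow (q_ne_zero hF)]
      · simp
    rw [hD, Matrix.mul_sub, hφ, adj_cv_mul hF, e', sub_self]
  refine ⟨Matrix.of fun i a => hermForm n₂ F q (fun j => D (i, j) a) v', ?_⟩
  rw [← sub_eq_iff_eq_add', ← hD]
  ext ⟨i, j⟩ a
  set d : Fin n₂ → F := fun j => D (i, j) a with hd
  have hperp : ∀ z', hermForm n₂ F q z' v = 0 → hermForm n₂ F q d z' = 0 := by
    intro z' hz'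
    have := congrFun (congrFun (hD0 z' hz') i) a
    rw [Matrix.zero_apply, Matrix.mul_apply, Fintype.sum_prod_type, Finset.sum_eq_single i] at this
    · rw [← this]
      simp only [adj_apply, cv_apply, if_true, hermForm, hd]
      exact Finset.sum_congr rfl fun j _ => by ring
    · intro i' _ hi
      simp [cv_apply, hi, zero_pow (q_ne_zero hF)]
    · simp
  have hdv : d = hermForm n₂ F q d v' • v := h_ext_left hF fun x => by
    have hv'v : hermForm n₂ F q v' v = 1 := (hv.symm hF).2.2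
    have := hperp (x - hermForm n₂ F q x v • v') (by rw [h_sub_left, h_smul_left, hv'v, mul_one, sub_self])
    rw [h_sub_right hF, h_smul_right hF, ← h_symm hF x v, sub_eq_zero] at this
    rw [this, h_smul_left, mul_comm]
  show d j = (cv n₁ v * Matrix.of fun i a => hermForm n₂ F q (fun j => D (i, j) a) v') (i, j) a
  rw [Matrix.mul_apply, congrFun hdv j]
  simp [cv_apply, hd, mul_comm]

/-- Commutators with `Qm` are scalar. -/
theorem Ov.mixed_scalar (O : Ov hF n₁ n₂ Mm) {v : Fin n₂ → F} (hv0 : v ≠ 0)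
    (hv : hermForm n₂ F q v v = 0) {G : Matrix (Fin n₁ × Fin n₂) (Fin n₁) F} (hG : adj hF (cv n₁ v) * G = 0)
    {S : Matrix (Fin n₁) (Fin n₁) F} (hS : S + adj hF S + adj hF G * G = 0) (hQ : Good hF Mm (Qm hF v G S))
    {z' : Fin n₂ → F} (hz' : hermForm n₂ F q z' v = 0) : ∃ t : F, adj hF (cv n₁ z') * G = t • 1 := by
  refine scalar_of_skew_part hF _ fun θ => ?_
  set w := θ • z' with hw
  have hwv : hermForm n₂ F q w v = 0 := by rw [hw, h_smul_left, hz', mul_zero]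
  obtain ⟨c, hc⟩ := exists_trace_eq hF (c := -hermForm n₂ F q w w) (by rw [neg_pow_q hF, h_self_fixed hF])
  have hwG : adj hF (cv n₁ v) * cv n₁ w = 0 := adj_cv_zero_of_perp hF hwv
  have hGn : adj hF (cv n₁ v) * -G = 0 := by rw [Matrix.mul_neg, hG, neg_zero]
  have hwn : adj hF (cv n₁ v) * -cv n₁ w = 0 := by rw [Matrix.mul_neg, hwG, neg_zero]
  have hu' := Qm_cv_uni (n₁ := n₁) hF hv hwv (c := c) (by linear_combination hc)
  have hsT := Qm_cv_isT (n₁ := n₁) hF v w c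
  have hmem := O.mul (hQ.2 _ hu' (Qm_det hF hv hwG _) hsT) (O.star (O.tens hu' (Qm_det hF hv hwG _) hsT))
  rw [adj_Qm hF, adj_Qm hF, Qm_mul hF hv hG hwG,
    Qm_mul hF hv (by rw [Matrix.mul_add, hG, hwG, add_zero]) hGn,
    Qm_mul hF hv (by simp [Matrix.mul_add, hG, hwG]) hwn] at hmem
  have e1 : G + cv n₁ w + -G + -cv n₁ w = 0 := by abel
  rw [e1, ← Tv_eq_Qm hF] at hmem
  obtain ⟨s, hsS⟩ := O.scal hv0 hv hmem
  refine ⟨s, ?_⟩
  rw [← hsS]
  have hww : adj hF (cv n₁ w) * cv n₁ w = -((c + c ^ q) • (1 : Matrix (Fin n₁) (Fin n₁) F)) := by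
    rw [adj_cv_mul hF, hc, neg_smul, neg_neg]
  have hSS : adj hF S = -S - adj hF G * G := by
    rw [eq_sub_iff_add_eq, eq_neg_iff_add_eq_zero]; rw [← hS]; abel
  have ex : θ ^ q • (adj hF (cv n₁ z') * G) - θ • adj hF (adj hF (cv n₁ z') * G) =
      adj hF (cv n₁ w) * G - adj hF G * cv n₁ w := by
    rw [hw, cv_smul, adj_smul, adj_mul, adj_adj, Matrix.smul_mul, Matrix.mul_smul]
  rw [ex]
  simp only [adj_add, adj_smul, adj_one, adj_neg, Matrix.add_mul, Matrix.mul_add, Matrix.mul_neg, Matrix.neg_mul,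
    hww, hSS]
  module

/-- An element of `Good` mapping an isotropic column to a column is a tensor element. -/
theorem Ov.isT_of_map (O : Ov hF n₁ n₂ Mm) {g : Matrix (Fin n₁ × Fin n₂) (Fin n₁ × Fin n₂) F}
    (hg : Good hF Mm g) {u v : Fin n₂ → F} (hu0 : u ≠ 0) (hu : hermForm n₂ F q u u = 0) (hv0 : v ≠ 0)
    (hv : hermForm n₂ F q v v = 0) {L : Matrix (Fin n₁) (Fin n₁) F} (h : g * cv n₁ u = cv n₁ v * L) :
    IsT g := by
  have h2 : 2 ≤ n₂ := by have := O.three; omega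
  let i₀ : Fin n₁ := ⟨0, by have := O.two; omega⟩
  haveI : Nonempty (Fin n₁) := ⟨i₀⟩
  -- the restriction is a similitude
  obtain ⟨l, hl0, hl⟩ := exists_trace_zero_ne_zero hF
  have hr := hg.2 _ (Tv_smul_one_uni (n₁ := n₁) hu hl) (Tv_det hu _) (Tv_smul_one_isT hF u l)
  rw [conj_Tv hF hg.1 h] at hr
  obtain ⟨s, hs⟩ := O.scal hv0 hv hr
  rw [Matrix.mul_smul, Matrix.mul_one, Matrix.smul_mul] at hs
  set c := s / l with hcdef
  have hLL : L * adj hF L = c • 1 := by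
    rw [hcdef, div_eq_inv_mul, ← smul_smul, ← hs, smul_smul, inv_mul_cancel₀ hl0, one_smul]
  have hLinj : Function.Injective (L *ᵥ ·) := fun a b hab => by
    have h1 : (g * cv n₁ u) *ᵥ a = (g * cv n₁ u) *ᵥ b := by
      rw [h, ← Matrix.mulVec_mulVec, ← Matrix.mulVec_mulVec]
      exact congrArg _ hab
    rw [← Matrix.mulVec_mulVec, ← Matrix.mulVec_mulVec] at h1
    exact cv_mulVec_injective hu0 (uni_mulVec_injective hF hg.1 h1)
  have hLu : IsUnit L := Matrix.mulVec_injective_iff_isUnit.1 hLinj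
  have hc0 : c ≠ 0 := fun e => by
    rw [e, zero_smul] at hLL
    exact not_isUnit_zero (hLL ▸ hLu.mul (H51.isUnit_adj hF hLu))
  have hcq : c ^ q = c := by
    have h1 := congrArg (adj hF) hLL
    rw [adj_mul, adj_adj, adj_smul, adj_one, hLL] at h1
    have h2 := congrFun (congrFun h1 i₀) i₀
    simpa using h2.symm
  obtain ⟨ν, hν⟩ := exists_norm_eq hF hcq
  rw [pow_succ] at hν
  have hν0 : ν ≠ 0 := fun e => hc0 (by rw [← hν, e, mul_zero])
  -- normalise on the column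
  obtain ⟨B, hB, hBv, -⟩ := UDec.exists_move_vec hF h2 hv0 (smul_ne_zero (inv_ne_zero hν0) hu0)
    (by rw [hv, h_smul_left, h_smul_right hF, hu, mul_zero, mul_zero])
  set A := (ν / c) • adj hF L with hA
  have hAu : adj hF A * A = 1 := by
    rw [hA, adj_smul, adj_adj, Matrix.smul_mul, Matrix.mul_smul, hLL, smul_smul, smul_smul, div_pow, hcq]
    convert one_smul F (1 : Matrix (Fin n₁) (Fin n₁) F) using 2
    field_simp
    linear_combination hν
  have ht : adj hF (A ⊗ₖ B) * (A ⊗ₖ B) = 1 := uni_kron hF hAu ((isIso_iff hF).1 hB)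
  set g₁ := g * (A ⊗ₖ B) with hg₁
  have hg₁G : Good hF Mm g₁ := hg.mul_tens ht ⟨_, _, rfl⟩
  have hg₁v : g₁ * cv n₁ v = cv n₁ v := by
    rw [hg₁, Matrix.mul_assoc, kron_cv, hBv, cv_smul, Matrix.smul_mul, Matrix.mul_smul, ← Matrix.mul_assoc, h,
      Matrix.mul_assoc, hA, Matrix.mul_smul, hLL, smul_smul, Matrix.mul_smul, smul_smul, Matrix.mul_one]
    convert one_smul F (cv n₁ v) using 2
    field_simp
  suffices hT₁ : IsT g₁ by
    have : g = g₁ * adj hF (A ⊗ₖ B) := by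
      rw [hg₁, Matrix.mul_assoc, mul_adj_of_uni hF ht, Matrix.mul_one]
    rw [this]
    exact hT₁.mul (IsT.adj hF ⟨_, _, rfl⟩)
  clear_value g₁
  clear hg₁ ht hAu hA A hBv hB B hν0 hν ν hcq hc0 hLu hLinj hLL hcdef c hs s hr hl hl0 l h L hu hu0 u hg g
  -- the action on `v⊥` modulo the column
  have hCg : adj hF (cv n₁ v) * g₁ = adj hF (cv n₁ v) := by
    have h1 : adj hF g₁ * cv n₁ v = cv n₁ v := by
      conv_lhs => rw [← hg₁v]
      rw [← Matrix.mul_assoc, hg₁G.1, Matrix.one_mul]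
    have h2 := congrArg (adj hF) h1
    rwa [adj_mul, adj_adj] at h2
  have hmix : ∀ z z', hermForm n₂ F q z v = 0 → hermForm n₂ F q z' v = 0 →
      ∃ t : F, adj hF (cv n₁ z') * (g₁ * cv n₁ z) = t • 1 := by
    intro z z' hz hz'
    obtain ⟨c, hc⟩ := exists_trace_eq hF (c := -hermForm n₂ F q z z) (by rw [neg_pow_q hF, h_self_fixed hF])
    have hzG : adj hF (cv n₁ v) * cv n₁ z = 0 := adj_cv_zero_of_perp hF hz
    have hm := hg₁G.2 _ (Qm_cv_uni (n₁ := n₁) hF hv hz (c := c) (by linear_combination hc))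
      (Qm_det hF hv hzG _) (Qm_cv_isT hF v z c)
    rw [conj_Qm hF hg₁G.1 hg₁v] at hm
    refine O.mixed_scalar hv0 hv (by rw [← Matrix.mul_assoc, hCg, hzG]) ?_ (O.good hm) hz'
    rw [adj_smul, adj_one, adj_mul, Matrix.mul_assoc, ← Matrix.mul_assoc (adj hF g₁), hg₁G.1, Matrix.one_mul,
      adj_cv_mul hF, ← add_smul, ← add_smul, hc, neg_add_cancel, zero_smul]
  obtain ⟨v', hyp⟩ := exists_hyp_partner hF hv0 hv
  have hv'v : hermForm n₂ F q v' v = 1 := (hyp.symm hF).2.2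
  let B₀ : Matrix (Fin n₂) (Fin n₂) F := Matrix.of fun j l => g₁ (i₀, j) (i₀, l)
  have hB₀ : ∀ z, (fun j => (g₁ * cv n₁ z) (i₀, j) i₀) = B₀ *ᵥ z := fun z => by
    funext j
    rw [Matrix.mul_apply, Fintype.sum_prod_type, Finset.sum_eq_single i₀]
    · simp [B₀, cv_apply, Matrix.mulVec, dotProduct]
    · intro i _ hi; simp [cv_apply, hi]
    · simp
  have hmid : ∀ z, hermForm n₂ F q z v = 0 → ∃ R : Matrix (Fin n₁) (Fin n₁) F, g₁ * cv n₁ z = cv n₁ (B₀ *ᵥ z) + cv n₁ v * R := by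
    intro z hz
    obtain ⟨R, hR⟩ := eq_cv_add hF hyp i₀ (G := g₁ * cv n₁ z) (fun z' hz' => hmix z z' hz hz')
    exact ⟨R, by rwa [hB₀] at hR⟩
  have hcc : adj hF (cv n₁ v) * cv n₁ v = 0 := adj_cv_zero_of_perp hF hv
  have hone : (1 : Matrix (Fin n₁) (Fin n₁) F) ≠ 0 := one_ne_zero
  have hBperp : ∀ z, hermForm n₂ F q z v = 0 → hermForm n₂ F q (B₀ *ᵥ z) v = 0 := by
    intro z hz
    obtain ⟨R, hR⟩ := hmid z hz
    have h1 : adj hF (cv n₁ v) * (g₁ * cv n₁ z) =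
        adj hF (cv n₁ v) * (cv n₁ (B₀ *ᵥ z) + cv n₁ v * R) := by rw [hR]
    rw [← Matrix.mul_assoc, hCg, Matrix.mul_add, ← Matrix.mul_assoc _ (cv n₁ v) R, hcc, Matrix.zero_mul, add_zero,
      adj_cv_mul hF, adj_cv_mul hF, hz, zero_smul] at h1
    exact (smul_eq_zero.1 h1.symm).resolve_right hone
  have hBiso : ∀ z z', hermForm n₂ F q z v = 0 → hermForm n₂ F q z' v = 0 →
      hermForm n₂ F q (B₀ *ᵥ z) (B₀ *ᵥ z') = hermForm n₂ F q z z' := by
    intro z z' hz hz'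
    obtain ⟨R, hR⟩ := hmid z hz
    obtain ⟨R', hR'⟩ := hmid z' hz'
    have h1 : adj hF (g₁ * cv n₁ z') * (g₁ * cv n₁ z) = hermForm n₂ F q z z' • 1 := by
      rw [adj_mul, Matrix.mul_assoc, ← Matrix.mul_assoc (adj hF g₁), hg₁G.1, Matrix.one_mul, adj_cv_mul hF]
    have a1 : adj hF (cv n₁ (B₀ *ᵥ z')) * cv n₁ v = 0 :=
      adj_cv_zero_of_perp hF ((h_eq_zero_comm hF).1 (hBperp z' hz'))
    have a2 : adj hF (cv n₁ v) * cv n₁ (B₀ *ᵥ z) = 0 := adj_cv_zero_of_perp hF (hBperp z hz)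
    rw [hR, hR', adj_add, adj_mul, Matrix.add_mul, Matrix.mul_add, Matrix.mul_add, Matrix.mul_assoc (adj hF R'),
      Matrix.mul_assoc (adj hF R'), ← Matrix.mul_assoc _ (cv n₁ v) R, a1, a2, ← Matrix.mul_assoc _ (cv n₁ v) R, hcc,
      Matrix.zero_mul, Matrix.mul_zero, add_zero, add_zero, add_zero, adj_cv_mul hF] at h1
    exact smul_left_injective F hone h1
  -- the unitary extension
  let N : Matrix (Fin n₂) (Fin n₂) F := LinearMap.toMatrix'
    { toFun := fun x =>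
        let y := x - hermForm n₂ F q x v' • v - hermForm n₂ F q x v • v'
        hermForm n₂ F q x v' • v + hermForm n₂ F q x v • v' + (B₀ *ᵥ y - hermForm n₂ F q (B₀ *ᵥ y) v' • v)
      map_add' := fun x x' => by
        simp only [h_add_left, Matrix.mulVec_add, Matrix.mulVec_sub, Matrix.mulVec_smul, h_sub_left, h_smul_left]
        module
      map_smul' := fun c x => by
        simp only [h_smul_left, Matrix.mulVec_sub, Matrix.mulVec_smul, h_sub_left, RingHom.id_apply]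
        module }
  have hN : ∀ x, N *ᵥ x = hermForm n₂ F q x v' • v + hermForm n₂ F q x v • v' +
      (B₀ *ᵥ (x - hermForm n₂ F q x v' • v - hermForm n₂ F q x v • v') -
        hermForm n₂ F q (B₀ *ᵥ (x - hermForm n₂ F q x v' • v - hermForm n₂ F q x v • v')) v' • v) := fun x => by
    simp only [N, LinearMap.toMatrix'_mulVec]; rfl
  have hvv' : hermForm n₂ F q v v' = 1 := hyp.2.2
  have hv'v' : hermForm n₂ F q v' v' = 0 := hyp.2.1
  have hy : ∀ x, hermForm n₂ F q (x - hermForm n₂ F q x v' • v - hermForm n₂ F q x v • v') v = 0 ∧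
      hermForm n₂ F q (x - hermForm n₂ F q x v' • v - hermForm n₂ F q x v • v') v' = 0 := fun x => by
    simp [h_sub_left, h_smul_left, hv, hv'v, hvv', hv'v']
  have hNu : adj hF N * N = 1 := (isIso_iff hF).1 fun x x' => by
    obtain ⟨hy1, hy2⟩ := hy x
    obtain ⟨hy1', hy2'⟩ := hy x'
    rw [hN, hN]
    set α := hermForm n₂ F q x v'
    set β := hermForm n₂ F q x v
    set α' := hermForm n₂ F q x' v'
    set β' := hermForm n₂ F q x' v
    set y := x - α • v - β • v' with hydef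
    set y' := x' - α' • v - β' • v' with hy'def
    have ex : x = α • v + β • v' + y := by rw [hydef]; abel
    have ex' : x' = α' • v + β' • v' + y' := by rw [hy'def]; abel
    set b := B₀ *ᵥ y
    set b' := B₀ *ᵥ y'
    have hb : hermForm n₂ F q b v = 0 := hBperp y hy1
    have hb' : hermForm n₂ F q b' v = 0 := hBperp y' hy1'
    have hbb : hermForm n₂ F q b b' = hermForm n₂ F q y y' := hBiso y y' hy1 hy1'
    conv_rhs => rw [ex, ex']
    simp only [h_add_left, h_add_right hF, h_sub_left, h_sub_right hF, h_smul_left, h_smul_right hF, hv, hv'v,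
      hvv', hv'v', hb, hb', (h_eq_zero_comm hF).1 hb', hy1, hy2, (h_eq_zero_comm hF).1 hy1',
      (h_eq_zero_comm hF).1 hy2', ← h_symm hF b' v', hbb]
    ring
  have hNv : N *ᵥ v = v := by
    rw [hN]; simp [hv, hvv', h_zero_left]
  have hNv' : N *ᵥ v' = v' := by
    rw [hN]; simp [hv'v', hv'v, h_zero_left]
  set g₂ := g₁ * adj hF ((1 : Matrix (Fin n₁) (Fin n₁) F) ⊗ₖ N) with hg₂
  have hNt : adj hF ((1 : Matrix (Fin n₁) (Fin n₁) F) ⊗ₖ N) * ((1 : Matrix (Fin n₁) (Fin n₁) F) ⊗ₖ N) = 1 :=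
    uni_kron hF (by rw [adj_one, Matrix.mul_one]) hNu
  have hg₂G : Good hF Mm g₂ := hg₁G.mul_tens (uni_adj hF hNt) (IsT.adj hF ⟨_, _, rfl⟩)
  have hg₂N : ∀ x, g₂ * cv n₁ (N *ᵥ x) = g₁ * cv n₁ x := fun x => by
    rw [hg₂, ← one_kron_cv, Matrix.mul_assoc, ← Matrix.mul_assoc (adj hF _), hNt, Matrix.one_mul]
  suffices hT₂ : IsT g₂ by
    have : g₁ = g₂ * ((1 : Matrix (Fin n₁) (Fin n₁) F) ⊗ₖ N) := by
      rw [hg₂, Matrix.mul_assoc, hNt, Matrix.mul_one]
    rw [this]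
    exact hT₂.mul ⟨_, _, rfl⟩
  have hg₂v : g₂ * cv n₁ v = cv n₁ v := by
    have := hg₂N v
    rwa [hNv, hg₁v] at this
  have hCg₂ : adj hF (cv n₁ v) * g₂ = adj hF (cv n₁ v) := by
    have h1 : adj hF g₂ * cv n₁ v = cv n₁ v := by
      conv_lhs => rw [← hg₂v]
      rw [← Matrix.mul_assoc, hg₂G.1, Matrix.one_mul]
    have h2 := congrArg (adj hF) h1
    rwa [adj_mul, adj_adj] at h2
  -- the element is in the unipotent radical
  set G := g₂ * cv n₁ v' - cv n₁ v' with hG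
  have hCG : adj hF (cv n₁ v) * G = 0 := by rw [hG, Matrix.mul_sub, ← Matrix.mul_assoc, hCg₂, sub_self]
  have hGv : adj hF G * cv n₁ v = 0 := by
    have := congrArg (adj hF) hCG
    rwa [adj_mul, adj_adj, adj_zero] at this
  set S := adj hF G * cv n₁ v' with hS
  have hgQ : g₂ = Qm hF v G S := by
    refine mat_ext_cv fun x => ?_
    have hQ : ∀ z, Qm hF v G S * cv n₁ z = cv n₁ z + (G * (hermForm n₂ F q z v • (1 : Matrix (Fin n₁) (Fin n₁) F)) -
        cv n₁ v * (adj hF G * cv n₁ z) + cv n₁ v * (S * (hermForm n₂ F q z v • (1 : Matrix (Fin n₁) (Fin n₁) F)))) :=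
      fun z => by
        simp only [Qm, Matrix.add_mul, Matrix.sub_mul, Matrix.one_mul, Matrix.mul_assoc, adj_cv_mul hF]
    obtain ⟨y₀, hy₀⟩ : ∃ x₀, N *ᵥ x₀ = x :=
      ⟨adj hF N *ᵥ x, by rw [Matrix.mulVec_mulVec, mul_adj_of_uni hF hNu, Matrix.one_mulVec]⟩
    rw [← hy₀]
    set α₀ := hermForm n₂ F q y₀ v'
    set β₀ := hermForm n₂ F q y₀ v
    set w := y₀ - α₀ • v - β₀ • v' with hwdef
    obtain ⟨hw1, hw2⟩ := hy y₀
    have ey : y₀ = α₀ • v + β₀ • v' + w := by rw [hwdef]; abel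
    have keyw : g₂ * cv n₁ (N *ᵥ w) = Qm hF v G S * cv n₁ (N *ᵥ w) := by
      have hNy : N *ᵥ w = B₀ *ᵥ w - hermForm n₂ F q (B₀ *ᵥ w) v' • v := by
        rw [hN, hw1, hw2]; simp
      have hNy1 : hermForm n₂ F q (N *ᵥ w) v = 0 := by
        rw [hNy, h_sub_left, h_smul_left, hv, hBperp w hw1, mul_zero, sub_zero]
      have hNy2 : hermForm n₂ F q (N *ᵥ w) v' = 0 := by
        rw [hNy, h_sub_left, h_smul_left, hvv', mul_one, sub_self]
      obtain ⟨R, hR⟩ := hmid w hw1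
      have e : g₂ * cv n₁ (N *ᵥ w) = cv n₁ (N *ᵥ w) + cv n₁ v * (R + hermForm n₂ F q (B₀ *ᵥ w) v' • 1) := by
        rw [hg₂N, hR, hNy, cv_sub, cv_smul, Matrix.mul_add, Matrix.mul_smul, Matrix.mul_one]
        abel
      generalize R + hermForm n₂ F q (B₀ *ᵥ w) v' • (1 : Matrix (Fin n₁) (Fin n₁) F) = R' at e
      have e2 : g₂ * cv n₁ v' = cv n₁ v' + G := by rw [hG]; abel
      have h1 : adj hF (g₂ * cv n₁ v') * (g₂ * cv n₁ (N *ᵥ w)) = 0 := by
        rw [adj_mul, Matrix.mul_assoc, ← Matrix.mul_assoc (adj hF g₂), hg₂G.1, Matrix.one_mul, adj_cv_mul hF, hNy2,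
          zero_smul]
      rw [e, e2, adj_add, Matrix.add_mul, Matrix.mul_add, Matrix.mul_add, ← Matrix.mul_assoc _ (cv n₁ v) R',
        ← Matrix.mul_assoc _ (cv n₁ v) R', adj_cv_mul hF, adj_cv_mul hF, hNy2, hvv', hGv, zero_smul, one_smul,
        Matrix.one_mul, Matrix.zero_mul, zero_add, add_zero] at h1
      rw [hQ, e, hNy1, zero_smul, Matrix.mul_zero, Matrix.mul_zero, Matrix.mul_zero, add_zero, zero_sub,
        eq_neg_of_add_eq_zero_left h1, Matrix.mul_neg]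
    have kv : g₂ * cv n₁ v = Qm hF v G S * cv n₁ v := by
      rw [hQ, hg₂v, hGv, hv]; simp
    have kv' : g₂ * cv n₁ v' = Qm hF v G S * cv n₁ v' := by
      rw [hQ, hv'v, one_smul, Matrix.mul_one, Matrix.mul_one, ← hS, hG]; abel
    rw [ey]
    simp only [Matrix.mulVec_add, Matrix.mulVec_smul, hNv, hNv', cv_add, cv_smul, Matrix.mul_add, Matrix.mul_smul,
      kv, kv', keyw]
  have hQrel : S + adj hF S + adj hF G * G = 0 := by
    have h1 : adj hF (g₂ * cv n₁ v') * (g₂ * cv n₁ v') = 0 := by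
      rw [adj_mul, Matrix.mul_assoc, ← Matrix.mul_assoc (adj hF g₂), hg₂G.1, Matrix.one_mul, adj_cv_mul hF, hv'v',
        zero_smul]
    have e2 : g₂ * cv n₁ v' = cv n₁ v' + G := by rw [hG]; abel
    rw [e2, adj_add, Matrix.add_mul, Matrix.mul_add, Matrix.mul_add, adj_cv_mul hF, hv'v', zero_smul, zero_add,
      ← hS] at h1
    have hSa : adj hF S = adj hF (cv n₁ v') * G := by rw [hS, adj_mul, adj_adj]
    rw [← h1, hSa]
    abel
  -- the mixed part is a column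
  have hQG : Good hF Mm (Qm hF v G S) := hgQ ▸ hg₂G
  have hGsc : ∀ z, hermForm n₂ F q z v = 0 → ∃ φ : F, adj hF (cv n₁ z) * G = φ • 1 :=
    fun z hz => O.mixed_scalar hv0 hv hCG hQrel hQG hz
  obtain ⟨R₀, hR₀⟩ := eq_cv_add hF hyp i₀ hGsc
  set z₀ : Fin n₂ → F := fun j => G (i₀, j) i₀
  have hz₀ : hermForm n₂ F q z₀ v = 0 := by
    have h1 : adj hF (cv n₁ v) * G = adj hF (cv n₁ v) * (cv n₁ z₀ + cv n₁ v * R₀) := by rw [← hR₀]
    rw [hCG, Matrix.mul_add, ← Matrix.mul_assoc _ (cv n₁ v) R₀, hcc, Matrix.zero_mul, add_zero, adj_cv_mul hF] at h1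
    exact (smul_eq_zero.1 h1.symm).resolve_right hone
  obtain ⟨c, hc⟩ := exists_trace_eq hF (c := -hermForm n₂ F q z₀ z₀) (by rw [neg_pow_q hF, h_self_fixed hF])
  have hz₀u := Qm_cv_uni (n₁ := n₁) hF hv hz₀ (c := c) (by linear_combination hc)
  have hz₀T := Qm_cv_isT (n₁ := n₁) hF v z₀ c
  set g₃ := g₂ * adj hF (Qm hF v (cv n₁ z₀) (c • 1)) with hg₃
  have hg₃G : Good hF Mm g₃ := hg₂G.mul_tens (uni_adj hF hz₀u) (IsT.adj hF hz₀T)
  obtain ⟨S', hS'⟩ : ∃ S', g₃ = Tv hF v S' := by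
    rw [hg₃, hgQ, hR₀, Qm_add_cv hF, adj_Qm hF,
      Qm_mul hF hv (adj_cv_zero_of_perp hF hz₀) (by rw [Matrix.mul_neg, adj_cv_zero_of_perp hF hz₀, neg_zero]),
      add_neg_cancel, ← Tv_eq_Qm hF]
    exact ⟨_, rfl⟩
  suffices hS'sc : ∃ s : F, S' = s • 1 by
    obtain ⟨s, hs⟩ := hS'sc
    have : g₂ = g₃ * Qm hF v (cv n₁ z₀) (c • 1) := by
      rw [hg₃, Matrix.mul_assoc, hz₀u, Matrix.mul_one]
    rw [this, hS', hs]
    exact (Tv_smul_one_isT hF v s).mul hz₀T
  have hS'skew : adj hF S' = -S' := by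
    have h1 := hg₃G.1
    rw [hS', adj_Tv, Tv_mul hv, ← Tv_zero (hF := hF) v] at h1
    exact eq_neg_of_add_eq_zero_left (Tv_inj hv0 hv h1)
  refine O.scalar_of_diff hS'skew fun A hA hAd => ?_
  set X := A ⊗ₖ (1 : Matrix (Fin n₂) (Fin n₂) F) with hX
  have hXu : adj hF X * X = 1 := uni_kron hF hA (by rw [adj_one, Matrix.mul_one])
  have hXv : X * cv n₁ v = cv n₁ v * A := by rw [hX, kron_cv, Matrix.one_mulVec]
  have hmem := O.mul (hg₃G.2 X hXu (det_kron_one hAd) ⟨_, _, rfl⟩) (O.star (O.tens hXu (det_kron_one hAd) ⟨_, _, rfl⟩))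
  have e : g₃ * X * adj hF g₃ * adj hF X = Tv hF v (S' + -(A * S' * adj hF A)) := by
    rw [Matrix.mul_assoc g₃ X, Matrix.mul_assoc g₃, hS', adj_Tv, conj_Tv hF hXu hXv, Tv_mul hv, hS'skew,
      Matrix.mul_neg, Matrix.neg_mul]
  rw [e] at hmem
  obtain ⟨s, hs⟩ := O.scal hv0 hv hmem
  exact ⟨-s, by rw [neg_smul, ← hs]; abel⟩

end H41.UTen
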