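import Cfsg.Agent.H41.UTen.StepA

/-!
For `U₂ ⊗ U₃`: an overgroup without pure transvections consists of tensor elements.
Short words in the root groups `Tv u` and `g* (Tv v) g` send the column of `u` to itself
with a non-scalar action unless all pairings are similitudes.
-/

set_option autoImplicit false
set_option linter.unusedSectionVars false
set_option linter.unusedSimpArgs false

namespace H41.UTen

open Matrix Cfsg H50
open scoped Kronecker
open H51 (adj adj_mul adj_add adj_smul adj_one adj_zero adj_adj adj_sub adj_neg adj_kronecker adj_apply)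

variable {F : Type*} [Field F] {q : ℕ}

/-- Cayley--Hamilton in size two. -/
theorem cayley_two (K : Matrix (Fin 2) (Fin 2) F) : K * K - K.trace • K + K.det • 1 = 0 := by
  ext i j
  fin_cases i <;> fin_cases j <;>
    simp [Matrix.mul_apply, Fin.sum_univ_two, Matrix.trace_fin_two, Matrix.det_fin_two] <;> ring

/-- A singular matrix of size two. -/
theorem sandwich_two {C : Matrix (Fin 2) (Fin 2) F} (hC : C.det = 0) (M : Matrix (Fin 2) (Fin 2) F) :
    C * M * C = (M * C).trace • C := by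
  rw [Matrix.det_fin_two] at hC
  ext i j
  fin_cases i <;> fin_cases j <;>
    simp [Matrix.mul_apply, Fin.sum_univ_two, Matrix.trace_fin_two] <;>
    first
      | linear_combination (-(M 1 1)) * hC
      | linear_combination (M 0 1) * hC
      | linear_combination (M 1 0) * hC
      | linear_combination (-(M 0 0)) * hC

variable [Fintype F] {hF : Fintype.card F = q ^ 2}
variable {Mm : Matrix (Fin 2 × Fin 3) (Fin 2 × Fin 3) F → Prop}

/-- The pairing of two columns. -/
def Cp (hF : Fintype.card F = q ^ 2) (g : Matrix (Fin 2 × Fin 3) (Fin 2 × Fin 3) F) (u v : Fin 3 → F) :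
    Matrix (Fin 2) (Fin 2) F := adj hF (cv 2 v) * (g * cv 2 u)

/-- A root element of `Tv u`. -/
theorem Ov.root_mem (O : Ov hF 2 3 Mm) {w : Fin 3 → F} (hw : hermForm 3 F q w w = 0) {c : F} (hc : c + c ^ q = 0) :
    Mm (Tv hF w (c • (1 : Matrix (Fin 2) (Fin 2) F))) :=
  O.tens (Tv_smul_one_uni hw hc) (Tv_det hw _) (Tv_smul_one_isT hF _ c)

/-- A zero pairing forces a tensor element. -/
theorem Ov.isT_of_zero (O : Ov hF 2 3 Mm) {g : Matrix (Fin 2 × Fin 3) (Fin 2 × Fin 3) F} (hg : Mm g) {u v : Fin 3 → F}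
    (hu0 : u ≠ 0) (hu : hermForm 3 F q u u = 0) (hv0 : v ≠ 0) (hv : hermForm 3 F q v v = 0)
    (h : Cp hF g u v = 0) (hroot : ∀ {l : F}, l ≠ 0 → IsT (g * Tv hF u (l • (1 : Matrix (Fin 2) (Fin 2) F)) * adj hF g) → IsT g) : IsT g := by
  obtain ⟨l, hl0, hl⟩ := exists_trace_zero_ne_zero hF
  refine hroot hl0 (O.isT_of_map (O.good (O.mul (O.mul hg (O.root_mem hu hl)) (O.star hg))) hv0 hv hv0 hv
    (L := 1) ?_)
  have h1 : adj hF (cv 2 u) * (adj hF g * cv 2 v) = 0 := by
    have := congrArg (adj hF) h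
    rw [Cp, adj_mul, adj_mul, adj_adj, adj_zero, Matrix.mul_assoc] at this
    exact this
  simp only [Tv, Matrix.mul_add, Matrix.add_mul, Matrix.mul_one, Matrix.mul_assoc, h1, Matrix.mul_zero, add_zero]
  rw [← Matrix.mul_assoc, mul_adj_of_uni hF (O.uni hg), Matrix.one_mul]

/-- An element of `M` fixing the column of `u` with action `1 + N` on the complement acts there as a scalar
multiple of `1 + N`. -/
theorem Ov.action_eq (O : Ov hF 2 3 Mm) {m : Matrix (Fin 2 × Fin 3) (Fin 2 × Fin 3) F} (hm : Mm m)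
    {u u' d : Fin 3 → F} (hu0 : u ≠ 0) (hu : hermForm 3 F q u u = 0) (huu' : hermForm 3 F q u u' = 1)
    {P N : Matrix (Fin 2) (Fin 2) F} (hG : m * cv 2 u = cv 2 u * P)
    (hN : adj hF (cv 2 d) * (m * cv 2 d) = 1 + N) (hN2 : N * N = 0) : ∃ k : F, P = k • (1 + N) := by
  obtain ⟨A, B, hAB⟩ := O.isT_of_map (O.good hm) hu0 hu hu0 hu hG
  have e1 : P = hermForm 3 F q (B *ᵥ u) u' • A := by
    rw [← adj_cv_kron_cv hF, ← hAB, hG, ← Matrix.mul_assoc, adj_cv_mul hF, huu', one_smul, Matrix.one_mul]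
  have e2 : 1 + N = hermForm 3 F q (B *ᵥ d) d • A := by
    rw [← hN, hAB, adj_cv_kron_cv hF]
  have hb : hermForm 3 F q (B *ᵥ d) d ≠ 0 := by
    intro e
    rw [e, zero_smul] at e2
    have : N = -1 := eq_neg_of_add_eq_zero_right e2
    rw [this] at hN2
    simp at hN2
  exact ⟨hermForm 3 F q (B *ᵥ u) u' / hermForm 3 F q (B *ᵥ d) d, by
    rw [e1, e2, smul_smul, div_mul_cancel₀ _ hb]⟩

section Words

variable {g : Matrix (Fin 2 × Fin 3) (Fin 2 × Fin 3) F} {u v : Fin 3 → F}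

/-- `Tv u` on a combination. -/
theorem step_t (hu : hermForm 3 F q u u = 0) (a : F) {D₀ : Matrix (Fin 2 × Fin 3) (Fin 2) F}
    (hD : adj hF (cv 2 u) * D₀ = 0) (P Q : Matrix (Fin 2) (Fin 2) F) :
    Tv hF u (a • (1 : Matrix (Fin 2) (Fin 2) F)) * (D₀ + cv 2 u * P + (adj hF g * cv 2 v) * Q) =
      D₀ + cv 2 u * (P + a • (adj hF (Cp hF g u v) * Q)) + (adj hF g * cv 2 v) * Q := by
  have h0 : adj hF (cv 2 u) * cv 2 u = 0 := adj_cv_zero_of_perp hF hu
  have h1 : adj hF (cv 2 u) * (adj hF g * cv 2 v) = adj hF (Cp hF g u v) := by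
    rw [Cp, adj_mul, adj_mul, adj_adj, Matrix.mul_assoc]
  rw [Tv, Matrix.add_mul, Matrix.one_mul, Matrix.mul_add, Matrix.mul_add]
  simp only [Matrix.mul_assoc, Matrix.mul_add, Matrix.mul_smul, Matrix.smul_mul, Matrix.mul_one, Matrix.one_mul, hD,
    ← Matrix.mul_assoc (adj hF (cv 2 u)) (cv 2 u), h0, Matrix.zero_mul, Matrix.mul_zero, smul_zero]
  rw [← Matrix.mul_assoc (adj hF g) (cv 2 v) Q, ← Matrix.mul_assoc (adj hF (cv 2 u)) (adj hF g * cv 2 v) Q, h1]
  abel

/-- `g* Tv v g` on a combination. -/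
theorem step_tau (hg : g * adj hF g = 1) (hv : hermForm 3 F q v v = 0) (b : F)
    (D₀ : Matrix (Fin 2 × Fin 3) (Fin 2) F) (P Q : Matrix (Fin 2) (Fin 2) F) :
    adj hF g * Tv hF v (b • (1 : Matrix (Fin 2) (Fin 2) F)) * g * (D₀ + cv 2 u * P + (adj hF g * cv 2 v) * Q) =
      g⁻¹ * g * (D₀ + cv 2 u * P + (adj hF g * cv 2 v) * Q) +
        (adj hF g * cv 2 v) * (b • (adj hF (cv 2 v) * (g * D₀) + Cp hF g u v * P)) := by
  have hgi : g⁻¹ = adj hF g := Matrix.inv_eq_right_inv hg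
  have h0 : adj hF (cv 2 v) * (g * (adj hF g * cv 2 v)) = 0 := by
    rw [← Matrix.mul_assoc g, hg, Matrix.one_mul]; exact adj_cv_zero_of_perp hF hv
  rw [hgi, Tv, Matrix.mul_add (adj hF g), Matrix.mul_one, Matrix.add_mul, Matrix.add_mul]
  congr 1
  have h2 : adj hF (cv 2 v) * (g * (D₀ + cv 2 u * P + adj hF g * cv 2 v * Q)) =
      adj hF (cv 2 v) * (g * D₀) + Cp hF g u v * P := by
    rw [Matrix.mul_add, Matrix.mul_add, Matrix.mul_add, Matrix.mul_add, Cp, ← Matrix.mul_assoc g (adj hF g * cv 2 v) Q,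
      ← Matrix.mul_assoc (adj hF (cv 2 v)) (g * (adj hF g * cv 2 v)) Q, h0, Matrix.zero_mul, add_zero,
      Matrix.mul_assoc (adj hF (cv 2 v)) _ P, Matrix.mul_assoc g]
  simp only [Matrix.mul_assoc, Matrix.mul_smul, Matrix.smul_mul, Matrix.mul_one, Matrix.one_mul] at h2 ⊢
  rw [h2]

end Words

/-- Some word gives a non-scalar action unless the pairing is a similitude. -/
theorem Ov.scalar_gram (O : Ov hF 2 3 Mm) {g : Matrix (Fin 2 × Fin 3) (Fin 2 × Fin 3) F} (hg : Mm g)
    {u u' d v : Fin 3 → F} (hu0 : u ≠ 0) (hu : hermForm 3 F q u u = 0) (huu' : hermForm 3 F q u u' = 1)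
    (hdu : hermForm 3 F q d u = 0) (hdd : hermForm 3 F q d d = 1) (hv : hermForm 3 F q v v = 0)
    (hres : cv 2 u * adj hF (cv 2 u') + cv 2 u' * adj hF (cv 2 u) + cv 2 d * adj hF (cv 2 d) =
      (1 : Matrix (Fin 2 × Fin 3) (Fin 2 × Fin 3) F)) :
    ∃ t : F, adj hF (Cp hF g u v) * Cp hF g u v = t • 1 := by
  classical
  have hq := q_ne_zero hF
  set C := Cp hF g u v with hC
  set K := adj hF C * C with hK
  by_contra hns
  simp only [not_exists] at hns
  obtain ⟨c, hc0, hc1⟩ : ∃ c : F, c ^ q = c ∧ c ≠ 0 ∧ c ≠ -1 := by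
    have hq3 : 3 ≤ q := by
      have := two_le hF
      by_contra hlt
      exact O.exc ⟨rfl, by omega⟩
    obtain ⟨c, hc, hc'⟩ := Finset.exists_mem_notMem_of_card_lt_card (s := ({0, -1} : Finset F))
      (t := UDec.reals q F) (lt_of_le_of_lt Finset.card_le_two (by rw [UDec.card_reals hF]; omega))
    simp only [Finset.mem_insert, Finset.mem_singleton, not_or] at hc'
    exact ⟨c, UDec.mem_reals.mp hc, hc'⟩
  obtain ⟨hcne, hc1⟩ := hc1
  obtain ⟨l, hl0, hl⟩ := exists_trace_zero_ne_zero hF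
  have hlq : l ^ q = -l := by linear_combination hl
  have hskew : ∀ {r : F}, r ^ q = r → r * l + (r * l) ^ q = 0 := fun hr => by rw [mul_pow, hr, hlq]; ring
  have hK0 : K ≠ 0 := fun e => hns 0 (by rw [e, zero_smul])
  have hKadj : adj hF K = K := by rw [hK, adj_mul, adj_adj]
  have htr : K.trace ^ q = K.trace := by
    conv_rhs => rw [← hKadj]
    simp [Matrix.trace, sum_pow_q hF, add_pow_q hF]
  have hdet : K.det ^ q = K.det := by rw [← H51.det_adj hF, hKadj]
  set σ := K.trace with hσ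
  set H := adj hF (cv 2 v) * (g * cv 2 d) with hH
  set M := C * adj hF C with hM
  have hMC : M * C = C * K := by rw [hM, hK, Matrix.mul_assoc]
  have hgg : g * adj hF g = 1 := mul_adj_of_uni hF (O.uni hg)
  have hgi : g⁻¹ * g = 1 := Matrix.nonsing_inv_mul g (by
    rw [O.det hg]; exact isUnit_one)
  have hτ : ∀ {b : F}, b ^ q = b → Mm (adj hF g * Tv hF v ((b * l) • (1 : Matrix (Fin 2) (Fin 2) F)) * g) := fun hb =>
    O.mul (O.mul (O.star hg) (O.root_mem hv (hskew hb))) hg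
  have ht : ∀ {a : F}, a ^ q = a → Mm (Tv hF u ((a * l) • (1 : Matrix (Fin 2) (Fin 2) F))) := fun ha => O.root_mem hu (hskew ha)
  have hd0 : adj hF (cv 2 u) * cv 2 d = (0 : Matrix (Fin 2) (Fin 2) F) := adj_cv_zero_of_perp hF hdu
  have hu00 : adj hF (cv 2 u) * cv 2 u = (0 : Matrix (Fin 2) (Fin 2) F) := adj_cv_zero_of_perp hF hu
  have hdD : adj hF (cv 2 d) * cv 2 d = (1 : Matrix (Fin 2) (Fin 2) F) := by rw [adj_cv_mul hF, hdd, one_smul]
  have hdG : adj hF (cv 2 d) * cv 2 u = (0 : Matrix (Fin 2) (Fin 2) F) :=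
    adj_cv_zero_of_perp hF ((h_eq_zero_comm hF).1 hdu)
  have hZd : adj hF (cv 2 d) * (adj hF g * cv 2 v) = adj hF H := by
    rw [hH, adj_mul, adj_mul, adj_adj, Matrix.mul_assoc]
  -- the conclusion from a word
  have finish : ∀ (m : Matrix (Fin 2 × Fin 3) (Fin 2 × Fin 3) F) (R : Matrix (Fin 2) (Fin 2) F)
      (X : Matrix (Fin 2) (Fin 2) F), Mm m →
      (∀ D₀ : Matrix (Fin 2 × Fin 3) (Fin 2) F, adj hF (cv 2 u) * D₀ = 0 →
        m * D₀ = D₀ + cv 2 u * (adj hF C * (R * (adj hF (cv 2 v) * (g * D₀)))) +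
          (adj hF g * cv 2 v) * (X * (adj hF (cv 2 v) * (g * D₀)))) →
      X * C = 0 → adj hF C * X = 0 →
      ∃ k : F, 1 + adj hF C * (R * C) = k • (1 + adj hF H * (X * H)) ∧ (adj hF H * (X * H)) * (adj hF H * (X * H)) = 0 := by
    intro m R X hm hw hXC hCX
    have hG : m * cv 2 u = cv 2 u * (1 + adj hF C * (R * C)) := by
      rw [hw _ hu00, show adj hF (cv 2 v) * (g * cv 2 u) = C from rfl, hXC, Matrix.mul_zero, add_zero, Matrix.mul_add,
        Matrix.mul_one]
    have hN : adj hF (cv 2 d) * (m * cv 2 d) = 1 + adj hF H * (X * H) := by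
      rw [hw _ hd0, ← hH, Matrix.mul_add, Matrix.mul_add, ← Matrix.mul_assoc (adj hF (cv 2 d)) (cv 2 u), hdG,
        Matrix.zero_mul, add_zero, ← Matrix.mul_assoc (adj hF (cv 2 d)) (adj hF g * cv 2 v), hZd, hdD]
    have hHH : X * (H * adj hF H) * X = 0 := by
      set Z := adj hF g * cv 2 v with hZ
      have hZZ : adj hF Z * Z = 0 := by
        rw [hZ, adj_mul, adj_adj, Matrix.mul_assoc, ← Matrix.mul_assoc g, hgg, Matrix.one_mul]
        exact adj_cv_zero_of_perp hF hv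
      have e1 : adj hF Z * cv 2 u = C := by rw [hZ, adj_mul, adj_adj, Matrix.mul_assoc]; rfl
      have e2 : adj hF Z * cv 2 d = H := by rw [hZ, adj_mul, adj_adj, Matrix.mul_assoc]
      have h := congrArg (fun Y => adj hF Z * Y * Z) hres
      simp only [Matrix.mul_add, Matrix.add_mul, Matrix.mul_one, hZZ] at h
      have e1' : adj hF (cv 2 u) * Z = adj hF C := by rw [← e1, adj_mul, adj_adj]
      have e2' : adj hF (cv 2 d) * Z = adj hF H := by rw [← e2, adj_mul, adj_adj]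
      simp only [← Matrix.mul_assoc (adj hF Z), e1, e2] at h
      simp only [Matrix.mul_assoc, e1', e2'] at h
      have h' := congrArg (fun Y => X * Y * X) h
      simp only [Matrix.mul_add, Matrix.add_mul, Matrix.mul_zero, Matrix.zero_mul, ← Matrix.mul_assoc, hXC] at h'
      simp only [Matrix.mul_assoc, hCX, Matrix.mul_zero, zero_add, add_zero] at h'
      simpa only [Matrix.mul_assoc] using h'
    have hN2 : (adj hF H * (X * H)) * (adj hF H * (X * H)) = 0 := by
      calc _ = adj hF H * ((X * (H * adj hF H) * X) * H) := by simp only [Matrix.mul_assoc]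
        _ = 0 := by rw [hHH, Matrix.zero_mul, Matrix.mul_zero]
    exact ⟨_, (O.action_eq hm hu0 hu huu' hG hN hN2).choose_spec, hN2⟩
  by_cases hdet0 : C.det = 0
  · -- three letters
    have hCK : C * K = σ • C := by
      rw [hK, ← Matrix.mul_assoc, sandwich_two hdet0, hσ, hK]
    have hKC : K * adj hF C = σ • adj hF C := by
      have := congrArg (adj hF) hCK
      rwa [adj_mul, hKadj, adj_smul, htr] at this
    obtain ⟨b, a, hb, ha, hb0, ha0, hpoly⟩ : ∃ b a : F, b ^ q = b ∧ a ^ q = a ∧ b ≠ 0 ∧ a ≠ 0 ∧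
        (1 + b) + a * b * (l * l) * σ = 0 := by
      by_cases hs : σ = 0
      · exact ⟨-1, 1, by rw [neg_pow_q hF, one_pow], one_pow _, neg_ne_zero.2 one_ne_zero, one_ne_zero,
          by rw [hs]; ring⟩
      · refine ⟨c, -(1 + c) / (c * (l * l) * σ), hc0, ?_, hcne, ?_, ?_⟩
        · rw [div_pow, neg_pow_q hF, add_pow_q hF, one_pow, hc0, mul_pow, mul_pow, mul_pow, hc0, hlq, htr, neg_mul_neg]
        · refine div_ne_zero (neg_ne_zero.2 fun e => hc1 (eq_neg_of_add_eq_zero_right e)) ?_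
          exact mul_ne_zero (mul_ne_zero hcne (mul_ne_zero hl0 hl0)) hs
        · field_simp; ring
    set X := ((1 + b) * l) • (1 : Matrix (Fin 2) (Fin 2) F) + (a * b * (l * l) * l) • M with hX
    have hXC : X * C = 0 := by
      rw [hX, Matrix.add_mul, Matrix.smul_mul, Matrix.smul_mul, Matrix.one_mul, hMC, hCK, smul_smul, ← add_smul,
        show (1 + b) * l + a * b * (l * l) * l * σ = l * (1 + b + a * b * (l * l) * σ) by ring, hpoly, mul_zero,
        zero_smul]
    have hCX : adj hF C * X = 0 := by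
      rw [hX, Matrix.mul_add, Matrix.mul_smul, Matrix.mul_smul, Matrix.mul_one, hM, ← Matrix.mul_assoc, ← hK, hKC,
        smul_smul, ← add_smul, show (1 + b) * l + a * b * (l * l) * l * σ = l * (1 + b + a * b * (l * l) * σ) by ring,
        hpoly, mul_zero, zero_smul]
    obtain ⟨k, hk, hN2⟩ := finish (adj hF g * Tv hF v ((1 * l) • (1 : Matrix (Fin 2) (Fin 2) F)) * g * (Tv hF u ((a * l) • (1 : Matrix (Fin 2) (Fin 2) F)) *
        (adj hF g * Tv hF v ((b * l) • (1 : Matrix (Fin 2) (Fin 2) F)) * g))) ((a * b * (l * l)) • 1) X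
      (O.mul (hτ (one_pow _)) (O.mul (ht ha) (hτ hb))) (fun D₀ hD => by
        set H₀ := adj hF (cv 2 v) * (g * D₀) with hH₀
        have s0 : D₀ = D₀ + cv 2 u * (0 : Matrix (Fin 2) (Fin 2) F) + (adj hF g * cv 2 v) * (0 : Matrix (Fin 2) (Fin 2) F) := by simp
        conv_lhs => rw [Matrix.mul_assoc, Matrix.mul_assoc (Tv hF u _), s0, step_tau hgg hv, hgi, Matrix.one_mul,
          ← hH₀, Matrix.mul_zero (Cp hF g u v), add_zero, add_assoc (D₀ + _), ← Matrix.mul_add (adj hF g * cv 2 v),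
          zero_add, step_t hu (a * l) hD, step_tau hgg hv, hgi, Matrix.one_mul, ← hH₀, add_assoc (D₀ + _),
          ← Matrix.mul_add (adj hF g * cv 2 v)]
        simp only [← hC, hX, hM, Matrix.smul_mul, Matrix.mul_smul, Matrix.add_mul, Matrix.mul_add, Matrix.one_mul,
          Matrix.mul_assoc, smul_smul, smul_add, zero_add]
        module) hXC hCX
    -- the action is not scalar
    have hR : 1 + adj hF C * (((a * b * (l * l)) • (1 : Matrix (Fin 2) (Fin 2) F)) * C) = 1 + (a * b * (l * l)) • K := by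
      rw [Matrix.smul_mul, Matrix.one_mul, Matrix.mul_smul, hK]
    rw [hR] at hk
    set μ := a * b * (l * l)
    have hμ : μ ≠ 0 := mul_ne_zero (mul_ne_zero ha0 hb0) (mul_ne_zero hl0 hl0)
    set N := adj hF H * (X * H) with hNdef
    have hlin : ∀ x y : F, x • (1 : Matrix (Fin 2) (Fin 2) F) + y • K = 0 → x = 0 ∧ y = 0 := by
      intro x y e
      by_cases hy : y = 0
      · rw [hy, zero_smul, add_zero, smul_eq_zero] at e
        exact ⟨e.resolve_right one_ne_zero, hy⟩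
      · exfalso
        refine hns (-x / y) ?_
        rw [div_eq_inv_mul, ← smul_smul, neg_smul, neg_eq_of_add_eq_zero_right e, smul_smul,
          inv_mul_cancel₀ hy, one_smul]
    have hKK : K * K = σ • K := by
      rw [hK, Matrix.mul_assoc, ← hK, hCK, Matrix.mul_smul]
    have hsq : ((1 - k) • (1 : Matrix (Fin 2) (Fin 2) F) + μ • K) * ((1 - k) • 1 + μ • K) = 0 := by
      have : (1 - k) • (1 : Matrix (Fin 2) (Fin 2) F) + μ • K = k • N := by
        rw [sub_smul, one_smul, sub_add_eq_add_sub, hk]; module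
      rw [this, Matrix.smul_mul, Matrix.mul_smul, hN2, smul_zero, smul_zero]
    have hexp : ((1 - k) * (1 - k)) • (1 : Matrix (Fin 2) (Fin 2) F) + (2 * (1 - k) * μ + μ * μ * σ) • K = 0 := by
      rw [← hsq]
      simp only [Matrix.add_mul, Matrix.mul_add, Matrix.smul_mul, Matrix.mul_smul, Matrix.one_mul, Matrix.mul_one,
        hKK, smul_smul]
      module
    obtain ⟨h1, h2⟩ := hlin _ _ hexp
    have hk1 : 1 - k = 0 := mul_self_eq_zero.1 h1
    rw [hk1, mul_zero, zero_mul, zero_add, mul_eq_zero, or_iff_right (mul_ne_zero hμ hμ)] at h2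
    -- nilpotent: the correction vanishes
    have hCC : M = 0 := by
      by_contra hne
      apply hK0
      ext i j
      have e : K i j • C = C * (Matrix.single j i 1 * adj hF C) * C := by
        rw [sandwich_two hdet0, Matrix.mul_assoc, ← hK, Matrix.trace_mul_comm]
        congr 1
        simp [Matrix.trace, Matrix.mul_apply, Matrix.single_apply, Fin.sum_univ_two]
        fin_cases i <;> fin_cases j <;> simp
      have e2 : K i j • M = 0 := by
        rw [hM, ← Matrix.smul_mul, e]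
        simp only [Matrix.mul_assoc]
        rw [← Matrix.mul_assoc (adj hF C) C (adj hF C), ← hK, hKC, h2, zero_smul, Matrix.mul_zero, Matrix.mul_zero]
      exact (smul_eq_zero.1 e2).resolve_right hne
    have hb1 : 1 + b = 0 := by rw [h2, mul_zero, add_zero] at hpoly; exact hpoly
    have hX0 : X = 0 := by rw [hX, hCC, hb1, zero_mul, zero_smul, smul_zero, add_zero]
    rw [hNdef, hX0, Matrix.zero_mul, Matrix.mul_zero, add_zero, ← sub_eq_zero] at hk
    have := (hlin (1 - k) μ (by rw [← hk]; module)).2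
    exact hμ this
  · -- five letters
    have hCu : IsUnit C := (Matrix.isUnit_iff_isUnit_det _).2 (isUnit_iff_ne_zero.2 hdet0)
    have hd : K.det ≠ 0 := by
      rw [hK, Matrix.det_mul, H51.det_adj hF]
      exact mul_ne_zero (pow_ne_zero _ hdet0) hdet0
    set δ := K.det with hδ
    obtain ⟨b₁, b₂, a₁, a₂, hb₁, hb₂, ha₁, ha₂, hb₂0, ha₂0, r0, r1⟩ : ∃ b₁ b₂ a₁ a₂ : F, b₁ ^ q = b₁ ∧
        b₂ ^ q = b₂ ∧ a₁ ^ q = a₁ ∧ a₂ ^ q = a₂ ∧ b₂ ≠ 0 ∧ a₂ ≠ 0 ∧
        b₁ + b₂ + 1 = a₁ * a₂ * b₁ * b₂ * (l * l) * (l * l) * δ ∧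
        (a₂ * b₂ + a₂ * b₁ + a₁ * b₁ * (b₂ + 1)) * (l * l) = -(a₁ * a₂ * b₁ * b₂ * (l * l) * (l * l) * σ) := by
      have hlr : (l * l) ^ q = l * l := by rw [mul_pow, hlq, neg_mul_neg]
      have hll : l * l ≠ 0 := mul_ne_zero hl0 hl0
      by_cases hs : σ = 0
      · refine ⟨1, -1, 1, -(1 / ((l * l) * (l * l) * δ)), one_pow _, by rw [neg_pow_q hF, one_pow], one_pow _, ?_,
          neg_ne_zero.2 one_ne_zero, neg_ne_zero.2 (one_div_ne_zero (mul_ne_zero (mul_ne_zero hll hll) hd)), ?_, ?_⟩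
        · rw [neg_pow_q hF, div_pow, one_pow, mul_pow, mul_pow, hlr, hdet]
        · field_simp; ring
        · rw [hs]; ring
      · have h1c : (1 : F) + c ≠ 0 := fun e => hc1 (eq_neg_of_add_eq_zero_right e)
        have hn : -σ / (δ * (l * l) * (-c) * (1 + c)) ≠ 0 :=
          div_ne_zero (neg_ne_zero.2 hs) (mul_ne_zero (mul_ne_zero (mul_ne_zero hd hll) (neg_ne_zero.2 hcne)) h1c)
        refine ⟨-c, c, -σ / (δ * (l * l) * (-c) * (1 + c)),
          -(1 + c) / ((l * l) * σ * c), by rw [neg_pow_q hF, hc0], hc0, ?_, ?_, hcne,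
          div_ne_zero (neg_ne_zero.2 h1c) (mul_ne_zero (mul_ne_zero hll hs) hcne), ?_, ?_⟩
        · rw [div_pow, neg_pow_q hF, htr, mul_pow, mul_pow, mul_pow, hlr, hdet, neg_pow_q hF, hc0, add_pow_q hF,
            one_pow, hc0]
        · rw [div_pow, mul_pow, mul_pow, neg_pow_q hF, add_pow_q hF, one_pow, hc0, hlr, htr]
        · field_simp; ring
        · field_simp; ring
    set X := ((b₁ + b₂ + 1) * l) • (1 : Matrix (Fin 2) (Fin 2) F) +
      ((a₂ * b₂ + a₂ * b₁ + a₁ * b₁ * (b₂ + 1)) * (l * l) * l) • M +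
      (a₁ * a₂ * b₁ * b₂ * (l * l) * (l * l) * l) • (M * M) with hX
    have hCH := cayley_two K
    rw [← hσ, ← hδ] at hCH
    have hXC : X * C = 0 := by
      rw [hX, r1, r0]
      simp only [Matrix.add_mul, Matrix.smul_mul, Matrix.one_mul, Matrix.mul_assoc, hMC]
      rw [← Matrix.mul_assoc M C K, hMC, Matrix.mul_assoc]
      have : C * (K * K - σ • K + δ • 1) = 0 := by rw [hCH, Matrix.mul_zero]
      simp only [Matrix.mul_add, Matrix.mul_sub, Matrix.mul_smul, Matrix.mul_one] at this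
      linear_combination (norm := module) (a₁ * a₂ * b₁ * b₂ * (l * l) * (l * l) * l) • this
    have hX0 : X = 0 := by
      obtain ⟨U, hU⟩ := hCu
      rw [← hU] at hXC
      exact (Units.mul_left_eq_zero U).1 hXC
    obtain ⟨k, hk, -⟩ := finish (adj hF g * Tv hF v ((b₁ * l) • (1 : Matrix (Fin 2) (Fin 2) F)) * g * (Tv hF u ((a₁ * l) • (1 : Matrix (Fin 2) (Fin 2) F)) *
        (adj hF g * Tv hF v ((b₂ * l) • (1 : Matrix (Fin 2) (Fin 2) F)) * g * (Tv hF u ((a₂ * l) • (1 : Matrix (Fin 2) (Fin 2) F)) * (adj hF g * Tv hF v ((1 * l) • (1 : Matrix (Fin 2) (Fin 2) F)) * g)))))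
      ((((a₂ + a₁ * (b₂ + 1)) * (l * l)) • (1 : Matrix (Fin 2) (Fin 2) F) + (a₁ * a₂ * b₂ * (l * l) * (l * l)) • M))
      X (O.mul (hτ hb₁) (O.mul (ht ha₁) (O.mul (hτ hb₂) (O.mul (ht ha₂) (hτ (one_pow _)))))) (fun D₀ hD => by
        set H₀ := adj hF (cv 2 v) * (g * D₀) with hH₀
        have s0 : D₀ = D₀ + cv 2 u * (0 : Matrix (Fin 2) (Fin 2) F) + (adj hF g * cv 2 v) * (0 : Matrix (Fin 2) (Fin 2) F) := by simp
        conv_lhs => rw [Matrix.mul_assoc, Matrix.mul_assoc (Tv hF u ((a₁ * l) • (1 : Matrix (Fin 2) (Fin 2) F))),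
          Matrix.mul_assoc (adj hF g * Tv hF v ((b₂ * l) • (1 : Matrix (Fin 2) (Fin 2) F)) * g), Matrix.mul_assoc (Tv hF u ((a₂ * l) • (1 : Matrix (Fin 2) (Fin 2) F))), s0,
          step_tau hgg hv, hgi, Matrix.one_mul, ← hH₀, Matrix.mul_zero (Cp hF g u v), add_zero, add_assoc (D₀ + _),
          ← Matrix.mul_add (adj hF g * cv 2 v), zero_add, step_t hu (a₂ * l) hD, step_tau hgg hv, hgi, Matrix.one_mul,
          ← hH₀, add_assoc (D₀ + _), ← Matrix.mul_add (adj hF g * cv 2 v), step_t hu (a₁ * l) hD, step_tau hgg hv, hgi,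
          Matrix.one_mul, ← hH₀, add_assoc (D₀ + _), ← Matrix.mul_add (adj hF g * cv 2 v)]
        simp only [← hC, hX, hM, Matrix.smul_mul, Matrix.mul_smul, Matrix.add_mul, Matrix.mul_add, Matrix.one_mul,
          Matrix.mul_assoc, smul_smul, smul_add, zero_add]
        module) hXC (by rw [hX0, Matrix.mul_zero])
    rw [hX0, Matrix.zero_mul, Matrix.mul_zero, add_zero] at hk
    set R := ((a₂ + a₁ * (b₂ + 1)) * (l * l)) • (1 : Matrix (Fin 2) (Fin 2) F) + (a₁ * a₂ * b₂ * (l * l) * (l * l)) • M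
    have hF1 : b₁ • (1 + adj hF C * (R * C)) + ((b₂ + 1) • (1 : Matrix (Fin 2) (Fin 2) F) + (a₂ * b₂ * (l * l)) • K) = 0 := by
      have e : adj hF C * (R * C) = ((a₂ + a₁ * (b₂ + 1)) * (l * l)) • K + (a₁ * a₂ * b₂ * (l * l) * (l * l)) • (K * K) := by
        simp only [R, hM, hK, Matrix.add_mul, Matrix.mul_add, Matrix.smul_mul, Matrix.mul_smul, Matrix.one_mul,
          Matrix.mul_assoc]
      have hCH' : K * K = σ • K - δ • 1 := by linear_combination (norm := module) hCH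
      rw [e, hCH']
      simp only [smul_add, smul_sub, smul_smul]
      have e1 : b₁ * ((a₂ + a₁ * (b₂ + 1)) * (l * l)) + b₁ * (a₁ * a₂ * b₂ * (l * l) * (l * l) * σ) +
          a₂ * b₂ * (l * l) = 0 := by linear_combination r1
      have e0 : b₁ - b₁ * (a₁ * a₂ * b₂ * (l * l) * (l * l) * δ) + (b₂ + 1) = 0 := by linear_combination r0
      linear_combination (norm := module) congrArg (fun x : F => x • K) e1 +
        congrArg (fun x : F => x • (1 : Matrix (Fin 2) (Fin 2) F)) e0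
    rw [hk, smul_smul, ← add_assoc, ← add_smul] at hF1
    refine hns (-(b₁ * k + (b₂ + 1)) / (a₂ * b₂ * (l * l))) ?_
    rw [div_eq_inv_mul, ← smul_smul, neg_smul, neg_eq_of_add_eq_zero_right hF1, smul_smul,
      inv_mul_cancel₀ (mul_ne_zero (mul_ne_zero ha₂0 hb₂0) (mul_ne_zero hl0 hl0)), one_smul]

end H41.UTen
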