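import Cfsg.Agent.H41.UTen.Three
import Cfsg.Agent.H41.UTen.Descent

/-!
For `U₂ ⊗ U₃`: if every pairing is a similitude, the element is a tensor element.
-/

set_option autoImplicit false
set_option linter.unusedSectionVars false
set_option linter.unusedSimpArgs false

namespace H41.UTen

open Matrix Cfsg H50
open H51 (adj adj_mul adj_add adj_smul adj_one adj_zero adj_adj adj_sub adj_neg adj_apply)

variable {F : Type*} [Field F] [Fintype F] {q : ℕ} {hF : Fintype.card F = q ^ 2}
variable {Mm : Matrix (Fin 2 × Fin 3) (Fin 2 × Fin 3) F → Prop}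

/-- An overgroup without pure transvections consists of tensor elements. -/
theorem Ov.all_isT_three (O : Ov hF 2 3 Mm) {g : Matrix (Fin 2 × Fin 3) (Fin 2 × Fin 3) F} (hg : Mm g) : IsT g := by
  classical
  have hq := q_ne_zero hF
  by_contra hgT
  obtain ⟨u, hu0, hu⟩ := exists_isotropic hF (n := 3) (by norm_num)
  obtain ⟨u', hyp⟩ := exists_hyp_partner hF hu0 hu
  obtain ⟨dd, hd, hdv⟩ := exists_completion hF (hyp.gramND hF)
  let k₀ : Fin (3 - Fintype.card (Fin 2)) := ⟨0, by rw [Fintype.card_fin]; omega⟩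
  set d := dd k₀
  have hddd : hermForm 3 F q d d = 1 := (hd k₀ k₀).trans (if_pos rfl)
  have hdu : hermForm 3 F q d u = 0 := hdv k₀ 0
  have hdu' : hermForm 3 F q d u' = 0 := hdv k₀ 1
  have huu' : hermForm 3 F q u u' = 1 := hyp.2.2
  have hu'u : hermForm 3 F q u' u = 1 := (hyp.symm hF).2.2
  have hu'u' : hermForm 3 F q u' u' = 0 := hyp.2.1
  have hud : hermForm 3 F q u d = 0 := (h_eq_zero_comm hF).1 hdu
  have hu'd : hermForm 3 F q u' d = 0 := (h_eq_zero_comm hF).1 hdu'
  -- the decomposition of a vector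
  have hli : LinearIndependent F ![u, u', d] := by
    rw [Fintype.linearIndependent_iff]
    intro c hc
    simp only [Fin.sum_univ_three, Matrix.cons_val_zero, Matrix.cons_val_one, Matrix.cons_val] at hc
    have e := fun y => congrArg (fun x => hermForm 3 F q x y) hc
    simp only [h_add_left, h_smul_left, h_zero_left] at e
    have e0 := e u'
    have e1 := e u
    have e2 := e d
    simp only [huu', hu'u', hdu', hu, hu'u, hdu, hud, hu'd, hddd, mul_zero, mul_one, add_zero, zero_add] at e0 e1 e2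
    intro i
    fin_cases i
    exacts [e0, e1, e2]
  have hres : cv 2 u * adj hF (cv 2 u') + cv 2 u' * adj hF (cv 2 u) + cv 2 d * adj hF (cv 2 d) =
      (1 : Matrix (Fin 2 × Fin 3) (Fin 2 × Fin 3) F) := by
    refine mat_ext_cv fun x => ?_
    rw [Matrix.one_mul, Matrix.add_mul, Matrix.add_mul, Matrix.mul_assoc, Matrix.mul_assoc, Matrix.mul_assoc,
      adj_cv_mul hF, adj_cv_mul hF, adj_cv_mul hF, Matrix.mul_smul, Matrix.mul_smul, Matrix.mul_smul,
      Matrix.mul_one, Matrix.mul_one, Matrix.mul_one, ← cv_smul, ← cv_smul, ← cv_smul, ← cv_add, ← cv_add]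
    congr 1
    set y := hermForm 3 F q x u' • u + hermForm 3 F q x u • u' + hermForm 3 F q x d • d with hy
    have hperp : y - x ∈ perp q (Set.range ![u, u', d]) := mem_perp_range.2 fun t => by
      fin_cases t <;>
        simp [hy, h_sub_left, h_add_left, h_smul_left, hu, hu'u, hdu, huu', hu'u', hdu', hud, hu'd, hddd]
    have h0 := finrank_perp_range hF hli
    rw [Fintype.card_fin] at h0
    have hb : perp q (Set.range ![u, u', d]) = ⊥ := Submodule.finrank_eq_zero.1 (by omega)
    rw [hb, Submodule.mem_bot, sub_eq_zero] at hperp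
    exact hperp
  -- pairings do not vanish
  have hzero : ∀ {h : Matrix (Fin 2 × Fin 3) (Fin 2 × Fin 3) F} {w z : Fin 3 → F}, Mm h → ¬ IsT h → w ≠ 0 →
      hermForm 3 F q w w = 0 → z ≠ 0 → hermForm 3 F q z z = 0 → Cp hF h w z ≠ 0 := fun hh hhT hw0 hw hz0 hz e =>
    hhT (O.isT_of_zero hh hw0 hw hz0 hz e fun hl0 hT => O.isT_of_root (O.good hh) hw0 hw hl0 hT)
  have hgram : ∀ v, v ≠ 0 → hermForm 3 F q v v = 0 →
      ∃ t : F, t ≠ 0 ∧ adj hF (Cp hF g u v) * Cp hF g u v = t • 1 := by
    intro v hv0 hv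
    obtain ⟨t, ht⟩ := O.scalar_gram hg hu0 hu huu' hdu hddd hv hres
    refine ⟨t, fun t0 => ?_, ht⟩
    rw [t0, zero_smul] at ht
    obtain ⟨l, hl0, hl⟩ := exists_trace_zero_ne_zero hF
    have hgs : ¬ IsT (adj hF g) := fun h => hgT (by simpa [adj_adj] using h.adj hF)
    have hτ := O.mul (O.mul (O.star hg) (O.root_mem hv hl)) (O.star (O.star hg))
    have hτT : ¬ IsT (adj hF g * Tv hF v (l • (1 : Matrix (Fin 2) (Fin 2) F)) * adj hF (adj hF g)) := fun h =>
      hgs (O.isT_of_root (O.good (O.star hg)) hv0 hv hl0 h)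
    refine hzero hτ hτT hu0 hu hu0 hu ?_
    have e : Cp hF (adj hF g * Tv hF v (l • (1 : Matrix (Fin 2) (Fin 2) F)) * adj hF (adj hF g)) u u =
        adj hF (cv 2 u) * cv 2 u + l • (adj hF (Cp hF g u v) * Cp hF g u v) := by
      simp only [Cp, Tv, adj_adj, adj_mul, Matrix.mul_add, Matrix.add_mul, Matrix.mul_one, Matrix.mul_assoc,
        Matrix.smul_mul, Matrix.mul_smul, Matrix.one_mul]
      rw [← Matrix.mul_assoc (adj hF g) g, O.uni hg, Matrix.one_mul]
    rw [e, ht, smul_zero, add_zero]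
    exact adj_cv_zero_of_perp hF hu
  set U := g * cv 2 u with hU
  obtain ⟨k, hk0, hk⟩ := hgram u hu0 hu
  set C₁ := Cp hF g u u with hC₁
  have hCC : C₁ * adj hF C₁ = k • 1 := by
    have h1 : (k⁻¹ • adj hF C₁) * C₁ = 1 := by
      rw [Matrix.smul_mul, hk, smul_smul, inv_mul_cancel₀ hk0, one_smul]
    have h2 := mul_eq_one_comm.1 h1
    rw [Matrix.mul_smul] at h2
    rw [← h2, smul_smul, mul_inv_cancel₀ hk0, one_smul]
  have hkq : k ^ q = k := by
    have h1 := congrArg (adj hF) hk
    rw [adj_mul, adj_adj, adj_smul, adj_one, hk] at h1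
    have h2 := congrFun (congrFun h1 0) 0
    simpa using h2.symm
  set A := Cp hF g u u' * adj hF C₁ with hA
  set D := Cp hF g u d * adj hF C₁ with hD
  -- all the translates
  let W : F → F → Matrix (Fin 2) (Fin 2) F := fun z r => A + z ^ q • D + (r ^ q * k) • 1
  have hW : ∀ z r, r + r ^ q + z * z ^ q = 0 → ∃ t : F, adj hF (W z r) * W z r = t • 1 := by
    intro z r hr
    set v := u' + z • d + r • u with hv
    have hvv : hermForm 3 F q v v = 0 := by
      simp only [hv, h_add_left, h_add_right hF, h_smul_left, h_smul_right hF, hu, hu'u, hdu, huu', hu'u', hdu', hud,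
        hu'd, hddd, mul_zero, mul_one, add_zero, zero_add]
      linear_combination hr
    have hv0 : v ≠ 0 := fun e => by
      have h1 := congrArg (fun x => hermForm 3 F q x u) e
      simp [hv, h_add_left, h_smul_left, hu, hu'u, hdu, h_zero_left] at h1
    obtain ⟨t, -, ht⟩ := hgram v hv0 hvv
    have e : W z r = Cp hF g u v * adj hF C₁ := by
      simp only [W, hA, hD, hv, Cp, cv_add, adj_add, adj_cv_smul hF, Matrix.add_mul, Matrix.smul_mul]
      rw [show adj hF (cv 2 u) * (g * cv 2 u) * adj hF C₁ = k • 1 from hCC, smul_smul]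
    refine ⟨t * k, ?_⟩
    rw [e, adj_mul, adj_adj, Matrix.mul_assoc, ← Matrix.mul_assoc (adj hF (Cp hF g u v)), ht, Matrix.smul_mul,
      Matrix.one_mul, Matrix.mul_smul, hCC, smul_smul]
  obtain ⟨l, hl0, hl⟩ := exists_trace_zero_ne_zero hF
  have hlq : l ^ q = -l := by linear_combination hl
  have hsol : ∀ z : F, ∃ r, r + r ^ q + z * z ^ q = 0 := fun z => by
    obtain ⟨r, hr⟩ := exists_trace_eq hF (c := -(z * z ^ q)) (by rw [neg_pow_q hF, mul_pow, pow_q_pow_q hF]; ring)
    exact ⟨r, by linear_combination hr⟩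
  have hskew : ∀ z r, r + r ^ q + z * z ^ q = 0 → ∃ t : F, W z r - adj hF (W z r) = t • 1 := by
    intro z r hr
    obtain ⟨t, ht⟩ := hW z r hr
    obtain ⟨t', ht'⟩ := hW z (r + l) (by rw [add_pow_q hF, hlq]; linear_combination hr)
    have e : W z (r + l) = W z r - (l * k) • 1 := by
      simp only [W, add_pow_q hF, hlq, add_mul, neg_mul, add_smul, neg_smul]
      abel
    have ek : (l * k) ^ q = -(l * k) := by rw [mul_pow, hlq, hkq]; ring
    rw [e, adj_sub, adj_smul, adj_one, ek, neg_smul, sub_neg_eq_add, Matrix.add_mul, Matrix.mul_sub, Matrix.mul_sub,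
      ht] at ht'
    simp only [Matrix.smul_mul, Matrix.mul_smul, Matrix.one_mul, Matrix.mul_one, smul_smul] at ht'
    refine ⟨(l * k)⁻¹ * (t' - t + l * k * (l * k)), ?_⟩
    rw [← smul_smul, eq_comm, inv_smul_eq_iff₀ (mul_ne_zero hl0 hk0)]
    linear_combination (norm := module) -(1 : F) • ht'
  obtain ⟨σ₀, hσ₀⟩ := hskew 0 0 (by simp [zero_pow hq])
  have hA0 : W 0 0 = A := by simp [W, zero_pow hq]
  rw [hA0] at hσ₀
  obtain ⟨δ, hδ⟩ : ∃ δ : F, D = δ • 1 := scalar_of_skew_part hF D fun θ => by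
    obtain ⟨r, hr⟩ := hsol θ
    obtain ⟨t, ht⟩ := hskew θ r hr
    simp only [W, adj_add, adj_smul, adj_one, pow_q_pow_q hF, mul_pow, hkq] at ht
    refine ⟨t - σ₀ - r ^ q * k + r * k, ?_⟩
    linear_combination (norm := module) ht - hσ₀
  have hAsc : ∃ α : F, A = α • 1 := by
    by_contra hns
    simp only [not_exists] at hns
    obtain ⟨t₀, ht₀⟩ := hW 0 0 (by simp [zero_pow hq])
    rw [hA0] at ht₀
    have htr : ∀ z, z ^ q * δ + z * δ ^ q = k * (z * z ^ q) := by
      intro z
      obtain ⟨r, hr⟩ := hsol z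
      obtain ⟨t, ht⟩ := hW z r hr
      set e := z ^ q * δ + r ^ q * k with he
      have hWe : W z r = A + e • 1 := by simp only [W, hδ, smul_smul, he, add_smul]; abel
      have hAd : adj hF A = A - σ₀ • 1 := by linear_combination (norm := module) -(1 : F) • hσ₀
      rw [hWe, adj_add, adj_smul, adj_one, Matrix.add_mul, Matrix.mul_add, Matrix.mul_add, ht₀] at ht
      simp only [Matrix.smul_mul, Matrix.mul_smul, Matrix.one_mul, Matrix.mul_one, hAd, smul_smul, smul_sub] at ht
      have h0 : e + e ^ q = 0 := by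
        by_contra hne
        refine hns ((e + e ^ q)⁻¹ * (t - t₀ + e * σ₀ - e ^ q * e)) ?_
        rw [← smul_smul, eq_comm, inv_smul_eq_iff₀ hne]
        linear_combination (norm := module) -(1 : F) • ht
      rw [he, add_pow_q hF, mul_pow, mul_pow, pow_q_pow_q hF, pow_q_pow_q hF, hkq] at h0
      linear_combination h0 - k * hr
    obtain ⟨κ, hκ, hκ1, hκ2⟩ := UDec.exists_circ_sq_ne_one hF
    have hκ0 := hκ.ne_zero
    have e0 : δ + δ ^ q = k := by simpa using htr 1
    have e1 : κ⁻¹ * δ + κ * δ ^ q = k := by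
      have := htr κ
      rwa [show κ * κ ^ q = 1 from hκ, mul_one, hκ.pow_q] at this
    have e2 : (κ * κ)⁻¹ * δ + κ * κ * δ ^ q = k := by
      have := htr (κ * κ)
      rwa [show κ * κ * (κ * κ) ^ q = 1 from hκ.mul hκ, mul_one, (hκ.mul hκ).pow_q] at this
    have f1 : δ + κ * κ * δ ^ q = κ * k := by rw [← e1]; field_simp
    have f2 : δ + κ * κ * (κ * κ) * δ ^ q = κ * κ * k := by rw [← e2]; field_simp
    have a1 : κ * δ ^ q - δ = 0 :=
      (mul_eq_zero.1 (show (κ - 1) * (κ * δ ^ q - δ) = 0 by linear_combination f1 - κ * e0)).resolve_left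
        (sub_ne_zero.2 hκ1)
    have a3 : κ * κ * κ * δ ^ q - δ = 0 :=
      (mul_eq_zero.1 (show (κ - 1) * (κ * κ * κ * δ ^ q - δ) = 0 by linear_combination f2 - κ * f1)).resolve_left
        (sub_ne_zero.2 hκ1)
    have h2 : (κ * κ - 1) * (κ * δ ^ q) = 0 := by linear_combination a3 - a1
    have hdq : δ ^ q = 0 := ((mul_eq_zero.1 ((mul_eq_zero.1 h2).resolve_left (sub_ne_zero.2 hκ2))).resolve_left hκ0)
    rw [hdq, eq_zero_of_pow_eq_zero hdq] at e0
    exact hk0 (by linear_combination -e0)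
  obtain ⟨α, hα⟩ := hAsc
  -- the image of the column is a column
  have hCu' : Cp hF g u u' = (α / k) • C₁ := by
    have := congrArg (· * C₁) hα
    simp only [hA, Matrix.mul_assoc, hk, Matrix.mul_smul, Matrix.mul_one, Matrix.smul_mul, Matrix.one_mul] at this
    rw [div_eq_inv_mul, ← smul_smul, ← this, smul_smul, inv_mul_cancel₀ hk0, one_smul]
  have hCd : Cp hF g u d = (δ / k) • C₁ := by
    have := congrArg (· * C₁) hδ
    simp only [hD, Matrix.mul_assoc, hk, Matrix.mul_smul, Matrix.mul_one, Matrix.smul_mul, Matrix.one_mul] at this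
    rw [div_eq_inv_mul, ← smul_smul, ← this, smul_smul, inv_mul_cancel₀ hk0, one_smul]
  set w := (α / k) • u + u' + (δ / k) • d with hw
  have hUw : U = cv 2 w * C₁ := by
    calc U = (cv 2 u * adj hF (cv 2 u') + cv 2 u' * adj hF (cv 2 u) + cv 2 d * adj hF (cv 2 d)) * U := by
          rw [hres, Matrix.one_mul]
      _ = cv 2 u * Cp hF g u u' + cv 2 u' * C₁ + cv 2 d * Cp hF g u d := by
          simp only [Cp, hC₁, hU, Matrix.add_mul, Matrix.mul_assoc]
      _ = cv 2 w * C₁ := by
          simp only [hw, cv_add, cv_smul, Matrix.add_mul, Matrix.smul_mul, Matrix.mul_smul, hCu', hCd]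
  have hwu : hermForm 3 F q w u = 1 := by simp [hw, h_add_left, h_smul_left, hu, hu'u, hdu]
  have hw0 : w ≠ 0 := fun e => by rw [e, h_zero_left] at hwu; exact zero_ne_one hwu
  have hww : hermForm 3 F q w w = 0 := by
    have h1 : adj hF U * U = 0 := by
      rw [hU, adj_mul, Matrix.mul_assoc, ← Matrix.mul_assoc (adj hF g), O.uni hg, Matrix.one_mul,
        adj_cv_zero_of_perp hF hu]
    rw [hUw, adj_mul, Matrix.mul_assoc, ← Matrix.mul_assoc (adj hF (cv 2 w)), adj_cv_mul hF, Matrix.smul_mul,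
      Matrix.one_mul, Matrix.mul_smul, hk, smul_smul, smul_eq_zero, or_iff_left one_ne_zero, mul_eq_zero] at h1
    exact h1.resolve_right hk0
  exact hgT (O.isT_of_map (O.good hg) hu0 hu hw0 hww (L := C₁) (by rw [← hU, hUw]))

end H41.UTen
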